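import Cfsg.Agent.H43.JTwo.Invol

/-!
The two classes of involutions of `G`.
-/

set_option autoImplicit false
set_option linter.style.haveILetI false
set_option linter.unusedSectionVars false
set_option linter.unusedSimpArgs false

namespace Cfsg.Agent.H43.JTwo

open Subgroup

variable {G : Type*} [Group G] [Finite G]

namespace Coord

variable {z : G} {Q : Subgroup G}

/-- `C` contains a Sylow 2-subgroup of `G`, of order 128. -/
theorem exists_sylow (D : Coord z Q) :
    ∃ P : Sylow 2 G, Nat.card (P : Subgroup G) = 128 ∧ (P : Subgroup G) ≤ centralizer ({z} : Set G) ∧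
      Q ≤ (P : Subgroup G) := by
  haveI : Fact (Nat.Prime 2) := ⟨Nat.prime_two⟩
  set C := centralizer ({z} : Set G) with hC
  have hQ2 : IsPGroup 2 (Q.subgroupOf C) := by
    refine IsPGroup.of_card (n := 5) ?_
    rw [Nat.card_congr (subgroupOfEquivOfLe D.base.le).toEquiv, D.base.card]; norm_num
  obtain ⟨S, hS⟩ := hQ2.exists_le_sylow
  have hScard : Nat.card (S : Subgroup C) = 128 := by
    rw [S.card_eq_multiplicity, D.base.cardC,
      show (1920 : ℕ).factorization 2 = 7 from ?_]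
    · norm_num
    · rw [show (1920 : ℕ) = 2 ^ 7 * 15 by norm_num, Nat.factorization_mul (by norm_num) (by norm_num),
        Finsupp.add_apply, Nat.Prime.factorization_pow Nat.prime_two, Finsupp.single_eq_same,
        Nat.factorization_eq_zero_of_not_dvd (by norm_num : ¬ 2 ∣ 15)]
  set P := (S : Subgroup C).map C.subtype with hP
  have hPcard : Nat.card P = 128 := by
    rw [hP, ← Nat.card_congr ((S : Subgroup C).equivMapOfInjective _ C.subtype_injective).toEquiv, hScard]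
  have hPC : P ≤ C := map_subtype_le _
  have hQP : Q ≤ P := fun q hq => ⟨⟨q, D.base.le hq⟩, hS hq, rfl⟩
  have h256 : ¬ 2 ^ 8 ∣ Nat.card G := by
    intro hd
    obtain ⟨R, hR, hPR⟩ := Sylow.exists_subgroup_card_pow_succ (p := 2) (n := 7) hd
      (H := P) (by rw [hPcard]; norm_num)
    have hRC : R ≤ C := by
      intro r hr
      have hn : r ∈ normalizer (P : Set G) := by
        have hidx : (P.subgroupOf R).index = 2 := by
          have := (P.subgroupOf R).card_mul_index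
          rw [Nat.card_congr (subgroupOfEquivOfLe hPR).toEquiv, hPcard, hR] at this
          omega
        haveI := normal_of_index_eq_two hidx
        exact le_normalizer_of_normal_subgroupOf hPR hr
      rw [hC, mem_centralizer_singleton_iff, ← mul_inv_eq_iff_eq_mul]
      have hzP : z ∈ P := hQP D.base.hzQ
      have hc : ∀ p ∈ P, p * (r * z * r⁻¹) = (r * z * r⁻¹) * p := by
        intro p hp
        have hp' : r⁻¹ * p * r ∈ P := by
          have := (mem_normalizer_iff.mp (inv_mem hn) p).mp hp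
          simpa using this
        have := mem_centralizer_singleton_iff.mp (hPC hp')
        calc p * (r * z * r⁻¹) = r * ((r⁻¹ * p * r) * z) * r⁻¹ := by group
          _ = r * (z * (r⁻¹ * p * r)) * r⁻¹ := by rw [this]
          _ = _ := by group
      rcases D.base.cQ (r * z * r⁻¹) (fun q hq => hc q (hQP hq)) with e | e
      · exact absurd (conj_eq_one_iff.mp e) D.base.z_ne_one
      · exact e
    have := card_dvd_of_le hRC
    rw [hR, hC, D.base.cardC] at this
    norm_num at this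
  have hp : IsPGroup 2 P := IsPGroup.of_card (n := 7) (by rw [hPcard]; norm_num)
  obtain ⟨T, hT⟩ := hp.exists_le_sylow
  have hTP : (T : Subgroup G) = P := by
    obtain ⟨k, hk⟩ := IsPGroup.iff_card.mp T.isPGroup'
    have hk8 : k < 8 := by
      by_contra hk8
      exact h256 ((pow_dvd_pow 2 (not_lt.mp hk8)).trans (hk ▸ card_subgroup_dvd_card _))
    refine (eq_of_le_of_card_ge hT ?_).symm
    rw [hk, hPcard, show (128 : ℕ) = 2 ^ 7 by norm_num]
    exact Nat.pow_le_pow_right (by norm_num) (by omega)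
  exact ⟨T, by rw [hTP, hPcard], hTP.symm ▸ hPC, hTP.symm ▸ hQP⟩

/-- Every involution is conjugate into `C`. -/
theorem exists_conj_into (D : Coord z Q) {x : G} (hx : x * x = 1) :
    ∃ g : G, g * x * g⁻¹ * z = z * (g * x * g⁻¹) := by
  haveI : Fact (Nat.Prime 2) := ⟨Nat.prime_two⟩
  obtain ⟨P, -, hP, -⟩ := D.exists_sylow
  have hx2 : IsPGroup 2 (zpowers x) := by
    intro a
    obtain ⟨k, hk⟩ := mem_zpowers_iff.mp a.2
    refine ⟨1, Subtype.ext ?_⟩
    push_cast
    rw [pow_two, ← hk, ← (Commute.refl x).mul_zpow, hx, one_zpow]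
  obtain ⟨T, hT⟩ := hx2.exists_le_sylow
  obtain ⟨g, hg⟩ := MulAction.exists_smul_eq G T P
  refine ⟨g, mem_centralizer_singleton_iff.mp (hP ?_)⟩
  rw [← hg, Sylow.coe_subgroup_smul, mem_pointwise_smul_iff_inv_smul_mem, MulAut.smul_def]
  simp only [← map_inv, MulAut.conj_apply, inv_inv]
  convert hT (mem_zpowers x) using 1
  group

end Coord

/-- Coordinates together with the existence of a second class of involutions. -/
structure JSet (z : G) (Q : Subgroup G) extends Coord z Q where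
  two : ∃ x y : G, orderOf x = 2 ∧ orderOf y = 2 ∧ ¬ IsConj x y
  conj : ∀ i, IsConj z (s i)

namespace JSet

variable {z : G} {Q : Subgroup G}

/-- Conjugates of `z`. -/
theorem conj_zs (D : JSet z Q) (i : Fin 5) : IsConj z (z * D.s i) := by
  obtain ⟨j, hj⟩ : ∃ j : Fin 5, i ≠ j := ⟨i + 1, by revert i; decide⟩
  refine (D.conj i).trans (isConj_iff.mpr ⟨D.s j, ?_⟩)
  rw [D.noncomm i j hj, mul_inv_eq_iff_eq_mul, mul_assoc]

theorem isConj_of_invol (D : JSet z Q) {q : G} (hq : q ∈ Q) (h : q * q = 1) (h1 : q ≠ 1) : IsConj z q := by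
  rcases D.invol_cases hq h with e | rfl | ⟨i, rfl | rfl⟩
  · exact absurd e h1
  · exact IsConj.refl _
  · exact D.conj i
  · exact D.conj_zs i

/-- An involution of `C` lies in `Q` exactly when it is conjugate to `z`. -/
theorem conj_iff (D : JSet z Q) {x : G} (hx : x * x = 1) (hx1 : x ≠ 1) (hxc : x * z = z * x) :
    IsConj z x ↔ x ∈ Q := by
  refine ⟨fun hconj => ?_, fun h => D.isConj_of_invol h hx hx1⟩
  by_contra hxQ
  obtain ⟨a, b, ha, hb, hab⟩ := D.two
  apply hab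
  suffices ∀ w : G, orderOf w = 2 → IsConj z w from (this a ha).symm.trans (this b hb)
  intro w hw
  have hww : w * w = 1 := by rw [← pow_two, ← hw, pow_orderOf_eq_one]
  obtain ⟨g, hg⟩ := D.exists_conj_into hww
  have hg2 : g * w * g⁻¹ * (g * w * g⁻¹) = 1 := by
    rw [show g * w * g⁻¹ * (g * w * g⁻¹) = g * (w * w) * g⁻¹ by group, hww]; group
  have hg1 : g * w * g⁻¹ ≠ 1 := fun e => by rw [conj_eq_one_iff.mp e, orderOf_one] at hw; omega
  refine IsConj.trans ?_ (isConj_iff.mpr ⟨g, rfl⟩).symm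
  by_cases hQ : g * w * g⁻¹ ∈ Q
  · exact D.isConj_of_invol hQ hg2 hg1
  · obtain ⟨c, -, e⟩ := D.conj_in_C hx hxc hxQ hg2 hg hQ
    exact hconj.trans (isConj_iff.mpr ⟨c, e⟩)

/-- Two involutions not conjugate to `z` are conjugate. -/
theorem conj_of_not (D : JSet z Q) {t u : G} (ht : t * t = 1) (ht1 : t ≠ 1) (htz : ¬ IsConj z t)
    (hu : u * u = 1) (hu1 : u ≠ 1) (huz : ¬ IsConj z u) : IsConj t u := by
  have key : ∀ {x : G}, x * x = 1 → x ≠ 1 → ¬ IsConj z x →
      ∃ x', IsConj x x' ∧ x' * x' = 1 ∧ x' * z = z * x' ∧ x' ∉ Q := by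
    intro x hx hx1 hxz
    obtain ⟨g, hg⟩ := D.exists_conj_into hx
    have hx2 : g * x * g⁻¹ * (g * x * g⁻¹) = 1 := by
      rw [show g * x * g⁻¹ * (g * x * g⁻¹) = g * (x * x) * g⁻¹ by group, hx]; group
    refine ⟨_, isConj_iff.mpr ⟨g, rfl⟩, hx2, hg, fun hQ => hxz ?_⟩
    exact (D.isConj_of_invol hQ hx2 (fun e => hx1 (conj_eq_one_iff.mp e))).trans
      (isConj_iff.mpr ⟨g, rfl⟩).symm
  obtain ⟨t', h1, h2, h3, h4⟩ := key ht ht1 htz
  obtain ⟨u', k1, k2, k3, k4⟩ := key hu hu1 huz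
  obtain ⟨c, -, e⟩ := D.conj_in_C h2 h3 h4 k2 k3 k4
  exact (h1.trans (isConj_iff.mpr ⟨c, e⟩)).trans k1.symm

/-- There is an involution of `C` outside `Q`. -/
theorem exists_t (D : JSet z Q) : ∃ t : G, t * t = 1 ∧ t * z = z * t ∧ t ∉ Q := by
  obtain ⟨a, b, ha, hb, hab⟩ := D.two
  by_contra hne
  push Not at hne
  apply hab
  suffices ∀ w : G, orderOf w = 2 → IsConj z w from (this a ha).symm.trans (this b hb)
  intro w hw
  obtain ⟨g, hg⟩ := D.exists_conj_into (x := w) (by rw [← pow_two, ← hw, pow_orderOf_eq_one])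
  have hg2 : g * w * g⁻¹ * (g * w * g⁻¹) = 1 := by
    rw [← pow_two, conj_pow, ← hw, pow_orderOf_eq_one]; group
  exact (D.isConj_of_invol (hne _ hg2 hg) hg2
    (fun e => by rw [conj_eq_one_iff.mp e, orderOf_one] at hw; omega)).trans
      (isConj_iff.mpr ⟨g, rfl⟩).symm

theorem notMem_of_not_conj (D : JSet z Q) {t : G} (ht : t * t = 1) (ht1 : t ≠ 1) (htc : t * z = z * t)
    (htz : ¬ IsConj z t) : t ∉ Q := fun h => htz ((D.conj_iff ht ht1 htc).mpr h)

theorem not_conj_of_notMem (D : JSet z Q) {t : G} (ht : t * t = 1) (htc : t * z = z * t)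
    (htQ : t ∉ Q) : ¬ IsConj z t :=
  fun h => htQ ((D.conj_iff ht (fun e => htQ (e ▸ one_mem Q)) htc).mp h)

end JSet

theorem Coord.exists_jset {z : G} {Q : Subgroup G} (D : Coord z Q)
    (hnwc : ∃ g : G, g * z * g⁻¹ ∈ Q ∧ g * z * g⁻¹ ≠ z)
    (hcl : ∃ x y : G, orderOf x = 2 ∧ orderOf y = 2 ∧ ¬ IsConj x y) : Nonempty (JSet z Q) := by
  obtain ⟨g, hgQ, hgz⟩ := hnwc
  have hzg : IsConj z (g * z * g⁻¹) := isConj_iff.mpr ⟨g, rfl⟩
  have hgg : g * z * g⁻¹ * (g * z * g⁻¹) = 1 := by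
    rw [show g * z * g⁻¹ * (g * z * g⁻¹) = g * (z * z) * g⁻¹ by group, D.base.zz]; group
  rcases D.invol_cases hgQ hgg with e | e | ⟨k, hk⟩
  · exact absurd (conj_eq_one_iff.mp e) D.base.z_ne_one
  · exact absurd e hgz
  have flip : ∀ k, IsConj (D.s k) (z * D.s k) := fun k => by
    obtain ⟨j, hj⟩ : ∃ j : Fin 5, k ≠ j := ⟨k + 1, by revert k; decide⟩
    exact isConj_iff.mpr ⟨D.s j, by rw [D.noncomm k j hj, mul_inv_eq_iff_eq_mul, mul_assoc]⟩
  have hk' : IsConj z (D.s k) := by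
    rcases hk with e | e
    · exact e ▸ hzg
    · exact (e ▸ hzg).trans (flip k).symm
  refine ⟨{ toCoord := D, two := hcl, conj := fun l => ?_ }⟩
  have hperm : ∀ k l : Fin 5, ∃ σ : Equiv.Perm (Fin 5), Equiv.Perm.sign σ = 1 ∧ σ k = l := by
    decide +kernel
  obtain ⟨σ, hσ, hσl⟩ := hperm k l
  obtain ⟨c, hc, hcσ⟩ := D.exists_pm hσ
  have h := D.pm_spec hc k
  rw [hcσ, hσl] at h
  have hck : IsConj z (c * D.s k * c⁻¹) := hk'.trans (isConj_iff.mpr ⟨c, rfl⟩)
  rcases h with e | e <;> rw [e] at hck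
  · exact hck
  · exact hck.trans (flip l).symm

theorem jset_of {z : G} (hz : orderOf z = 2) (Q : Subgroup (centralizer ({z} : Set G))) [Q.Normal]
    (hF : Cfsg.generalizedFittingSubgroup (centralizer ({z} : Set G)) = Q)
    (hQ : Cfsg.IsExtraspecial 2 Q) (hcard : Nat.card Q = 2 ^ 5)
    (e : (centralizer ({z} : Set G)) ⧸ Q ≃*
      Cfsg.Omega (ZMod 2) (Cfsg.quadFormMinus 1 (ZMod 2) 1 1))
    (hnwc : ∃ g : G, (∃ hq : g * z * g⁻¹ ∈ centralizer ({z} : Set G),
      (⟨g * z * g⁻¹, hq⟩ : centralizer ({z} : Set G)) ∈ Q) ∧ g * z * g⁻¹ ≠ z)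
    (hcl : ∃ x y : G, orderOf x = 2 ∧ orderOf y = 2 ∧ ¬ IsConj x y) :
    Nonempty (JSet z (Q.map (centralizer ({z} : Set G)).subtype)) := by
  obtain ⟨D⟩ := (setup_of hz Q hF hQ hcard e hnwc).exists_coord
  obtain ⟨g, ⟨hq, hm⟩, hne⟩ := hnwc
  exact D.exists_jset ⟨g, ⟨⟨g * z * g⁻¹, hq⟩, hm, rfl⟩, hne⟩ hcl

end Cfsg.Agent.H43.JTwo
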