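import Cfsg.Agent.H43.JTwo.Coord

/-!
The commutation coordinates `β : Q → (Fin 5 → ZMod 2)`.
-/

set_option autoImplicit false
set_option linter.style.haveILetI false
set_option linter.unusedSectionVars false
set_option linter.unusedSimpArgs false

namespace Cfsg.Agent.H43.JTwo

open Subgroup

variable {G : Type*} [Group G] [Finite G]

open scoped Classical in
/-- Whether two elements fail to commute. -/
noncomputable def eps (a b : G) : ZMod 2 := if a * b = b * a then 0 else 1

theorem eps_zero_iff {a b : G} : eps a b = 0 ↔ a * b = b * a := by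
  unfold eps; split_ifs with h <;> simp [h]

theorem eps_one_iff {a b : G} : eps a b = 1 ↔ a * b ≠ b * a := by
  unfold eps; split_ifs with h <;> simp [h]

theorem eps_comm (a b : G) : eps a b = eps b a := by
  classical
  unfold eps; exact if_congr eq_comm rfl rfl

/-- The even vectors. -/
def Even5 (v : Fin 5 → ZMod 2) : Prop := ∑ i, v i = 0

instance (v : Fin 5 → ZMod 2) : Decidable (Even5 v) := by unfold Even5; infer_instance

/-- The quadratic form. -/
def qval (v : Fin 5 → ZMod 2) : ZMod 2 :=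
  if (Finset.univ.filter fun i => v i = 1).card = 2 then 1 else 0

theorem qval_add : ∀ a b : Fin 5 → ZMod 2, Even5 a → Even5 b →
    qval (a + b) = qval a + qval b + ∑ i, a i * b i := by decide +kernel

theorem qval_zero_cases : ∀ a : Fin 5 → ZMod 2, Even5 a → qval a = 0 →
    a = 0 ∨ ∃ i, ∀ j, a j = if j = i then 0 else 1 := by decide +kernel

namespace Coord

variable {z : G} {Q : Subgroup G} (D : Coord z Q)

/-- The coordinates. -/
noncomputable def beta (q : G) : Fin 5 → ZMod 2 := fun i => eps q (D.s i)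

/-- The vector `1 + eᵢ`. -/
def sv (i : Fin 5) : Fin 5 → ZMod 2 := fun j => if j = i then 0 else 1

include D in
theorem eps_mul {a b c : G} (ha : a ∈ Q) (hb : b ∈ Q) (hc : c ∈ Q) :
    eps (a * b) c = eps a c + eps b c := by
  have h := D.base
  have za : a * z = z * a := h.zc ha
  rcases h.comm a ha c hc with e1 | e1 <;> rcases h.comm b hb c hc with e2 | e2
  · rw [eps_zero_iff.mpr e1, eps_zero_iff.mpr e2, add_zero, eps_zero_iff, mul_assoc, e2, ← mul_assoc, e1,
      mul_assoc]
  · rw [eps_zero_iff.mpr e1, eps_one_iff.mpr ((h.noncomm_iff hb hc).mpr e2), zero_add, eps_one_iff,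
      h.noncomm_iff (mul_mem ha hb) hc, mul_assoc, e2, ← mul_assoc, za, mul_assoc, ← mul_assoc a c, e1,
      mul_assoc]
  · rw [eps_one_iff.mpr ((h.noncomm_iff ha hc).mpr e1), eps_zero_iff.mpr e2, add_zero, eps_one_iff,
      h.noncomm_iff (mul_mem ha hb) hc, mul_assoc, e2, ← mul_assoc, e1]
    simp [mul_assoc]
  · rw [eps_one_iff.mpr ((h.noncomm_iff ha hc).mpr e1), eps_one_iff.mpr ((h.noncomm_iff hb hc).mpr e2),
      show (1 : ZMod 2) + 1 = 0 by decide, eps_zero_iff, mul_assoc, e2, ← mul_assoc, za, mul_assoc,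
      ← mul_assoc a c, e1]
    simp [mul_assoc, h.mulZ_inv]

include D in
theorem eps_mul_right {a b c : G} (ha : a ∈ Q) (hb : b ∈ Q) (hc : c ∈ Q) :
    eps c (a * b) = eps c a + eps c b := by
  rw [eps_comm, D.eps_mul ha hb hc, eps_comm a, eps_comm b]

include D in
theorem eps_z {q : G} (hq : q ∈ Q) : eps z q = 0 := eps_zero_iff.mpr (D.base.zc hq).symm

theorem beta_mul {a b : G} (ha : a ∈ Q) (hb : b ∈ Q) : D.beta (a * b) = D.beta a + D.beta b :=
  funext fun i => D.eps_mul ha hb (D.mem i)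

theorem beta_one : D.beta 1 = 0 := funext fun i => eps_zero_iff.mpr (by simp)

theorem beta_z : D.beta z = 0 := funext fun i => D.eps_z (D.mem i)

theorem beta_inv {a : G} (ha : a ∈ Q) : D.beta a⁻¹ = D.beta a := by
  funext i
  simp only [beta]
  have := D.eps_mul ha (inv_mem ha) (D.mem i)
  rw [mul_inv_cancel, show eps (1 : G) (D.s i) = 0 from eps_zero_iff.mpr (by simp)] at this
  have h2 : ∀ x y : ZMod 2, (0 : ZMod 2) = x + y → y = x := by decide
  exact h2 _ _ this

theorem beta_zmul {a : G} (ha : a ∈ Q) : D.beta (z * a) = D.beta a := by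
  rw [D.beta_mul D.base.hzQ ha, D.beta_z, zero_add]

theorem beta_mulz {a : G} (ha : a ∈ Q) : D.beta (a * z) = D.beta a := by
  rw [D.beta_mul ha D.base.hzQ, D.beta_z, add_zero]

theorem beta_s (i : Fin 5) : D.beta (D.s i) = sv i := by
  funext j
  simp only [beta, sv]
  by_cases h : j = i
  · rw [if_pos h, h, eps_zero_iff]
  · rw [if_neg h, eps_one_iff]
    exact fun e => D.base.zmul_ne _ (((D.noncomm j i h).symm).trans e)

theorem eq_of_beta_zero {q : G} (hq : q ∈ Q) (h : D.beta q = 0) : q = 1 ∨ q = z := by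
  refine D.base.cQ q fun r hr => ?_
  have : closure (insert z (Set.range D.s)) ≤ centralizer ({q} : Set G) := by
    rw [closure_le]
    rintro x (rfl | ⟨i, rfl⟩)
    · exact mem_centralizer_singleton_iff.mpr (D.base.zc hq).symm
    · exact mem_centralizer_singleton_iff.mpr (eps_zero_iff.mp (congrFun h i)).symm
  exact mem_centralizer_singleton_iff.mp (this (D.gen r hr))

theorem eq_of_beta_eq {q r : G} (hq : q ∈ Q) (hr : r ∈ Q) (h : D.beta q = D.beta r) :
    r = q ∨ r = z * q := by
  have h2 : ∀ x : Fin 5 → ZMod 2, x + x = 0 := by decide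
  rcases D.eq_of_beta_zero (mul_mem hr (inv_mem hq))
    (by rw [D.beta_mul hr (inv_mem hq), D.beta_inv hq, h, h2]) with e | e
  · exact Or.inl (mul_inv_eq_one.mp e)
  · exact Or.inr (mul_inv_eq_iff_eq_mul.mp e)

/-- Induction over the generators. -/
theorem induct (p : G → Prop) (hs : ∀ i, p (D.s i)) (hz : p z) (h1 : p 1)
    (hmul : ∀ a ∈ Q, ∀ b ∈ Q, p a → p b → p (a * b)) {q : G} (hq : q ∈ Q) : p q := by
  have hle : closure (insert z (Set.range D.s)) ≤ Q := (closure_le _).mpr
    (Set.insert_subset_iff.mpr ⟨D.base.hzQ, Set.range_subset_iff.mpr D.mem⟩)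
  have hinv : ∀ x ∈ insert z (Set.range D.s), x⁻¹ = x := by
    rintro x (rfl | ⟨i, rfl⟩)
    · exact D.base.z_inv
    · exact inv_eq_of_mul_eq_one_left (D.ss i)
  suffices ∀ x ∈ closure (insert z (Set.range D.s)), x ∈ Q ∧ p x from (this q (D.gen q hq)).2
  intro x hx
  induction hx using closure_induction_left with
  | one => exact ⟨one_mem _, h1⟩
  | mul_left y hy w hw ih =>
    have hyQ : y ∈ Q := hle (subset_closure hy)
    refine ⟨mul_mem hyQ ih.1, hmul y hyQ w ih.1 ?_ ih.2⟩
    rcases hy with rfl | ⟨i, rfl⟩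
    · exact hz
    · exact hs i
  | inv_mul_cancel y hy w hw ih =>
    have hyQ : y ∈ Q := hle (subset_closure hy)
    rw [hinv y hy]
    refine ⟨mul_mem hyQ ih.1, hmul y hyQ w ih.1 ?_ ih.2⟩
    rcases hy with rfl | ⟨i, rfl⟩
    · exact hz
    · exact hs i

theorem beta_even {q : G} (hq : q ∈ Q) : Even5 (D.beta q) := by
  refine D.induct (fun q => Even5 (D.beta q)) (fun i => ?_) ?_ ?_ (fun a ha b hb h1 h2 => ?_) hq
  · rw [D.beta_s]; revert i; decide
  · rw [D.beta_z]; decide
  · rw [D.beta_one]; decide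
  · rw [D.beta_mul ha hb]
    unfold Even5 at *
    simp only [Pi.add_apply, Finset.sum_add_distrib, h1, h2, add_zero]

/-- The pairing is the dot product. -/
theorem eps_eq {q r : G} (hq : q ∈ Q) (hr : r ∈ Q) : eps q r = ∑ i, D.beta q i * D.beta r i := by
  refine D.induct (fun r => eps q r = ∑ i, D.beta q i * D.beta r i) (fun i => ?_) ?_ ?_
    (fun a ha b hb h1 h2 => ?_) hr
  · rw [D.beta_s]
    have : ∀ v : Fin 5 → ZMod 2, Even5 v → ∀ i, v i = ∑ j, v j * sv i j := by unfold sv; decide +kernel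
    exact this _ (D.beta_even hq) i
  · rw [eps_comm, D.eps_z hq, D.beta_z]; simp
  · rw [eps_zero_iff.mpr (by simp), D.beta_one]; simp
  · rw [D.eps_mul_right ha hb hq, D.beta_mul ha hb, h1, h2]
    simp only [Pi.add_apply, mul_add, Finset.sum_add_distrib]

theorem commute_iff {q r : G} (hq : q ∈ Q) (hr : r ∈ Q) :
    q * r = r * q ↔ ∑ i, D.beta q i * D.beta r i = 0 := by
  rw [← D.eps_eq hq hr, eps_zero_iff]

theorem sq_iff {q : G} (hq : q ∈ Q) : q * q = 1 ↔ qval (D.beta q) = 0 := by
  refine D.induct (fun q => q * q = 1 ↔ qval (D.beta q) = 0) (fun i => ?_) ?_ ?_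
    (fun a ha b hb h1 h2 => ?_) hq
  · rw [D.beta_s, iff_true_left (D.ss i)]
    have : ∀ i : Fin 5, qval (sv i) = 0 := by decide +kernel
    exact this i
  · rw [D.beta_z, iff_true_left D.base.zz]; decide
  · rw [D.beta_one, iff_true_left (one_mul 1)]; decide
  · rw [D.beta_mul ha hb, qval_add _ _ (D.beta_even ha) (D.beta_even hb), ← D.eps_eq ha hb]
    have h := D.base
    have za : a * z = z * a := h.zc ha
    have two : ∀ x y : ZMod 2, (x = 0 ↔ y = 0) → x = y := by decide
    have hne : z ≠ 1 := h.z_ne_one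
    have e0 : a * b * (a * b) = a * (b * a) * b := by group
    rcases h.sq a ha with sa | sa <;> rcases h.sq b hb with sb | sb <;>
      rcases h.comm b hb a ha with cb | cb
    all_goals
      rw [e0, cb]
    all_goals
      first
        | rw [h1.mp sa]
        | rw [show qval (D.beta a) = 1 from by
            refine two _ 1 ⟨fun e => absurd (sa.symm.trans (h1.mpr e)) hne, fun e => absurd e (by decide)⟩]
    all_goals
      first
        | rw [h2.mp sb]
        | rw [show qval (D.beta b) = 1 from by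
            refine two _ 1 ⟨fun e => absurd (sb.symm.trans (h2.mpr e)) hne, fun e => absurd e (by decide)⟩]
    all_goals
      first
        | rw [eps_comm, eps_zero_iff.mpr cb]
        | rw [eps_comm, eps_one_iff.mpr ((h.noncomm_iff hb ha).mpr cb)]
    all_goals
      simp only [mul_assoc, sb, ← mul_assoc a z, za]
      simp [← mul_assoc, sa, za, mul_assoc, hne, h.zz, h.mulZ_inv]
      try decide

theorem sq_ne {q : G} (hq : q ∈ Q) (h : qval (D.beta q) ≠ 0) : q * q = z :=
  (D.base.sq q hq).resolve_left fun e => h ((D.sq_iff hq).mp e)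

include D in
theorem inv_eq {q : G} (hq : q ∈ Q) : q⁻¹ = q ∨ q⁻¹ = z * q := by
  rcases D.base.sq q hq with e | e
  · exact Or.inl (inv_eq_of_mul_eq_one_left e)
  · exact Or.inr (inv_eq_of_mul_eq_one_left (by rw [mul_assoc, e, D.base.zz]))

/-- The involutions of `Q`. -/
theorem invol_cases {q : G} (hq : q ∈ Q) (h : q * q = 1) :
    q = 1 ∨ q = z ∨ ∃ i, q = D.s i ∨ q = z * D.s i := by
  rcases qval_zero_cases _ (D.beta_even hq) ((D.sq_iff hq).mp h) with e | ⟨i, hi⟩
  · rcases D.eq_of_beta_zero hq e with r | r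
    · exact Or.inl r
    · exact Or.inr (Or.inl r)
  · exact Or.inr (Or.inr ⟨i, D.eq_of_beta_eq (D.mem i) hq
      (by rw [D.beta_s]; funext j; rw [hi j]; rfl)⟩)

theorem exists_beta {v : Fin 5 → ZMod 2} (hv : Even5 v) : ∃ q ∈ Q, D.beta q = v := by
  have : ∀ v : Fin 5 → ZMod 2, Even5 v → v = 0 ∨ (∃ i, v = sv i) ∨ ∃ i j, v = sv i + sv j := by
    decide +kernel
  rcases this v hv with rfl | ⟨i, rfl⟩ | ⟨i, j, rfl⟩
  · exact ⟨1, one_mem _, D.beta_one⟩
  · exact ⟨D.s i, D.mem i, D.beta_s i⟩
  · exact ⟨D.s i * D.s j, mul_mem (D.mem i) (D.mem j), by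
      rw [D.beta_mul (D.mem i) (D.mem j), D.beta_s, D.beta_s]⟩

theorem s_ne (i : Fin 5) : D.s i ≠ 1 ∧ D.s i ≠ z := by
  have : ∀ i : Fin 5, sv i ≠ 0 := by decide
  constructor <;> intro e <;> apply this i <;> rw [← D.beta_s, e]
  · exact D.beta_one
  · exact D.beta_z

theorem s_inj {i j : Fin 5} (h : D.s j = D.s i ∨ D.s j = z * D.s i) : j = i := by
  have key : ∀ i j : Fin 5, sv j = sv i → j = i := by decide
  apply key
  rcases h with e | e
  · rw [← D.beta_s, e, D.beta_s]
  · rw [← D.beta_s, e, D.beta_zmul (D.mem i), D.beta_s]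

end Coord

end Cfsg.Agent.H43.JTwo
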