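import Cfsg.Agent.H43.JTwo.Four
import Cfsg.Agent.H92.Pair
import Cfsg.Agent.H65.FourCount

/-!
Sylow 2-subgroup and three-element of the centraliser of the second involution.
-/

set_option autoImplicit false
set_option linter.style.haveILetI false
set_option linter.unusedSectionVars false
set_option linter.unusedSimpArgs false
set_option synthInstance.maxSize 4000

namespace Cfsg.Agent.H43.JTwo

open Subgroup
open scoped commutatorElement

theorem inv5_same_fix : ∀ τ : Equiv.Perm (Fin 5), IsInv5 τ → ∀ σ : Equiv.Perm (Fin 5), IsInv5 σ →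
    ∀ i, τ i = i → σ i = i → σ * τ = τ * σ := by decide +kernel

/-- An involution `t` of `C` outside `Q`, with the involution `a = sᵢ` of `Q` commuting with it. -/
structure TSet {G : Type*} [Group G] [Finite G] {z : G} {Q : Subgroup G} (D : JSet z Q) (t a : G) :
    Prop where
  ht : t * t = 1
  htc : t * z = z * t
  htQ : t ∉ Q
  ha : ∃ i, D.s i = a ∧ D.pm t i = i

theorem JSet.exists_tset {G : Type*} [Group G] [Finite G] {z : G} {Q : Subgroup G} (D : JSet z Q)
    {t : G} (ht : t * t = 1) (htc : t * z = z * t) (htQ : t ∉ Q) : ∃ a, TSet D t a := by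
  obtain ⟨i, hi, -⟩ := Coord.inv5_fix _ (D.pm_inv5 ht htc htQ)
  exact ⟨D.s i, ht, htc, htQ, i, rfl, hi⟩

namespace TSet

variable {G : Type*} [Group G] [Finite G] {z : G} {Q : Subgroup G} {D : JSet z Q} {t a : G}

theorem t_ne_one (T : TSet D t a) : t ≠ 1 := fun e => T.htQ (e ▸ one_mem Q)

theorem t_not_conj (T : TSet D t a) : ¬ IsConj z t := D.not_conj_of_notMem T.ht T.htc T.htQ

theorem a_mem (T : TSet D t a) : a ∈ Q := by obtain ⟨i, rfl, -⟩ := T.ha; exact D.mem i

theorem aa (T : TSet D t a) : a * a = 1 := by obtain ⟨i, rfl, -⟩ := T.ha; exact D.ss i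

theorem a_ne (T : TSet D t a) : a ≠ 1 ∧ a ≠ z := by obtain ⟨i, rfl, -⟩ := T.ha; exact D.s_ne i

theorem za_ne (T : TSet D t a) : z * a ≠ 1 ∧ z * a ≠ z ∧ z * a ≠ a := by
  refine ⟨fun e => T.a_ne.2 ((eq_inv_of_mul_eq_one_right e).trans D.base.z_inv),
    fun e => T.a_ne.1 (mul_eq_left.mp e), D.base.zmul_ne a⟩

theorem az (T : TSet D t a) : a * z = z * a := D.base.zc T.a_mem

theorem ta (T : TSet D t a) : t * a = a * t := by
  obtain ⟨i, rfl, hi⟩ := T.ha
  exact (D.commute_iff_t T.ht T.htc T.htQ hi (D.mem i)).mpr (by simp)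

theorem za_sq (T : TSet D t a) : z * a * (z * a) = 1 := by
  rw [mul_assoc, ← mul_assoc a z, T.az, mul_assoc z a, T.aa, mul_one, D.base.zz]

theorem conj_za (T : TSet D t a) : IsConj z a ∧ IsConj z (z * a) :=
  ⟨D.isConj_of_invol T.a_mem T.aa T.a_ne.1,
    D.isConj_of_invol (mul_mem D.base.hzQ T.a_mem) T.za_sq T.za_ne.1⟩

/-- The elements conjugate to `z` among those commuting with `z` and `t`. -/
theorem ztype_cases (T : TSet D t a) {x : G} (hxc : x * z = z * x) (hxt : x * t = t * x)
    (hx : IsConj z x) : x = z ∨ x = a ∨ x = z * a := by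
  obtain ⟨i, rfl, hi⟩ := T.ha
  have hxx : x * x = 1 := by
    obtain ⟨g, rfl⟩ := isConj_iff.mp hx
    rw [show g * z * g⁻¹ * (g * z * g⁻¹) = g * (z * z) * g⁻¹ by group, D.base.zz]; group
  have hx1 : x ≠ 1 := fun e => D.base.z_ne_one (by
    obtain ⟨g, hg⟩ := isConj_iff.mp hx; rw [e] at hg; exact conj_eq_one_iff.mp hg)
  rcases (D.commute_iff_t T.ht T.htc T.htQ hi ((D.conj_iff hxx hx1 hxc).mp hx)).mp hxt.symm with
    e | e | e | e
  · exact absurd e hx1
  · exact Or.inl e
  · exact Or.inr (Or.inl e)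
  · exact Or.inr (Or.inr e)

theorem cen_sq (T : TSet D t a) {c : G} (hc : c * z = z * c) (hct : c * t = t * c) : c * c = 1 :=
  (D.centralizer_pair_C T.ht T.htc T.htQ).1 c hc hct

/-- `C ∩ C(t)` is abelian. -/
theorem cen_comm (T : TSet D t a) {c d : G} (hc : c * z = z * c) (hct : c * t = t * c)
    (hd : d * z = z * d) (hdt : d * t = t * d) : c * d = d * c := by
  have h := T.cen_sq (Commute.mul_left hc hd) (Commute.mul_left hct hdt)
  calc c * d = (c * d)⁻¹ := (inv_eq_of_mul_eq_one_left h).symm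
    _ = d⁻¹ * c⁻¹ := mul_inv_rev c d
    _ = d * c := by
      rw [inv_eq_of_mul_eq_one_left (T.cen_sq hc hct), inv_eq_of_mul_eq_one_left (T.cen_sq hd hdt)]

/-- An element centralising `t` and one of the three involutions of `A` centralises `z`. -/
theorem fix_imp (T : TSet D t a) {x c : G} (hx : x = z ∨ x = a ∨ x = z * a) (hcx : c * x = x * c)
    (hct : c * t = t * c) : c * z = z * c := by
  have hxz : IsConj z x := by
    rcases hx with rfl | rfl | rfl
    exacts [IsConj.refl _, T.conj_za.1, T.conj_za.2]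
  have hxt : x * t = t * x := by
    rcases hx with rfl | rfl | rfl
    exacts [T.htc.symm, T.ta.symm, Commute.mul_left T.htc.symm T.ta.symm]
  have hxzc : x * z = z * x := by
    rcases hx with rfl | rfl | rfl
    exacts [rfl, T.az, Commute.mul_left rfl T.az]
  obtain ⟨hsq, -⟩ := D.centralizer_pair hxz T.ht T.t_ne_one T.t_not_conj hxt
  have h1 := hsq c hcx hct
  have h2 : z * z = 1 := D.base.zz
  have h3 := hsq (c * z) (Commute.mul_left hcx hxzc.symm) (Commute.mul_left hct T.htc.symm)
  calc c * z = (c * z)⁻¹ := (inv_eq_of_mul_eq_one_left h3).symm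
    _ = z⁻¹ * c⁻¹ := mul_inv_rev c z
    _ = z * c := by rw [D.base.z_inv, inv_eq_of_mul_eq_one_left h1]

/-- The orbit map has fibres the cosets of the stabiliser. -/
theorem conj_fibres {H : Subgroup G} (x : G) [Fintype H] [DecidableEq G] :
    Fintype.card H = (Finset.univ.image fun c : H => (c : G) * x * (c : G)⁻¹).card *
      (Finset.univ.filter fun c : H => (c : G) * x = x * c).card := by
  classical
  refine H65.FourCount.card_eq_image_mul _ _ fun b c => ?_
  rw [Finset.mem_filter, and_iff_right (Finset.mem_univ _)]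
  push_cast
  constructor
  · intro e
    calc (b : G)⁻¹ * c * x = (b : G)⁻¹ * ((c : G) * x * (c : G)⁻¹) * c := by group
      _ = (b : G)⁻¹ * ((b : G) * x * (b : G)⁻¹) * c := by rw [e]
      _ = _ := by group
  · intro e
    calc (c : G) * x * (c : G)⁻¹ = (b : G) * ((b : G)⁻¹ * c * x) * (c : G)⁻¹ := by group
      _ = (b : G) * (x * ((b : G)⁻¹ * c)) * (c : G)⁻¹ := by rw [e]
      _ = _ := by group

theorem card_filter_comm {H : Subgroup G} (x : G) [Fintype H] [DecidableEq G] :
    (Finset.univ.filter fun c : H => (c : G) * x = x * c).card =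
      Nat.card ↥(H ⊓ centralizer ({x} : Set G)) := by
  classical
  rw [← Fintype.card_subtype, ← Nat.card_eq_fintype_card]
  exact Nat.card_congr
    { toFun := fun c => ⟨(c.1 : G), c.1.2, mem_centralizer_singleton_iff.mpr c.2⟩
      invFun := fun c => ⟨⟨(c : G), c.2.1⟩, mem_centralizer_singleton_iff.mp c.2.2⟩
      left_inv := fun c => rfl
      right_inv := fun c => rfl }

theorem orbit_stab (H : Subgroup G) (x : G) [Fintype H] [DecidableEq G] :
    Nat.card H = (Finset.univ.image fun c : H => (c : G) * x * (c : G)⁻¹).card *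
      Nat.card ↥(H ⊓ centralizer ({x} : Set G)) := by
  rw [Nat.card_eq_fintype_card, ← card_filter_comm, ← conj_fibres]

theorem card_cen_a (T : TSet D t a) :
    192 ≤ Nat.card ↥(centralizer ({z} : Set G) ⊓ centralizer ({a} : Set G)) := by
  classical
  haveI := Fintype.ofFinite G
  obtain ⟨i, rfl, -⟩ := T.ha
  have h := orbit_stab (centralizer ({z} : Set G)) (D.s i)
  rw [D.base.cardC] at h
  have hle : (Finset.univ.image fun c : centralizer ({z} : Set G) => (c : G) * D.s i * (c : G)⁻¹).card ≤ 10 := by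
    refine le_trans (Finset.card_le_card (t := (Finset.univ : Finset (Fin 5 × Fin 2)).image
      fun p => z ^ (p.2 : ℕ) * D.s p.1) ?_) (Finset.card_image_le.trans (by simp))
    intro y hy
    obtain ⟨c, -, rfl⟩ := Finset.mem_image.mp hy
    rcases D.pm_spec (mem_centralizer_singleton_iff.mp c.2) i with e | e
    · exact Finset.mem_image.mpr ⟨(D.pm c i, 0), Finset.mem_univ _, by simp [e]⟩
    · exact Finset.mem_image.mpr ⟨(D.pm c i, 1), Finset.mem_univ _, by simp [e]⟩
  nlinarith

theorem card_E (T : TSet D t a) :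
    Nat.card ↥(centralizer ({z} : Set G) ⊓ centralizer ({t} : Set G)) = 16 :=
  (D.centralizer_pair_C T.ht T.htc T.htQ).2

theorem perm_three {α : Type*} {p q r : α} {f : α → α} (hinj : Function.Injective f)
    (hm : ∀ x, x = p ∨ x = q ∨ x = r → f x = p ∨ f x = q ∨ f x = r) (hff : f (f p) = p)
    (hp : f p ≠ p) (hpq : p ≠ q) (hpr : p ≠ r) (hqr : q ≠ r) : f r = r ∨ f q = q := by
  rcases hm p (Or.inl rfl) with e | e | e
  · exact absurd e hp
  · left
    rcases hm r (Or.inr (Or.inr rfl)) with e' | e' | e'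
    · exfalso; exact hqr (hinj (((congrArg f e).symm.trans hff).trans e'.symm))
    · exfalso; exact hpr (hinj (e.trans e'.symm))
    · exact e'
  · right
    rcases hm q (Or.inr (Or.inl rfl)) with e' | e' | e'
    · exfalso; exact hqr (hinj (((congrArg f e).symm.trans hff).trans e'.symm)).symm
    · exact e'
    · exfalso; exact hpq (hinj (e.trans e'.symm))

/-- `32 ∤ |C(t)|`. -/
theorem not_dvd_cen (T : TSet D t a) : ¬ 32 ∣ Nat.card ↥(centralizer ({t} : Set G)) := by
  intro hd
  haveI : Fact (Nat.Prime 2) := ⟨Nat.prime_two⟩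
  set K := centralizer ({t} : Set G) with hK
  set E := centralizer ({z} : Set G) ⊓ K with hE
  have hEK : E ≤ K := inf_le_right
  have hEc : Nat.card (E.subgroupOf K) = 2 ^ 4 := by
    rw [Nat.card_congr (subgroupOfEquivOfLe hEK).toEquiv, hE, T.card_E]; norm_num
  obtain ⟨R, hR, hER⟩ := Sylow.exists_subgroup_card_pow_succ (p := 2) (n := 4)
    (by norm_num; exact hd) hEc
  have hidx : ((E.subgroupOf K).subgroupOf R).index = 2 := by
    have := ((E.subgroupOf K).subgroupOf R).card_mul_index
    rw [Nat.card_congr (subgroupOfEquivOfLe hER).toEquiv, hEc, hR] at this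
    norm_num at this; omega
  haveI := normal_of_index_eq_two hidx
  have hzE : z ∈ E := mem_inf.mpr ⟨mem_centralizer_singleton_iff.mpr rfl,
    mem_centralizer_singleton_iff.mpr T.htc.symm⟩
  obtain ⟨r, hr, hrE⟩ : ∃ r ∈ R, r ∉ E.subgroupOf K := by
    by_contra hne
    push Not at hne
    have := card_le_of_le (show R ≤ E.subgroupOf K from hne)
    rw [hR, hEc] at this; norm_num at this
  set n : G := r.1
  have hnt : n * t = t * n := mem_centralizer_singleton_iff.mp r.2
  have hnn : n * n * z = z * (n * n) := by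
    have h2 := mul_self_mem_of_index_two hidx (⟨r, hr⟩ : R)
    exact mem_centralizer_singleton_iff.mp (mem_inf.mp h2).1
  have hconjE : ∀ x ∈ E, n * x * n⁻¹ ∈ E := fun x hx =>
    (inferInstance : ((E.subgroupOf K).subgroupOf R).Normal).conj_mem
      ⟨⟨x, hEK hx⟩, hER hx⟩ hx ⟨r, hr⟩
  have hfix : ∀ x, x = z ∨ x = a ∨ x = z * a → n * x * n⁻¹ ≠ x := fun x hx e =>
    hrE (mem_inf.mpr ⟨mem_centralizer_singleton_iff.mpr
      (T.fix_imp hx (mul_inv_eq_iff_eq_mul.mp e) hnt), r.2⟩)
  have hxE : ∀ x, x = z ∨ x = a ∨ x = z * a → x ∈ E := by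
    rintro x (rfl | rfl | rfl)
    · exact hzE
    · exact mem_inf.mpr ⟨mem_centralizer_singleton_iff.mpr T.az,
        mem_centralizer_singleton_iff.mpr T.ta.symm⟩
    · exact mul_mem hzE (mem_inf.mpr ⟨mem_centralizer_singleton_iff.mpr T.az,
        mem_centralizer_singleton_iff.mpr T.ta.symm⟩)
  have hperm : ∀ x, x = z ∨ x = a ∨ x = z * a →
      n * x * n⁻¹ = z ∨ n * x * n⁻¹ = a ∨ n * x * n⁻¹ = z * a := by
    intro x hx
    have hm := mem_inf.mp (hconjE x (hxE x hx))
    refine T.ztype_cases (mem_centralizer_singleton_iff.mp hm.1) (mem_centralizer_singleton_iff.mp hm.2) ?_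
    have : IsConj z x := by
      rcases hx with rfl | rfl | rfl
      exacts [IsConj.refl _, T.conj_za.1, T.conj_za.2]
    exact this.trans (isConj_iff.mpr ⟨n, rfl⟩)
  have hff : n * (n * z * n⁻¹) * n⁻¹ = z := by
    calc n * (n * z * n⁻¹) * n⁻¹ = n * n * z * (n * n)⁻¹ := by group
      _ = z := by rw [hnn]; group
  rcases perm_three (f := fun x => n * x * n⁻¹) (MulAut.conj n).injective hperm hff (hfix z (Or.inl rfl))
    T.a_ne.2.symm T.za_ne.2.1.symm T.za_ne.2.2.symm with e | e
  · exact hfix _ (Or.inr (Or.inr rfl)) e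
  · exact hfix _ (Or.inr (Or.inl rfl)) e

theorem pair_setting (T : TSet D t a) : ∃ g : G, g * z * g⁻¹ = a ∧ H92.PairSetting Q z g := by
  obtain ⟨g, hg⟩ := isConj_iff.mp T.conj_za.1
  have hb := D.base
  refine ⟨g, hg, ?_⟩
  have hcen : ∀ x : G, (∀ q ∈ Q, q * x = x * q) → x ∈ (center Q).map Q.subtype := by
    intro x hx
    have hxQ : x ∈ Q := by rcases hb.cQ x hx with rfl | rfl; exacts [one_mem _, hb.hzQ]
    exact ⟨⟨x, hxQ⟩, mem_center_iff.mpr fun q => Subtype.ext (hx q q.2), rfl⟩
  have hzZ : z ∈ (center Q).map Q.subtype := hcen z fun q hq => hb.zc hq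
  have hcomm : commutator Q ≤ center Q := by
    rw [commutator_def, Subgroup.commutator_le]
    intro p _ q _
    refine mem_center_iff.mpr fun r => Subtype.ext ?_
    have : (p : G) * q * (p : G)⁻¹ * (q : G)⁻¹ = 1 ∨ (p : G) * q * (p : G)⁻¹ * (q : G)⁻¹ = z := by
      rcases hb.comm p p.2 q q.2 with e | e
      · left; rw [e]; group
      · right; rw [e]; group
    show (r : G) * ((p : G) * q * (p : G)⁻¹ * (q : G)⁻¹) = _ * (r : G)
    rcases this with e | e
    · rw [e, show ((⁅p, q⁆ : Q) : G) = (p : G) * q * (p : G)⁻¹ * (q : G)⁻¹ from rfl, e]; simp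
    · rw [e, show ((⁅p, q⁆ : Q) : G) = (p : G) * q * (p : G)⁻¹ * (q : G)⁻¹ from rfl, e]; exact hb.zc r.2
  have hZcard : Nat.card (center Q) = 2 := by
    refine le_antisymm ?_ ?_
    · classical
      calc Nat.card (center Q) ≤ Nat.card (Fin 2) := Nat.card_le_card_of_injective
              (by classical exact fun x : center Q => if ((x : Q) : G) = 1 then (0 : Fin 2) else 1) ?_
        _ = 2 := Nat.card_fin 2
      classical
      intro x y e
      have hx := hb.cQ ((x : Q) : G) fun q hq => congrArg Subtype.val (mem_center_iff.mp x.2 ⟨q, hq⟩)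
      have hy := hb.cQ ((y : Q) : G) fun q hq => congrArg Subtype.val (mem_center_iff.mp y.2 ⟨q, hq⟩)
      apply Subtype.ext; apply Subtype.ext
      rcases hx with hx | hx <;> rcases hy with hy | hy <;> rw [hx, hy] <;>
        simp [hx, hy, hb.z_ne_one] at e
    · haveI : Nontrivial (center Q) := by
        obtain ⟨u, hu, hue⟩ := hzZ
        exact ⟨⟨⟨u, hu⟩, 1, fun e => hb.z_ne_one (by
          rw [← hue, show u = 1 from congrArg Subtype.val e]; rfl)⟩⟩
      exact Finite.one_lt_card
  have hp : IsPGroup 2 Q := IsPGroup.of_card (n := 5) (by rw [hb.card]; norm_num)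
  have hextra : Cfsg.IsExtraspecial 2 Q := by
    haveI : Fact (Nat.Prime 2) := ⟨Nat.prime_two⟩
    have hne : commutator Q ≠ ⊥ := by
      intro h
      apply hb.not_abelian
      intro p hp q hq
      have h1 : ⁅(⟨p, hp⟩ : Q), ⟨q, hq⟩⁆ ∈ commutator Q := commutator_mem_commutator (mem_top _) (mem_top _)
      rw [h, mem_bot, commutatorElement_eq_one_iff_commute] at h1
      exact congrArg Subtype.val h1.eq
    have heq : commutator Q = center Q :=
      eq_of_le_of_card_ge hcomm (by rw [hZcard]; exact (commutator Q).one_lt_card_iff_ne_bot.mpr hne)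
    refine ⟨⟨hp, le_antisymm ?_ ?_, heq⟩, hZcard⟩
    · refine Cfsg.Agent.PGroups.frattini_le_of_commutator_le (p := 2) _ hcomm (fun x => ?_)
      rw [mem_center_iff, pow_two]
      intro w
      apply Subtype.ext
      rcases hb.sq x x.2 with e | e <;> show (w : G) * ((x : G) * x) = (x : G) * x * w <;> rw [e]
      · simp
      · exact hb.zc w.2
    · exact heq.symm.le.trans (Cfsg.Agent.PGroups.commutator_le_frattini hp)
  refine ⟨hextra, le_antisymm (fun x hx => hcen x fun q hq => mem_centralizer_iff.mp hx q hq)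
    H92.center_map_le_centralizer, fun c hc => ?_, hzZ, hb.z_ne_one, hg ▸ T.a_mem, hg ▸ T.a_ne.2,
    hb.card.ge⟩
  have hcz : c * z = z * c := (mem_centralizer_iff.mp hc z hzZ).symm
  refine mem_normalizer_iff.mpr fun x => ⟨fun hx => hb.norm c hcz x hx, fun hx => ?_⟩
  have := hb.norm c⁻¹ (Commute.inv_left hcz) _ hx
  simpa [mul_assoc] using this

/-- The three-element of `C(t)` cycling `A`. -/
theorem exists_sigma (T : TSet D t a) :
    ∃ σ : G, orderOf σ = 3 ∧ σ * t = t * σ ∧ σ * z * σ⁻¹ = a ∧ σ * a * σ⁻¹ = z * a := by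
  classical
  haveI := Fintype.ofFinite G
  haveI : Fact (Nat.Prime 3) := ⟨by norm_num⟩
  obtain ⟨g, hg, hP⟩ := T.pair_setting
  have h6 := hP.relIndex_centralizer
  rw [hg] at h6
  set V := closure ({z, a} : Set G) with hV
  set N := normalizer (V : Set G) with hN
  have hCV : centralizer (V : Set G) = centralizer ({z} : Set G) ⊓ centralizer ({a} : Set G) := by
    rw [hV, centralizer_closure]
    ext c
    simp [mem_centralizer_iff, mem_inf]
  have hcardN : 1152 ≤ Nat.card N := by
    have h1 := ((centralizer (V : Set G)).subgroupOf N).card_mul_index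
    rw [Nat.card_congr (subgroupOfEquivOfLe (centralizer_le_normalizer _)).toEquiv] at h1
    change Nat.card (centralizer (V : Set G)) * (centralizer (V : Set G)).relIndex N = Nat.card N at h1
    rw [h6, hCV] at h1
    have := T.card_cen_a
    omega
  have hV4 : ∀ x ∈ V, x ≠ 1 → x = z ∨ x = a ∨ x = z * a := by
    intro x hx hx1
    have := hP.mem_closure_pair (a := x) (by rw [hg]; exact hx)
    rw [hg] at this
    exact this.resolve_left hx1
  have hNperm : ∀ n ∈ N, ∀ x, x = z ∨ x = a ∨ x = z * a →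
      n * x * n⁻¹ = z ∨ n * x * n⁻¹ = a ∨ n * x * n⁻¹ = z * a := by
    intro n hn x hx
    have hxV : x ∈ V := by
      rcases hx with rfl | rfl | rfl
      exacts [subset_closure (by simp), subset_closure (by simp),
        mul_mem (subset_closure (by simp)) (subset_closure (by simp))]
    refine hV4 _ ((mem_normalizer_iff.mp hn x).mp hxV) fun e => ?_
    have := conj_eq_one_iff.mp e
    rcases hx with rfl | rfl | rfl
    exacts [D.base.z_ne_one this, T.a_ne.1 this, T.za_ne.1 this]
  -- the orbit of `t` under `N`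
  obtain ⟨i, hai, hi⟩ := T.ha
  have hτ := D.pm_inv5 T.ht T.htc T.htQ
  obtain ⟨τ', hτ', hcomm, hne⟩ := Coord.inv5_partner _ hτ
  obtain ⟨hτ'', hfix⟩ := Coord.inv5_cen _ _ hτ hτ' hcomm hne
  obtain ⟨u, hu, huc, huQ, hup, htu⟩ := D.exists_commuting T.ht T.htc T.htQ hτ' hcomm hne
  let bs : Finset G := {t, u, t * u}
  have hbs : ∀ b ∈ bs, b * b = 1 ∧ b * z = z * b ∧ b ∉ Q ∧ b * a = a * b ∧
      (D.pm b = D.pm t ∨ D.pm b = τ' ∨ D.pm b = D.pm t * τ') := by
    have hua : u * a = a * u := by
      rw [← hai]; exact (D.commute_iff_t hu huc huQ (by rw [hup]; exact hfix i hi) (D.mem i)).mpr (by simp)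
    intro b hb
    simp only [bs, Finset.mem_insert, Finset.mem_singleton] at hb
    rcases hb with rfl | rfl | rfl
    · exact ⟨T.ht, T.htc, T.htQ, T.ta, Or.inl rfl⟩
    · exact ⟨hu, huc, huQ, hua, Or.inr (Or.inl hup)⟩
    · refine ⟨by rw [mul_assoc, ← mul_assoc u, ← htu, mul_assoc, hu, mul_one, T.ht],
        Commute.mul_left T.htc huc, fun h => hτ''.1 ?_, Commute.mul_left T.ta hua,
        Or.inr (Or.inr (by rw [D.pm_mul T.htc huc, hup]))⟩
      have := D.pm_of_mem h
      rwa [D.pm_mul T.htc huc, hup] at this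
  have h24 : (Finset.univ.image fun n : N => (n : G) * t * (n : G)⁻¹).card ≤ 24 := by
    have hsub : (Finset.univ.image fun n : N => (n : G) * t * (n : G)⁻¹) ⊆
        bs.biUnion fun b => Finset.univ.image fun q : Q => (q : G) * b * (q : G)⁻¹ := by
      intro y hy
      obtain ⟨n, -, rfl⟩ := Finset.mem_image.mp hy
      set y := (n : G) * t * (n : G)⁻¹ with hyd
      have hcx : ∀ x, x = z ∨ x = a ∨ x = z * a → x * y = y * x := by
        intro x hx
        have hx' : ∃ w, (w = z ∨ w = a ∨ w = z * a) ∧ (n : G) * w * (n : G)⁻¹ = x := by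
          refine ⟨(n : G)⁻¹ * x * n, ?_, by group⟩
          have := hNperm _ (inv_mem n.2) x hx
          rwa [inv_inv] at this
        obtain ⟨w, hw, rfl⟩ := hx'
        have hwt : w * t = t * w := by
          rcases hw with rfl | rfl | rfl
          exacts [T.htc.symm, T.ta.symm, Commute.mul_left T.htc.symm T.ta.symm]
        calc (n : G) * w * (n : G)⁻¹ * y = (n : G) * (w * t) * (n : G)⁻¹ := by rw [hyd]; group
          _ = (n : G) * (t * w) * (n : G)⁻¹ := by rw [hwt]
          _ = _ := by rw [hyd]; group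
      have hyy : y * y = 1 := by
        rw [hyd, show (n : G) * t * (n : G)⁻¹ * ((n : G) * t * (n : G)⁻¹) =
          (n : G) * (t * t) * (n : G)⁻¹ by group, T.ht]; group
      have hyc : y * z = z * y := (hcx z (Or.inl rfl)).symm
      have hyQ : y ∉ Q := D.notMem_of_not_conj hyy (fun e => T.t_ne_one (conj_eq_one_iff.mp e)) hyc
        fun h => T.t_not_conj (h.trans (isConj_iff.mpr ⟨(n : G), rfl⟩).symm)
      have hyi : D.pm y i = i := by
        rw [D.pm_apply hyc]
        refine D.act_eq hyc (Or.inl ?_)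
        rw [hai, mul_inv_eq_iff_eq_mul]
        exact (hcx a (Or.inr (Or.inl rfl))).symm
      have hyI := D.pm_inv5 hyy hyc hyQ
      have hthree : D.pm y = D.pm t ∨ D.pm y = τ' ∨ D.pm y = D.pm t * τ' :=
        (Coord.inv5_cen_all _ _ hτ hτ' hcomm hne _ hyI.2.2
          (inv5_same_fix _ hτ _ hyI i hi hyi)).resolve_left hyI.1
      obtain ⟨b, hb, hpb⟩ : ∃ b ∈ bs, D.pm b = D.pm y := by
        rcases hthree with e | e | e
        · exact ⟨t, by simp [bs], e.symm⟩
        · exact ⟨u, by simp [bs], by rw [hup, e]⟩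
        · exact ⟨t * u, by simp [bs], by rw [D.pm_mul T.htc huc, hup, e]⟩
      obtain ⟨b2, bc, bQ, -⟩ := hbs b hb
      obtain ⟨r, hr, e⟩ := D.conj_of_coset b2 bc bQ hyy ((D.pm_eq_iff bc hyc).mp hpb)
      exact Finset.mem_biUnion.mpr ⟨b, hb, Finset.mem_image.mpr ⟨⟨r, hr⟩, Finset.mem_univ _, e⟩⟩
    refine (Finset.card_le_card hsub).trans (Finset.card_biUnion_le.trans ?_)
    calc ∑ b ∈ bs, (Finset.univ.image fun q : Q => (q : G) * b * (q : G)⁻¹).card
        ≤ ∑ _b ∈ bs, 8 := by
          refine Finset.sum_le_sum fun b hb => ?_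
          obtain ⟨b2, bc, bQ, ba, -⟩ := hbs b hb
          have h := orbit_stab Q b
          rw [D.base.card] at h
          have h4 : 4 ≤ Nat.card ↥(Q ⊓ centralizer ({b} : Set G)) := by
            have hm : ∀ x ∈ ({1, z, a, z * a} : Finset G), x ∈ Q ⊓ centralizer ({b} : Set G) := by
              intro x hx
              simp only [Finset.mem_insert, Finset.mem_singleton] at hx
              refine mem_inf.mpr ⟨?_, mem_centralizer_singleton_iff.mpr ?_⟩
              · rcases hx with rfl | rfl | rfl | rfl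
                exacts [one_mem _, D.base.hzQ, T.a_mem, mul_mem D.base.hzQ T.a_mem]
              · rcases hx with rfl | rfl | rfl | rfl
                exacts [by simp, bc.symm, ba.symm, Commute.mul_left bc.symm ba.symm]
            have h1 := T.za_ne
            have h2 := T.a_ne
            have hc4 : ({1, z, a, z * a} : Finset G).card = 4 := by
              simp [D.base.z_ne_one.symm, h1.1.symm, h1.2.1.symm, h1.2.2.symm, h2.1.symm, h2.2.symm]
            rw [← hc4, Nat.card_eq_fintype_card, ← Fintype.card_coe]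
            exact Fintype.card_le_of_injective (fun x => (⟨x.1, hm x.1 x.2⟩ : ↥(Q ⊓ centralizer ({b} : Set G))))
              fun x y e => Subtype.ext (congrArg (fun w : ↥(Q ⊓ centralizer ({b} : Set G)) => (w : G)) e)
          nlinarith
      _ ≤ 24 := by
          rw [Finset.sum_const, smul_eq_mul]
          have : bs.card ≤ 3 := Finset.card_le_three
          omega
  have hstab : 48 ≤ Nat.card ↥(N ⊓ centralizer ({t} : Set G)) := by
    have h := orbit_stab N t
    have := Nat.mul_le_mul_right (Nat.card ↥(N ⊓ centralizer ({t} : Set G))) h24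
    omega
  set M := N ⊓ centralizer ({t} : Set G) with hM
  obtain ⟨p, hp, hpd, hp2⟩ : ∃ p, p.Prime ∧ p ∣ Nat.card M ∧ p ≠ 2 := by
    by_contra hall
    push Not at hall
    obtain ⟨k, hk⟩ : ∃ k, Nat.card M = 2 ^ k :=
      ⟨_, Nat.eq_prime_pow_of_unique_prime_dvd Nat.card_pos.ne' (fun h1 h2 => hall _ h1 h2)⟩
    have hd : Nat.card M ∣ Nat.card ↥(centralizer ({t} : Set G)) := card_dvd_of_le inf_le_right
    rw [hk] at hd hstab
    rcases Nat.lt_or_ge k 5 with h | h
    · interval_cases k <;> norm_num at hstab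
    · exact T.not_dvd_cen ((pow_dvd_pow 2 h).trans hd)
  haveI := Fact.mk hp
  obtain ⟨⟨σ, hσM⟩, hσ⟩ := exists_prime_orderOf_dvd_card' (G := M) p hpd
  rw [orderOf_mk] at hσ
  obtain ⟨hσN, hσt⟩ := mem_inf.mp hσM
  rw [mem_centralizer_singleton_iff] at hσt
  -- `σ` fixes none of the three involutions
  have hmove : ∀ x, x = z ∨ x = a ∨ x = z * a → σ * x * σ⁻¹ ≠ x := by
    intro x hx e
    have := T.cen_sq (T.fix_imp hx (mul_inv_eq_iff_eq_mul.mp e) hσt) hσt
    rw [← pow_two] at this
    have := Nat.le_of_dvd (by norm_num) (hσ ▸ orderOf_dvd_of_pow_eq_one this)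
    exact hp2 (le_antisymm this hp.two_le)
  have hcyc : ∀ τ : G, τ ∈ N → (∀ x, x = z ∨ x = a ∨ x = z * a → τ * x * τ⁻¹ ≠ x) →
      τ * z * τ⁻¹ = a → τ * a * τ⁻¹ = z * a ∧ τ * (z * a) * τ⁻¹ = z := by
    intro τ hτN hmv h1
    have hinj : ∀ {x y : G}, τ * x * τ⁻¹ = τ * y * τ⁻¹ → x = y := fun e =>
      mul_left_cancel (mul_right_cancel e)
    have h2 : τ * a * τ⁻¹ = z * a := by
      rcases hNperm τ hτN a (Or.inr (Or.inl rfl)) with e | e | e
      · exfalso
        rcases hNperm τ hτN (z * a) (Or.inr (Or.inr rfl)) with e' | e' | e'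
        · exact T.za_ne.2.2 (hinj (e'.trans e.symm))
        · exact T.za_ne.2.1 (hinj (e'.trans h1.symm))
        · exact hmv _ (Or.inr (Or.inr rfl)) e'
      · exact absurd e (hmv _ (Or.inr (Or.inl rfl)))
      · exact e
    refine ⟨h2, ?_⟩
    rcases hNperm τ hτN (z * a) (Or.inr (Or.inr rfl)) with e' | e' | e'
    · exact e'
    · exact absurd (hinj (e'.trans h1.symm)) T.za_ne.2.1
    · exact absurd e' (hmv _ (Or.inr (Or.inr rfl)))
  have hp3 : p = 3 := by
    -- the cube fixes `z`
    have key : σ ^ 3 * z = z * σ ^ 3 := by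
      rcases hNperm σ hσN z (Or.inl rfl) with e | e | e
      · exact absurd e (hmove z (Or.inl rfl))
      · obtain ⟨e2, e3⟩ := hcyc σ hσN hmove e
        rw [← mul_inv_eq_iff_eq_mul,
          show σ ^ 3 * z * (σ ^ 3)⁻¹ = σ * (σ * (σ * z * σ⁻¹) * σ⁻¹) * σ⁻¹ by
            rw [pow_three]; group, e, e2, e3]
      · have hinj : ∀ {x y : G}, σ * x * σ⁻¹ = σ * y * σ⁻¹ → x = y := fun e =>
          mul_left_cancel (mul_right_cancel e)
        have e2 : σ * (z * a) * σ⁻¹ = a := by
          rcases hNperm σ hσN (z * a) (Or.inr (Or.inr rfl)) with e' | e' | e'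
          · exfalso
            rcases hNperm σ hσN a (Or.inr (Or.inl rfl)) with d | d | d
            · exact T.za_ne.2.2 (hinj (e'.trans d.symm))
            · exact hmove _ (Or.inr (Or.inl rfl)) d
            · exact T.a_ne.2 (hinj (d.trans e.symm))
          · exact e'
          · exact absurd e' (hmove _ (Or.inr (Or.inr rfl)))
        have e3 : σ * a * σ⁻¹ = z := by
          rcases hNperm σ hσN a (Or.inr (Or.inl rfl)) with d | d | d
          · exact d
          · exact absurd d (hmove _ (Or.inr (Or.inl rfl)))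
          · exact absurd (hinj (d.trans e.symm)) T.a_ne.2
        rw [← mul_inv_eq_iff_eq_mul,
          show σ ^ 3 * z * (σ ^ 3)⁻¹ = σ * (σ * (σ * z * σ⁻¹) * σ⁻¹) * σ⁻¹ by
            rw [pow_three]; group, e, e2, e3]
    have h1 := T.cen_sq key (Commute.pow_left hσt 3)
    have h6 : σ ^ 6 = 1 := by rw [show (6 : ℕ) = 3 + 3 from rfl, pow_add, h1]
    have := hσ ▸ orderOf_dvd_of_pow_eq_one h6
    have hle := Nat.le_of_dvd (by norm_num) this
    have h2 := hp.two_le
    interval_cases p <;> first | rfl | exact absurd rfl hp2 | (exfalso; revert this hp; norm_num) | omega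
  subst hp3
  rcases hNperm σ hσN z (Or.inl rfl) with e | e | e
  · exact absurd e (hmove z (Or.inl rfl))
  · exact ⟨σ, hσ, hσt, e, (hcyc σ hσN hmove e).1⟩
  · -- replace `σ` by its inverse
    have hmv' : ∀ x, x = z ∨ x = a ∨ x = z * a → σ⁻¹ * x * σ⁻¹⁻¹ ≠ x := fun x hx e' => by
      apply hmove x hx
      calc σ * x * σ⁻¹ = σ * (σ⁻¹ * x * σ⁻¹⁻¹) * σ⁻¹ := by rw [e']
        _ = x := by group
    rcases hNperm σ⁻¹ (inv_mem hσN) z (Or.inl rfl) with e' | e' | e'
    · exact absurd e' (hmv' z (Or.inl rfl))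
    · exact ⟨σ⁻¹, by rw [orderOf_inv, hσ], Commute.inv_left hσt, e', (hcyc σ⁻¹ (inv_mem hσN) hmv' e').1⟩
    · exfalso
      have e2 : σ * (z * a) * σ⁻¹ = z := by rw [← e']; group
      rcases hNperm σ hσN a (Or.inr (Or.inl rfl)) with d | d | d
      · exact T.za_ne.2.2 (mul_left_cancel (mul_right_cancel (e2.trans d.symm)))
      · exact hmove _ (Or.inr (Or.inl rfl)) d
      · exact T.a_ne.2 (mul_left_cancel (mul_right_cancel (d.trans e.symm)))

end TSet

end Cfsg.Agent.H43.JTwo
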