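import Cfsg.Agent.H43.JTwo.ThreeQuot

/-!
Centralisers of the elements of order three and five of `L`.
-/

set_option autoImplicit false
set_option linter.style.haveILetI false
set_option linter.unusedSectionVars false
set_option linter.unusedSimpArgs false
set_option synthInstance.maxSize 4000

namespace Cfsg.Agent.H43.JTwo

open Subgroup

theorem alt5_facts : ∀ g : Equiv.Perm (Fin 5), Equiv.Perm.sign g = 1 → g ≠ 1 →
    g ^ 3 = 1 ∨ g ^ 5 = 1 → (∀ h : Equiv.Perm (Fin 5), Equiv.Perm.sign h = 1 →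
      (h * g = g * h → ∃ k : Fin 5, h = g ^ (k : ℕ)) ∧
      ((∃ k : Fin 5, h * g * h⁻¹ = g ^ (k : ℕ)) → h * g * h⁻¹ = g ∨ h * g * h⁻¹ = g⁻¹)) ∧
    ∃ h : Equiv.Perm (Fin 5), Equiv.Perm.sign h = 1 ∧ h * h = 1 ∧ h * g * h⁻¹ = g⁻¹ := by
  decide +kernel

variable {G : Type*} [Group G] [Finite G] {z : G} {Q : Subgroup G}

theorem mem_zpowers_pow {x y : G} {n : ℕ} [NeZero n] (hx : x ^ n = 1) (h : y ∈ zpowers x) :
    ∃ k : Fin n, y = x ^ (k : ℕ) := by
  obtain ⟨j, rfl⟩ := mem_zpowers_iff.mp h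
  have hn : (0 : ℤ) < n := by exact_mod_cast NeZero.pos n
  refine ⟨⟨(j % n).toNat, ?_⟩, ?_⟩
  · have := Int.emod_lt_of_pos j hn
    have := Int.emod_nonneg j (ne_of_gt hn)
    omega
  · show x ^ j = x ^ (j % n).toNat
    rw [← zpow_natCast, Int.toNat_of_nonneg (Int.emod_nonneg j (ne_of_gt hn))]
    conv_lhs => rw [← Int.mul_ediv_add_emod j n, zpow_add, zpow_mul, zpow_natCast, hx, one_zpow, one_mul]

namespace LSet

variable {D : JSet z Q} {t a σ : G} {L : Subgroup G}

/-- Facts about elements of order three and five of `L`. -/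
theorem L_facts (S : LSet D t a σ L) {x : G} (hx : x ∈ L) (hp : orderOf x = 3 ∨ orderOf x = 5) :
    (∀ l ∈ L, l * x = x * l → l ∈ zpowers x) ∧
    (∀ l ∈ L, l * x * l⁻¹ ∈ zpowers x → l * x * l⁻¹ = x ∨ l * x * l⁻¹ = x⁻¹) ∧
    ∃ l ∈ L, l * l = 1 ∧ l * x * l⁻¹ = x⁻¹ := by
  obtain ⟨e⟩ := S.card_L_equiv
  let f : L →* Equiv.Perm (Fin 5) := (alternatingGroup (Fin 5)).subtype.comp e.toMonoidHom
  have hinj : Function.Injective f := Subtype.val_injective.comp e.injective
  have hsign : ∀ l : L, Equiv.Perm.sign (f l) = 1 := fun l => Equiv.Perm.mem_alternatingGroup.mp (e l).2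
  set x' : L := ⟨x, hx⟩
  have hne : f x' ≠ 1 := fun h => by
    have h1 : x' = 1 := hinj (h.trans (map_one f).symm)
    have h2 : x = 1 := congrArg Subtype.val h1
    rw [h2, orderOf_one] at hp
    omega
  have hpow : f x' ^ 3 = 1 ∨ f x' ^ 5 = 1 := by
    rcases hp with h | h
    · exact Or.inl (by rw [← map_pow, show x' ^ 3 = 1 from Subtype.ext (h ▸ pow_orderOf_eq_one x), map_one])
    · exact Or.inr (by rw [← map_pow, show x' ^ 5 = 1 from Subtype.ext (h ▸ pow_orderOf_eq_one x), map_one])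
  obtain ⟨h1, w, hw, hww, hwx⟩ := alt5_facts _ (hsign x') hne hpow
  refine ⟨fun l hl hc => ?_, fun l hl hmem => ?_, ?_⟩
  · obtain ⟨k, hk⟩ := (h1 _ (hsign ⟨l, hl⟩)).1 (by
      rw [← map_mul, ← map_mul]; exact congrArg f (Subtype.ext hc))
    rw [← map_pow] at hk
    have : l = x ^ (k : ℕ) := congrArg Subtype.val (hinj hk)
    exact this ▸ npow_mem_zpowers x k
  · have hx5 : ∃ k : Fin 5, l * x * l⁻¹ = x ^ (k : ℕ) := by
      rcases hp with h | h
      · obtain ⟨k, hk⟩ := mem_zpowers_pow (n := 3) (h ▸ pow_orderOf_eq_one x) hmem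
        exact ⟨⟨k, by omega⟩, hk⟩
      · exact mem_zpowers_pow (n := 5) (h ▸ pow_orderOf_eq_one x) hmem
    obtain ⟨k, hk⟩ := hx5
    rcases (h1 _ (hsign ⟨l, hl⟩)).2 ⟨k, by
      rw [← map_inv, ← map_mul, ← map_mul, ← map_pow]; exact congrArg f (Subtype.ext hk)⟩ with r | r
    · rw [← map_inv, ← map_mul, ← map_mul] at r
      exact Or.inl (congrArg Subtype.val (hinj r))
    · rw [← map_inv, ← map_mul, ← map_mul, ← map_inv] at r
      exact Or.inr (congrArg Subtype.val (hinj r))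
  · obtain ⟨l, hl⟩ : ∃ l : L, f l = w :=
      ⟨e.symm ⟨w, Equiv.Perm.mem_alternatingGroup.mpr hw⟩, by simp [f]⟩
    refine ⟨l, l.2, congrArg Subtype.val (hinj (a₁ := l * l) (a₂ := 1) (by rw [map_mul, hl, hww, map_one])), ?_⟩
    exact congrArg Subtype.val (hinj (a₁ := l * x' * l⁻¹) (a₂ := x'⁻¹) (by
      rw [map_mul, map_mul, map_inv, map_inv, hl, hwx]))

theorem k_comm (S : LSet D t a σ L) {k l : G} (hk : k ∈ kGroup z t σ L) (hl : l ∈ L) : k * l = l * k :=
  (mem_centralizer_iff.mp (mem_inf.mp hk).2 l hl).symm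

/-- `C(x) ∩ N(B) = ⟨x⟩ × K`. -/
theorem card_cen_normB (S : LSet D t a σ L) {x : G} (hx : x ∈ L) (hp : orderOf x = 3 ∨ orderOf x = 5) :
    Nat.card ↥(normalizer ((bGroup z t σ : Subgroup G) : Set G) ⊓ centralizer ({x} : Set G)) =
      12 * orderOf x := by
  obtain ⟨h12, hKL, -, -, hcov⟩ := S.k_props
  obtain ⟨hc1, -, -⟩ := S.L_facts hx hp
  obtain ⟨e⟩ := prod_equiv (H := kGroup z t σ L) (M := zpowers x)
    (N := normalizer ((bGroup z t σ : Subgroup G) : Set G) ⊓ centralizer ({x} : Set G))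
    (fun k hk => mem_inf.mpr ⟨(mem_inf.mp hk).1, mem_centralizer_singleton_iff.mpr (S.k_comm hk hx)⟩)
    (zpowers_le.mpr (mem_inf.mpr ⟨S.B_le_centralizer (S.hLK hx), mem_centralizer_singleton_iff.mpr rfl⟩))
    (fun k hk m hm => S.k_comm hk (zpowers_le.mpr hx hm))
    (fun k hk hm => hKL k hk (zpowers_le.mpr hx hm))
    (fun n hn => by
      obtain ⟨hn1, hn2⟩ := mem_inf.mp hn
      obtain ⟨l, hl, k, hk, rfl⟩ := hcov n hn1
      refine ⟨l, hc1 l hl ?_, k, hk, rfl⟩
      have h := mem_centralizer_singleton_iff.mp hn2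
      rw [mul_assoc, S.k_comm hk hx, ← mul_assoc, ← mul_assoc] at h
      exact mul_right_cancel h)
  rw [Nat.card_congr e.toEquiv, Nat.card_prod, h12, Nat.card_zpowers]

theorem cen_x_t (S : LSet D t a σ L) {x : G} (hx : x ∈ L) (hp : orderOf x = 3 ∨ orderOf x = 5)
    {c : G} (hc : c * x = x * c) (hct : c * t = t * c) :
    ∃ w ∈ zpowers x, ∃ b ∈ bGroup z t σ, c = w * b := by
  obtain ⟨l, hl, b, hb, rfl⟩ := S.decomp hct
  refine ⟨l, (S.L_facts hx hp).1 l hl ?_, b, hb, rfl⟩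
  rw [mul_assoc, S.bc hb hx, ← mul_assoc, ← mul_assoc] at hc
  exact mul_right_cancel hc

/-- Every involution of `C(x)` is conjugate to `t` within `C(x)`. -/
theorem cen_invol (S : LSet D t a σ L) {x : G} (hx : x ∈ L) (hp : orderOf x = 3 ∨ orderOf x = 5)
    {u : G} (hux : u * x = x * u) (huu : u * u = 1) (hu1 : u ≠ 1) :
    ∃ c : G, c * x = x * c ∧ c * t * c⁻¹ = u := by
  classical
  haveI : Fact (Nat.Prime 2) := ⟨Nat.prime_two⟩
  obtain ⟨-, -, -, hB4, htB⟩ := S.bGroup_props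
  set K := centralizer ({x} : Set G) with hK
  set B := bGroup z t σ with hB
  have hBK : B ≤ K := fun b hb => mem_centralizer_singleton_iff.mpr (S.bc hb hx)
  have hBcard : Nat.card (B.subgroupOf K) = 2 ^ 2 := by
    rw [Nat.card_congr (subgroupOfEquivOfLe hBK).toEquiv, hB4]; norm_num
  have h8 : ¬ 2 ^ 3 ∣ Nat.card K := by
    intro hd
    obtain ⟨T, hT, hBT⟩ := Sylow.exists_subgroup_card_pow_succ (p := 2) (n := 2) hd hBcard
    have hidx : ((B.subgroupOf K).subgroupOf T).index = 2 := by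
      have := ((B.subgroupOf K).subgroupOf T).card_mul_index
      rw [Nat.card_congr (subgroupOfEquivOfLe hBT).toEquiv, hBcard, hT] at this
      omega
    haveI := normal_of_index_eq_two hidx
    have hfwd : ∀ r ∈ T, ∀ y ∈ B, (r : G) * y * (r : G)⁻¹ ∈ B := fun r hr y hy =>
      (inferInstance : ((B.subgroupOf K).subgroupOf T).Normal).conj_mem ⟨⟨y, hBK hy⟩, hBT hy⟩ hy ⟨r, hr⟩
    have hle : T.map K.subtype ≤ normalizer (B : Set G) ⊓ K := by
      rintro _ ⟨r, hr, rfl⟩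
      refine mem_inf.mpr ⟨mem_normalizer_iff.mpr fun y => ⟨hfwd r hr y, fun hy => ?_⟩, r.2⟩
      have := hfwd _ (inv_mem hr) _ hy
      simpa [mul_assoc] using this
    have := card_dvd_of_le hle
    rw [S.card_cen_normB hx hp, ← Nat.card_congr (T.equivMapOfInjective _ K.subtype_injective).toEquiv,
      hT] at this
    rcases hp with h | h <;> rw [h] at this <;> norm_num at this
  have hidx : ¬ 2 ∣ (B.subgroupOf K).index := by
    intro hd
    apply h8
    rw [← (B.subgroupOf K).card_mul_index, hBcard]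
    obtain ⟨m, hm⟩ := hd
    exact ⟨m, by rw [hm]; ring⟩
  have hp2 : IsPGroup 2 (B.subgroupOf K) := IsPGroup.of_card hBcard
  set u' : K := ⟨u, mem_centralizer_singleton_iff.mpr hux⟩
  have hu2 : IsPGroup 2 (zpowers u') := IsPGroup.of_card (n := 1) (by
    rw [Nat.card_zpowers, ← orderOf_coe, pow_one]
    exact orderOf_eq_prime (by rw [pow_two]; exact huu) hu1)
  obtain ⟨T, hT⟩ := hu2.exists_le_sylow
  obtain ⟨h, hh⟩ := MulAction.exists_smul_eq K T (hp2.toSylow hidx)
  have hmem : h * u' * h⁻¹ ∈ B.subgroupOf K := by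
    have : h * u' * h⁻¹ ∈ ((h • T : Sylow 2 K) : Subgroup K) := by
      rw [Sylow.coe_subgroup_smul, mem_pointwise_smul_iff_inv_smul_mem, MulAut.smul_def]
      simp only [← map_inv, MulAut.conj_apply, inv_inv]
      convert hT (mem_zpowers _) using 1
      group
    rw [hh] at this
    exact this
  rw [mem_subgroupOf] at hmem
  set b : G := ((h * u' * h⁻¹ : K) : G) with hbd
  have hb1 : b ≠ 1 := fun e => hu1 (conj_eq_one_iff.mp (show (h : G) * u * (h : G)⁻¹ = 1 from e))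
  -- `K_B` is transitive on `B#`
  obtain ⟨h12, hKL, hKt, -, -⟩ := S.k_props
  haveI := Fintype.ofFinite G
  obtain ⟨k, hk, hkb⟩ : ∃ k ∈ kGroup z t σ L, k * t * k⁻¹ = b := by
    have ho := TSet.orbit_stab (kGroup z t σ L) t
    have hst : Nat.card ↥(kGroup z t σ L ⊓ centralizer ({t} : Set G)) ≤ 4 := by
      rw [← hB4]
      exact card_le_of_le fun y hy => hKt y (mem_inf.mp hy).1 (mem_centralizer_singleton_iff.mp (mem_inf.mp hy).2)
    set O := Finset.univ.image fun c : kGroup z t σ L => (c : G) * t * (c : G)⁻¹ with hO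
    have hsub : O ⊆ (Finset.univ.filter fun y => y ∈ B).erase 1 := by
      intro y hy
      obtain ⟨c, -, rfl⟩ := Finset.mem_image.mp hy
      exact Finset.mem_erase.mpr ⟨fun e => S.t_ne_one (conj_eq_one_iff.mp e),
        Finset.mem_filter.mpr ⟨Finset.mem_univ _, (mem_normalizer_iff.mp (mem_inf.mp c.2).1 t).mp htB⟩⟩
    have h3 : ((Finset.univ.filter fun y => y ∈ B).erase 1).card = 3 := by
      rw [Finset.card_erase_of_mem (by simp), ← Fintype.card_subtype,
        ← Nat.card_eq_fintype_card, show Nat.card {y // y ∈ B} = 4 from hB4]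
    have heq : O = (Finset.univ.filter fun y => y ∈ B).erase 1 := by
      refine Finset.eq_of_subset_of_card_le hsub ?_
      rw [h12] at ho
      have := Nat.mul_le_mul_left O.card hst
      omega
    obtain ⟨c, -, hc⟩ := Finset.mem_image.mp (heq.symm ▸
      Finset.mem_erase.mpr ⟨hb1, Finset.mem_filter.mpr ⟨Finset.mem_univ _, hmem⟩⟩ : b ∈ O)
    exact ⟨c, c.2, hc⟩
  refine ⟨(h : G)⁻¹ * k, Commute.mul_left (Commute.inv_left (mem_centralizer_singleton_iff.mp h.2))
    (S.k_comm hk hx), ?_⟩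
  rw [show (h : G)⁻¹ * k * t * ((h : G)⁻¹ * k)⁻¹ = (h : G)⁻¹ * (k * t * k⁻¹) * h by group, hkb,
    show b = (h : G) * u * (h : G)⁻¹ from rfl]
  group

/-- `C(x)/⟨x⟩` has order twelve or sixty. -/
theorem card_cq_cases (S : LSet D t a σ L) {x : G} (hx : x ∈ L) (hp : orderOf x = 3 ∨ orderOf x = 5) :
    Nat.card (CQ x) = 12 ∨ Nat.card (CQ x) = 60 := by
  classical
  haveI := Fintype.ofFinite (CQ x)
  obtain ⟨-, -, -, hB4, htB⟩ := S.bGroup_props
  have hodd : Odd (orderOf x) := by rcases hp with h | h <;> rw [h] <;> decide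
  have htx : t * x = x * t := (S.L_comm_t hx).symm
  have ht1 : qm x htx ≠ 1 := fun e => S.t_ne_one (eq_one_of_invol hodd ((qm_eq_one _).mp e) S.ht)
  have hto : orderOf (qm x htx) = 2 := orderOf_eq_prime
    (by rw [pow_two, qm_mul]; exact (qm_eq_one _).mpr (by rw [S.ht]; exact one_mem _)) ht1
  have hone : ∀ v : CQ x, orderOf v = 2 → IsConj (qm x htx) v := by
    intro v hv
    have hv2 : v * v = 1 := by rw [← pow_two, ← hv, pow_orderOf_eq_one]
    have hv1 : v ≠ 1 := fun e => by rw [e, orderOf_one] at hv; omega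
    obtain ⟨u, hu, huu, hu1, rfl⟩ := exists_invol_lift hodd hv2 hv1
    obtain ⟨c, hc, e⟩ := S.cen_invol hx hp hu huu hu1
    refine isConj_iff.mpr ⟨qm x hc, ?_⟩
    show qm x (c := c * t * c⁻¹) (Commute.mul_left (Commute.mul_left hc htx) (Commute.inv_left hc)) = qm x hu
    exact qm_congr _ _ e
  obtain ⟨e⟩ := cent_equiv (H := bGroup z t σ) hodd htx S.ht
    (fun b hb => ⟨S.bc hb hx, (mem_bGroup.mp hb).2.1⟩)
    (fun b hb hbx => S.bL_disj hb (zpowers_le.mpr hx hbx))
    (fun c hc hct => S.cen_x_t hx hp hc hct)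
  have hc4 : Nat.card ↥(centralizer ({qm x htx} : Set (CQ x))) = 4 := by
    rw [← Nat.card_congr e.toEquiv, hB4]
  have hsq : ∀ v : CQ x, v * qm x htx = qm x htx * v → v ^ 2 = 1 := by
    intro v hv
    obtain ⟨b, hb⟩ := e.surjective ⟨v, mem_centralizer_singleton_iff.mpr hv⟩
    have h1 : (e b) ^ 2 = 1 := by
      rw [← map_pow, show b ^ 2 = 1 from Subtype.ext (by push_cast; rw [pow_two]; exact S.bsq b.2), map_one]
    rw [hb] at h1
    exact congrArg Subtype.val h1
  have hone' : ∀ s u : CQ x, orderOf s = 2 → orderOf u = 2 → IsConj s u :=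
    fun s u hs hu => (hone s hs).symm.trans (hone u hu)
  have h4 : ∀ s : CQ x, orderOf s = 2 → Nat.card ↥(centralizer ({s} : Set (CQ x))) = 4 ∧
      ∀ c ∈ centralizer ({s} : Set (CQ x)), c ^ 2 = 1 := by
    intro s hs
    obtain ⟨l, rfl⟩ := isConj_iff.mp (hone s hs)
    refine ⟨?_, fun c hc => ?_⟩
    · rw [← H65.FourCount.card_cen, H65.FourCount.card_cen_conj, H65.FourCount.card_cen, hc4]
    · rw [mem_centralizer_singleton_iff] at hc
      have h1 : l⁻¹ * c * l * qm x htx = qm x htx * (l⁻¹ * c * l) := by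
        calc l⁻¹ * c * l * qm x htx = l⁻¹ * (c * (l * qm x htx * l⁻¹)) * l := by group
          _ = l⁻¹ * (l * qm x htx * l⁻¹ * c) * l := by rw [hc]
          _ = _ := by group
      have := hsq _ h1
      rw [show l⁻¹ * c * l = l⁻¹ * c * l⁻¹⁻¹ by group, conj_pow] at this
      exact conj_eq_one_iff.mp this
  have hc := H65.FourCount.card_invs h4 hone' hto
  have hm := H65.FourCount.card_eq_four_mul h4 hone' hto
  rw [Nat.card_eq_fintype_card]
  omega

end LSet

end Cfsg.Agent.H43.JTwo
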