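import Cfsg.Agent.H43.JTwo.Setup

/-!
Coordinates on `Q/Z`: five involutions pairwise generating dihedral groups, identifying `Q/Z` with
the even vectors of length five.
-/

set_option autoImplicit false
set_option linter.style.haveILetI false
set_option linter.unusedSectionVars false

namespace Cfsg.Agent.H43.JTwo

open Subgroup

variable {G : Type*} [Group G] [Finite G]

/-- Five involutions in `Q` in the position of the five singular points. -/
structure Coord (z : G) (Q : Subgroup G) where
  base : Setup z Q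
  s : Fin 5 → G
  mem : ∀ i, s i ∈ Q
  ss : ∀ i, s i * s i = 1
  noncomm : ∀ i j, i ≠ j → s j * s i = z * (s i * s j)
  gen : ∀ q ∈ Q, q ∈ closure (insert z (Set.range s))
  prod : s 0 * s 1 * s 2 * s 3 * s 4 = 1 ∨ s 0 * s 1 * s 2 * s 3 * s 4 = z

theorem reverse_five {a b c d e u v : G} (h01 : b * a = u * (a * b)) (h12 : c * b = u * (b * c))
    (h23 : d * c = u * (c * d)) (h34 : e * d = u * (d * e)) (h04 : e * a = u * (a * e))
    (h02 : c * a = v * (a * c)) (h13 : d * b = v * (b * d)) (h24 : e * c = v * (c * e))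
    (h03 : d * a = v * (a * d)) (h14 : e * b = v * (b * e))
    (hu : ∀ x ∈ ({a, b, c, d, e, v} : Set G), x * u = u * x)
    (hv : ∀ x ∈ ({a, b, c, d, e} : Set G), x * v = v * x) (huu : u * u = 1) (hvv : v * v = 1) :
    e * d * c * b * a = u * (v * (a * b * c * d * e)) := by
  have k : ∀ {p q w : G}, q * p = w * (p * q) → ∀ x, q * (p * x) = w * (p * (q * x)) :=
    fun e x => by rw [← mul_assoc, e]; simp [mul_assoc]
  have k' : ∀ {p w : G}, p * w = w * p → ∀ x, p * (w * x) = w * (p * x) :=
    fun e x => by rw [← mul_assoc, e, mul_assoc]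
  simp only [mul_assoc]
  simp [h01, h12, h23, h34, h04, h02, h13, h24, h03, h14, k h01, k h12, k h23, k h34, k h04, k h02,
    k h13, k h24, k h03, k h14, k' (hu a (by simp)), k' (hu b (by simp)), k' (hu c (by simp)),
    k' (hu d (by simp)), k' (hu e (by simp)), k' (hu v (by simp)), k' (hv a (by simp)),
    k' (hv b (by simp)), k' (hv c (by simp)), k' (hv d (by simp)), k' (hv e (by simp)),
    show ∀ x, u * (u * x) = x from fun x => by rw [← mul_assoc, huu, one_mul],
    show ∀ x, v * (v * x) = x from fun x => by rw [← mul_assoc, hvv, one_mul]]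

namespace Setup

variable {z : G} {Q : Subgroup G}

theorem not_abelian (h : Setup z Q) (hab : ∀ q ∈ Q, ∀ r ∈ Q, q * r = r * q) : False := by
  have hle : (Q : Set G) ⊆ {1, z} := fun q hq => by
    rcases h.cQ q (fun r hr => hab r hr q hq) with e | e <;> simp [e]
  have h2 := Set.ncard_le_ncard hle (Set.toFinite _)
  rw [show (Q : Set G).ncard = 32 from by rw [← h.card]; rfl] at h2
  have : ({1, z} : Set G).ncard ≤ 2 := (Set.ncard_insert_le _ _).trans (by simp)
  omega

theorem five_fixed (h : Setup z Q) {f q : G} (hf : orderOf f = 5) (hfz : f * z = z * f)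
    (hq : q ∈ Q) (hfq : f * q = q * f) : q = 1 ∨ q = z := by
  by_contra hne
  push Not at hne
  have hU : closure ({z, q} : Set G) = Q := by
    refine h.five_invariant hf hfz ((closure_le _).mpr ?_) (subset_closure (by simp)) ?_
      ⟨q, subset_closure (by simp), hne.1, hne.2⟩
    · rintro x (rfl | rfl)
      · exact h.hzQ
      · exact hq
    · intro u hu
      have : f ∈ centralizer ((closure ({z, q} : Set G) : Subgroup G) : Set G) := by
        rw [centralizer_closure, mem_centralizer_iff]
        rintro x (rfl | rfl)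
        · exact hfz.symm
        · exact hfq.symm
      rwa [← mem_centralizer_iff.mp this u hu, mul_inv_cancel_right]
  apply h.not_abelian
  intro a ha b hb
  rw [← hU] at ha hb
  have hq' : q * z = z * q := h.zc hq
  haveI := isMulCommutative_closure (k := ({z, q} : Set G)) (by
    rintro x (rfl | rfl) y (rfl | rfl) <;> first | rfl | exact hq' | exact hq'.symm)
  exact setLike_mul_comm ha hb

set_option maxHeartbeats 1000000 in
theorem exists_coord (h : Setup z Q) : Nonempty (Coord z Q) := by
  haveI : Fact (Nat.Prime 5) := ⟨by norm_num⟩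
  obtain ⟨⟨f, hfC⟩, hf⟩ := exists_prime_orderOf_dvd_card' (G := centralizer ({z} : Set G)) 5
    (by rw [h.cardC]; norm_num)
  rw [orderOf_mk] at hf
  have hfz : f * z = z * f := mem_centralizer_singleton_iff.mp hfC
  have hf5 : f ^ 5 = 1 := hf ▸ pow_orderOf_eq_one f
  obtain ⟨q0, hgQ, hq0, hq1, hgz⟩ := h.inv
  let s : Fin 5 → G := fun i => f ^ (i : ℕ) * q0 * (f ^ (i : ℕ))⁻¹
  have shift : ∀ i, f * s i * f⁻¹ = s (i + 1) := by
    intro i
    have : f * s i * f⁻¹ = f ^ ((i : ℕ) + 1) * q0 * (f ^ ((i : ℕ) + 1))⁻¹ := by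
      rw [pow_succ']; simp only [s]; group
    rw [this]
    fin_cases i <;> first | rfl | (show f ^ 5 * _ * (f ^ 5)⁻¹ = f ^ 0 * _ * (f ^ 0)⁻¹; rw [hf5, pow_zero])
  have hmem : ∀ i, s i ∈ Q := fun i => by
    have hz' : f ^ (i : ℕ) * z = z * f ^ (i : ℕ) := (Commute.pow_left hfz i).eq
    exact h.norm _ hz' _ hgQ
  have hss : ∀ i, s i * s i = 1 := fun i => by
    simp only [s]
    rw [show f ^ (i : ℕ) * q0 * (f ^ (i : ℕ))⁻¹ * (f ^ (i : ℕ) * q0 * (f ^ (i : ℕ))⁻¹) =
      f ^ (i : ℕ) * (q0 * q0) * (f ^ (i : ℕ))⁻¹ by group, hq0]; group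
  have hgen : ∀ q ∈ Q, q ∈ closure (insert z (Set.range s)) := by
    intro q hq
    rwa [h.five_invariant hf hfz ((closure_le _).mpr (Set.insert_subset_iff.mpr
      ⟨h.hzQ, Set.range_subset_iff.mpr hmem⟩)) (subset_closure (by simp)) ?_
      ⟨s 0, subset_closure (Set.mem_insert_of_mem _ ⟨0, rfl⟩), ?_, ?_⟩]
    · intro u hu
      have : (closure (insert z (Set.range s))).map (MulAut.conj f).toMonoidHom ≤
          closure (insert z (Set.range s)) := by
        rw [MonoidHom.map_closure, closure_le]
        rintro _ ⟨x, hx, rfl⟩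
        rcases hx with rfl | ⟨i, rfl⟩
        · refine subset_closure (Or.inl ?_)
          simp [hfz]
        · refine subset_closure (Or.inr ⟨i + 1, ?_⟩)
          rw [← shift]; rfl
      exact this ⟨u, hu, rfl⟩
    · simpa [s] using hq1
    · simpa [s] using hgz
  -- commutation up to shift
  have sh : ∀ i j e, e = 1 ∨ e = z → s j * s i = e * (s i * s j) →
      s (j + 1) * s (i + 1) = e * (s (i + 1) * s (j + 1)) := by
    intro i j e he hij
    have hfe : f * e = e * f := by rcases he with rfl | rfl <;> simp [hfz]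
    rw [← shift, ← shift,
      show f * s j * f⁻¹ * (f * s i * f⁻¹) = f * (s j * s i) * f⁻¹ by group, hij]
    calc f * (e * (s i * s j)) * f⁻¹ = (f * e) * (s i * s j) * f⁻¹ := by group
      _ = e * (f * s i * f⁻¹ * (f * s j * f⁻¹)) := by rw [hfe]; group
  have pick : ∀ i j, ∃ e, (e = 1 ∨ e = z) ∧ s j * s i = e * (s i * s j) := by
    intro i j
    rcases h.comm _ (hmem j) _ (hmem i) with e | e
    · exact ⟨1, Or.inl rfl, by rw [e, one_mul]⟩
    · exact ⟨z, Or.inr rfl, e⟩
  have flip : ∀ i j e, e = 1 ∨ e = z → s j * s i = e * (s i * s j) → s i * s j = e * (s j * s i) := by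
    intro i j e he hij
    rw [hij]
    rcases he with rfl | rfl
    · simp
    · rw [h.mulZ_inv]
  obtain ⟨u, hu, h01⟩ := pick 0 1
  obtain ⟨v, hv, h02⟩ := pick 0 2
  have h12 : s 2 * s 1 = u * (s 1 * s 2) := sh 0 1 u hu h01
  have h23 : s 3 * s 2 = u * (s 2 * s 3) := sh 1 2 u hu h12
  have h34 : s 4 * s 3 = u * (s 3 * s 4) := sh 2 3 u hu h23
  have h40 : s 0 * s 4 = u * (s 4 * s 0) := sh 3 4 u hu h34
  have h04 := flip 4 0 u hu h40
  have h13 : s 3 * s 1 = v * (s 1 * s 3) := sh 0 2 v hv h02
  have h24 : s 4 * s 2 = v * (s 2 * s 4) := sh 1 3 v hv h13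
  have h30 : s 0 * s 3 = v * (s 3 * s 0) := sh 2 4 v hv h24
  have h03 := flip 3 0 v hv h30
  have h41 : s 1 * s 4 = v * (s 4 * s 1) := sh 3 0 v hv h30
  have h14 := flip 4 1 v hv h41
  have hcu : ∀ e : G, e = 1 ∨ e = z → ∀ x ∈ Q, x * e = e * x := by
    rintro e (rfl | rfl) x hx
    · simp
    · exact h.zc hx
  set P := s 0 * s 1 * s 2 * s 3 * s 4 with hP
  have hPQ : P ∈ Q := mul_mem (mul_mem (mul_mem (mul_mem (hmem 0) (hmem 1)) (hmem 2)) (hmem 3)) (hmem 4)
  have hprod : P = 1 ∨ P = z := by
    refine h.five_fixed hf hfz hPQ (h.commute_of_mod ⟨2, rfl⟩ hf5 hfz ?_)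
    have e : f * P * f⁻¹ = (s 0)⁻¹ * P * s 0 := by
      rw [hP, show f * (s 0 * s 1 * s 2 * s 3 * s 4) * f⁻¹ = (f * s 0 * f⁻¹) * (f * s 1 * f⁻¹) *
        (f * s 2 * f⁻¹) * (f * s 3 * f⁻¹) * (f * s 4 * f⁻¹) by group, shift, shift, shift, shift, shift]
      show s 1 * s 2 * s 3 * s 4 * s 0 = _
      group
    rw [e]
    rcases h.comm _ hPQ _ (hmem 0) with r | r
    · left; rw [mul_assoc, r, inv_mul_cancel_left]
    · right
      calc (s 0)⁻¹ * P * s 0 = (s 0)⁻¹ * (P * s 0) := by group
        _ = (s 0)⁻¹ * z * (s 0 * P) := by rw [r]; group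
        _ = z * (s 0)⁻¹ * (s 0 * P) := by rw [h.zc (inv_mem (hmem 0))]
        _ = z * P := by group
  have hrev : u * v = 1 := by
    have e := reverse_five h01 h12 h23 h34 h04 h02 h13 h24 h03 h14
      (fun x hx => by
        apply hcu u hu
        rcases hx with rfl | rfl | rfl | rfl | rfl | rfl
        any_goals apply hmem
        rcases hv with rfl | rfl
        · exact one_mem _
        · exact h.hzQ)
      (fun x hx => by apply hcu v hv; rcases hx with rfl | rfl | rfl | rfl | rfl <;> apply hmem)
      (by rcases hu with rfl | rfl <;> simp [h.zz]) (by rcases hv with rfl | rfl <;> simp [h.zz])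
    have hi : P⁻¹ = s 4 * s 3 * s 2 * s 1 * s 0 := by
      have := fun i => inv_eq_of_mul_eq_one_left (hss i)
      simp [hP, mul_inv_rev, this, mul_assoc]
    rw [← hi] at e
    have hPP : P⁻¹ = P := by rcases hprod with r | r <;> simp [r, h.z_inv]
    rw [hPP, ← mul_assoc] at e
    exact mul_eq_right.mp e.symm
  have huv : u = v := by
    rcases hu with rfl | rfl <;> rcases hv with rfl | rfl <;> first | rfl |
      exact absurd (by simpa using hrev) h.z_ne_one
  subst huv
  have hall : ∀ i j, i ≠ j → s j * s i = u * (s i * s j) := by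
    intro i j hij
    fin_cases i <;> fin_cases j <;>
      first
        | exact h01
        | exact h02
        | exact h03
        | exact h04
        | exact h12
        | exact h13
        | exact h14
        | exact h23
        | exact h24
        | exact h34
        | exact flip _ _ u hu h01
        | exact flip _ _ u hu h02
        | exact flip _ _ u hu h03
        | exact flip _ _ u hu h04
        | exact flip _ _ u hu h12
        | exact flip _ _ u hu h13
        | exact flip _ _ u hu h14
        | exact flip _ _ u hu h23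
        | exact flip _ _ u hu h24
        | exact flip _ _ u hu h34
        | exact absurd rfl hij
  have hu' : u = z := by
    rcases hu with rfl | rfl
    · exfalso
      apply h.not_abelian
      intro a ha b hb
      haveI := isMulCommutative_closure (k := insert z (Set.range s)) (by
        rintro x (rfl | ⟨i, rfl⟩) y (rfl | ⟨j, rfl⟩)
        · rfl
        · exact (h.zc (hmem j)).symm
        · exact h.zc (hmem i)
        · by_cases hij : j = i
          · rw [hij]
          · simpa using hall j i hij)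
      exact setLike_mul_comm (hgen a ha) (hgen b hb)
    · rfl
  subst hu'
  exact ⟨⟨h, s, hmem, hss, hall, hgen, hprod⟩⟩

end Setup

end Cfsg.Agent.H43.JTwo
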