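import Cfsg.Agent.H43.JTwo.CentX

/-!
The Sylow 5-structure.
-/

set_option autoImplicit false
set_option linter.style.haveILetI false
set_option linter.unusedSectionVars false
set_option linter.unusedSimpArgs false
set_option synthInstance.maxSize 4000

namespace Cfsg.Agent.H43.JTwo

open Subgroup

variable {G : Type*} [Group G] [Finite G] {z : G} {Q : Subgroup G}

theorem sylow_card_of {p k m : ℕ} [hp : Fact p.Prime] (hG : Nat.card G = p ^ k * m) (hm : ¬ p ∣ m)
    (P : Sylow p G) : Nat.card (P : Subgroup G) = p ^ k := by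
  have hm0 : m ≠ 0 := fun h => hm (h ▸ dvd_zero p)
  rw [P.card_eq_multiplicity, hG, Nat.factorization_mul (pow_ne_zero _ hp.out.ne_zero) hm0,
    Finsupp.add_apply, hp.out.factorization_pow, Nat.factorization_eq_zero_of_not_dvd hm,
    Finsupp.single_eq_same, add_zero]

theorem exists_sylow_mem {p : ℕ} [Fact p.Prime] {v : G} (hv : orderOf v = p) :
    ∃ P : Sylow p G, v ∈ (P : Subgroup G) := by
  obtain ⟨P, hP⟩ := (IsPGroup.of_card (G := zpowers v) (n := 1)
    (by rw [Nat.card_zpowers, hv, pow_one]) : IsPGroup p (zpowers v)).exists_le_sylow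
  exact ⟨P, hP (mem_zpowers v)⟩

theorem orbit_stab_sub (H W : Subgroup G) [Fintype H] [DecidableEq (Subgroup G)] [DecidableEq G] :
    Nat.card H = (Finset.univ.image fun c : H => W.map (MulAut.conj (c : G)).toMonoidHom).card *
      Nat.card ↥(H ⊓ normalizer (W : Set G)) := by
  classical
  rw [Nat.card_eq_fintype_card, H65.FourCount.card_eq_image_mul
    (fun c : H => W.map (MulAut.conj (c : G)).toMonoidHom)
    (Finset.univ.filter fun c : H => (c : G) ∈ normalizer (W : Set G)) (fun b c => ?_)]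
  · congr 1
    rw [← Fintype.card_subtype, ← Nat.card_eq_fintype_card]
    exact Nat.card_congr
      { toFun := fun c => ⟨(c.1 : G), c.1.2, c.2⟩
        invFun := fun c => ⟨⟨(c : G), c.2.1⟩, c.2.2⟩
        left_inv := fun c => rfl
        right_inv := fun c => rfl }
  · rw [Finset.mem_filter, and_iff_right (Finset.mem_univ _)]
    push_cast
    constructor
    · intro e
      refine mem_normalizer_iff.mpr fun y => ?_
      have := SetLike.ext_iff.mp e ((c : G) * y * (c : G)⁻¹)
      rw [mem_map_equiv, mem_map_equiv, MulAut.conj_symm_apply, MulAut.conj_symm_apply] at this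
      simp only [mul_assoc, inv_mul_cancel_left, inv_mul_cancel, mul_one] at this
      rw [this]
      simp [mul_assoc]
    · intro e
      ext y
      rw [mem_map_equiv, mem_map_equiv, MulAut.conj_symm_apply, MulAut.conj_symm_apply,
        mem_normalizer_iff.mp e ((c : G)⁻¹ * y * (c : G))]
      simp [mul_assoc]

theorem map_zpowers_conj (g v : G) :
    (zpowers v).map (MulAut.conj g).toMonoidHom = zpowers (g * v * g⁻¹) :=
  MonoidHom.map_zpowers _ v

theorem mem_normalizer_zpowers {c v : G} (h : c * v * c⁻¹ ∈ zpowers v) :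
    c ∈ normalizer (zpowers v : Set G) := by
  have hle : (zpowers v).map (MulAut.conj c).toMonoidHom ≤ zpowers v := by
    rw [map_zpowers_conj]; exact zpowers_le.mpr h
  have e := eq_of_le_of_card_ge hle (by
    rw [← Nat.card_congr ((zpowers v).equivMapOfInjective _ (MulAut.conj c).injective).toEquiv])
  refine mem_normalizer_iff.mpr fun y => ?_
  have := SetLike.ext_iff.mp e (c * y * c⁻¹)
  rw [mem_map_equiv, MulAut.conj_symm_apply] at this
  rw [← this]
  simp [mul_assoc]

/-- An element of order three normalising a group of order five centralises it. -/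
theorem three_fix_five {w v : G} (hw : w ^ 3 = 1) (hv : orderOf v = 5)
    (h : w * v * w⁻¹ ∈ zpowers v) : w * v * w⁻¹ = v := by
  obtain ⟨i, hi⟩ := mem_zpowers_pow (n := 5) (hv ▸ pow_orderOf_eq_one v) h
  have h3 : v = v ^ ((i : ℕ) * ((i : ℕ) * (i : ℕ))) := by
    have e1 : ∀ n : ℕ, w * v ^ n * w⁻¹ = v ^ ((i : ℕ) * n) := fun n => by
      rw [← conj_pow, hi, ← pow_mul]
    calc v = (w ^ 3) * v * (w ^ 3)⁻¹ := by rw [hw]; group
      _ = w * (w * (w * v * w⁻¹) * w⁻¹) * w⁻¹ := by rw [pow_three]; group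
      _ = _ := by rw [hi, e1, e1]
  have hmod : (i : ℕ) * ((i : ℕ) * (i : ℕ)) % 5 = 1 := by
    have := pow_inj_mod.mp (show v ^ 1 = v ^ ((i : ℕ) * ((i : ℕ) * (i : ℕ))) by rw [pow_one]; exact h3)
    rw [hv] at this
    exact this.symm
  have key : ∀ i : Fin 5, (i : ℕ) * ((i : ℕ) * (i : ℕ)) % 5 = 1 → i = 1 := by decide
  rw [hi, key i hmod]
  simp

theorem conj_pow_step {w y d : G} (hd : w * d * w⁻¹ = d) (hy : w * y * w⁻¹ = d * y) (n : ℕ) :
    w ^ n * y * (w ^ n)⁻¹ = d ^ n * y := by
  induction n with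
  | zero => simp
  | succ n ih =>
    rw [pow_succ' w, show w * w ^ n * y * (w * w ^ n)⁻¹ = w * (w ^ n * y * (w ^ n)⁻¹) * w⁻¹ by group, ih,
      show w * (d ^ n * y) * w⁻¹ = (w * d ^ n * w⁻¹) * (w * y * w⁻¹) by group, ← conj_pow, hd, hy,
      ← mul_assoc, ← pow_succ]

/-- The coprime step: a three-element fixing a point of an abelian group of order 25 centralises it. -/
theorem three_cent {P : Subgroup G} (hP : Nat.card P = 25) (hc : ∀ p ∈ P, ∀ q ∈ P, p * q = q * p)
    {w v : G} (hw : w ^ 3 = 1) (hwn : w ∈ normalizer (P : Set G)) (hv : v ∈ P) (hv1 : v ≠ 1)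
    (hfix : w * v * w⁻¹ = v) : ∀ y ∈ P, w * y * w⁻¹ = y := by
  haveI : Fact (Nat.Prime 5) := ⟨by norm_num⟩
  have hnm : ∀ y ∈ P, w * y * w⁻¹ ∈ P := fun y hy => (mem_normalizer_iff.mp hwn y).mp hy
  have hdvd : ∀ {H : Subgroup G}, H ≤ P → Nat.card H ∣ 25 := fun h => hP ▸ card_dvd_of_le h
  let δ : P →* G :=
    { toFun := fun y => w * y * w⁻¹ * (y : G)⁻¹
      map_one' := by simp
      map_mul' := fun y y' => by
        push_cast
        have hcomm := hc _ (hnm y' y'.2) _ (inv_mem y.2)
        rw [mul_inv_rev, show w * ((y : G) * y') * w⁻¹ * ((y' : G)⁻¹ * (y : G)⁻¹) =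
          (w * y * w⁻¹) * ((w * y' * w⁻¹) * ((y' : G)⁻¹ * (y : G)⁻¹)) by group,
          hc _ (inv_mem y'.2) _ (inv_mem y.2), ← mul_assoc (w * y' * w⁻¹), hcomm]
        group }
  have hrP : δ.range ≤ P := by
    rintro _ ⟨y, rfl⟩
    exact mul_mem (hnm y y.2) (inv_mem y.2)
  -- the range has order at most five
  have hker : 5 ∣ Nat.card δ.ker := by
    have hvk : (⟨v, hv⟩ : P) ∈ δ.ker := by
      show w * v * w⁻¹ * v⁻¹ = 1
      rw [hfix, mul_inv_cancel]
    have := orderOf_dvd_natCard (⟨_, hvk⟩ : δ.ker)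
    rw [← orderOf_coe, ← orderOf_coe] at this
    rcases (Nat.dvd_prime_pow (by norm_num : Nat.Prime 5) (m := 2)).mp
      (show orderOf v ∣ 5 ^ 2 by norm_num; exact hP ▸ P.orderOf_dvd_natCard hv) with ⟨k, hk, e⟩
    rcases k with _ | k
    · exact absurd (orderOf_eq_one_iff.mp (e.trans (pow_zero 5))) hv1
    · exact (e ▸ dvd_pow_self 5 (Nat.succ_ne_zero k)).trans this
  have hr5 : Nat.card δ.range ∣ 5 := by
    have h := δ.ker.card_mul_index
    rw [index_ker, hP] at h
    obtain ⟨k, hk⟩ := hker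
    rw [hk] at h
    exact ⟨k, by rw [mul_comm]; linarith⟩
  have hfixr : ∀ d ∈ δ.range, w * d * w⁻¹ = d := by
    intro d hd
    by_cases hd1 : d = 1
    · rw [hd1]; group
    have ho : orderOf d = 5 := by
      rcases (Nat.dvd_prime (by norm_num)).mp ((δ.range.orderOf_dvd_natCard hd).trans hr5) with e | e
      · exact absurd (orderOf_eq_one_iff.mp e) hd1
      · exact e
    have hz : zpowers d = δ.range := eq_of_le_of_card_ge (zpowers_le.mpr hd)
      (by rw [Nat.card_zpowers, ho]; exact Nat.le_of_dvd (by norm_num) hr5)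
    refine three_fix_five hw ho ?_
    rw [hz]
    obtain ⟨y, rfl⟩ := hd
    refine ⟨⟨w * y * w⁻¹, hnm y y.2⟩, ?_⟩
    show w * (w * y * w⁻¹) * w⁻¹ * (w * y * w⁻¹)⁻¹ = w * (w * y * w⁻¹ * (y : G)⁻¹) * w⁻¹
    group
  intro y hy
  set d := w * y * w⁻¹ * y⁻¹ with hd
  have hdr : d ∈ δ.range := ⟨⟨y, hy⟩, rfl⟩
  have h3 := conj_pow_step (hfixr d hdr) (show w * y * w⁻¹ = d * y by rw [hd, inv_mul_cancel_right]) 3
  rw [hw] at h3
  have hd3 : d ^ 3 = 1 := mul_eq_right.mp (h3.symm.trans (by group))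
  have h5 : orderOf d ∣ 25 := hP ▸ P.orderOf_dvd_natCard (hrP hdr)
  have h31 := Nat.eq_one_of_dvd_coprimes (by norm_num : Nat.Coprime 3 25) (orderOf_dvd_of_pow_eq_one hd3) h5
  exact mul_inv_eq_one.mp (orderOf_eq_one_iff.mp h31)

/-- Data: an element `f` of order five of `L` and a Sylow 5-subgroup containing it. -/
structure FSet (D : JSet z Q) (t a σ : G) (L : Subgroup G) (f : G) (P : Sylow 5 G) : Prop
    extends LSet D t a σ L where
  hf : orderOf f = 5
  hfL : f ∈ L
  hfP : f ∈ (P : Subgroup G)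

theorem JSet.exists_fset (D : JSet z Q) :
    ∃ t a σ L f P, FSet D t a σ L f P := by
  haveI : Fact (Nat.Prime 5) := ⟨by norm_num⟩
  obtain ⟨t, htt, htz, htQ⟩ := D.exists_t
  obtain ⟨a, σ, L, S⟩ := D.exists_lset htt htz htQ
  obtain ⟨⟨f, hfL⟩, hf⟩ := exists_prime_orderOf_dvd_card' (G := L) 5 (by rw [S.h60]; norm_num)
  rw [orderOf_mk] at hf
  obtain ⟨P, hP⟩ := exists_sylow_mem hf
  exact ⟨t, a, σ, L, f, P, S, hf, hfL, hP⟩

namespace FSet

variable {D : JSet z Q} {t a σ f : G} {L : Subgroup G} {P : Sylow 5 G}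

theorem hG (F : FSet D t a σ L f P) : Nat.card G = 604800 := (D.card_eq F.toLSet).1

theorem hp (F : FSet D t a σ L f P) : orderOf f = 3 ∨ orderOf f = 5 := Or.inr F.hf

theorem f_ne (F : FSet D t a σ L f P) : f ≠ 1 := fun e => by
  have := F.hf; rw [e, orderOf_one] at this; omega

theorem cardP (F : FSet D t a σ L f P) : Nat.card (P : Subgroup G) = 25 := by
  haveI : Fact (Nat.Prime 5) := ⟨by norm_num⟩
  rw [sylow_card_of (k := 2) (m := 24192) (by rw [F.hG]; norm_num) (by norm_num) P]
  norm_num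

theorem commP (F : FSet D t a σ L f P) :
    ∀ p ∈ (P : Subgroup G), ∀ q ∈ (P : Subgroup G), p * q = q * p := by
  haveI : Fact (Nat.Prime 5) := ⟨by norm_num⟩
  intro p hp q hq
  haveI := IsPGroup.isMulCommutative_of_card_eq_prime_sq (p := 5) (G := (P : Subgroup G))
    (by rw [F.cardP]; norm_num)
  exact setLike_mul_comm hp hq

theorem P_le (F : FSet D t a σ L f P) : (P : Subgroup G) ≤ centralizer ({f} : Set G) :=
  fun p hp => mem_centralizer_singleton_iff.mpr (F.commP p hp f F.hfP)

theorem card_cen (F : FSet D t a σ L f P) : Nat.card ↥(centralizer ({f} : Set G)) = 300 := by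
  have h := card_cq f
  rw [F.hf] at h
  have h25 : 25 ∣ Nat.card ↥(centralizer ({f} : Set G)) := F.cardP ▸ card_dvd_of_le F.P_le
  rcases F.toLSet.card_cq_cases F.hfL F.hp with e | e <;> rw [e] at h
  · rw [h] at h25; norm_num at h25
  · rw [h]

theorem card_cen_t (F : FSet D t a σ L f P) :
    Nat.card ↥(centralizer ({f} : Set G) ⊓ centralizer ({t} : Set G)) = 20 := by
  have S := F.toLSet
  obtain ⟨-, -, -, hB4, -⟩ := S.bGroup_props
  obtain ⟨e⟩ := LSet.prod_equiv (H := bGroup z t σ) (M := zpowers f)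
    (N := centralizer ({f} : Set G) ⊓ centralizer ({t} : Set G))
    (fun b hb => mem_inf.mpr ⟨mem_centralizer_singleton_iff.mpr (S.bc hb F.hfL),
      mem_centralizer_singleton_iff.mpr (mem_bGroup.mp hb).2.1⟩)
    (zpowers_le.mpr (mem_inf.mpr ⟨mem_centralizer_singleton_iff.mpr rfl, S.hLK F.hfL⟩))
    (fun b hb m hm => S.bc hb (zpowers_le.mpr F.hfL hm))
    (fun b hb hm => S.bL_disj hb (zpowers_le.mpr F.hfL hm))
    (fun n hn => S.cen_x_t F.hfL F.hp (mem_centralizer_singleton_iff.mp (mem_inf.mp hn).1)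
      (mem_centralizer_singleton_iff.mp (mem_inf.mp hn).2))
  rw [Nat.card_congr e.toEquiv, Nat.card_prod, hB4, Nat.card_zpowers, F.hf]

/-- A Sylow 5-subgroup is self-centralising. -/
theorem cenP (F : FSet D t a σ L f P) :
    centralizer ((P : Subgroup G) : Set G) = (P : Subgroup G) := by
  have S := F.toLSet
  set CP := centralizer ((P : Subgroup G) : Set G) with hCP
  have hPC : (P : Subgroup G) ≤ CP := fun p hp => mem_centralizer_iff.mpr fun q hq => F.commP q hq p hp
  have hCf : CP ≤ centralizer ({f} : Set G) := fun c hc =>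
    mem_centralizer_singleton_iff.mpr (mem_centralizer_iff.mp hc f F.hfP).symm
  symm
  refine eq_of_le_of_card_ge hPC ?_
  rw [F.cardP]
  by_contra hlt
  obtain ⟨d, hd⟩ : 25 ∣ Nat.card CP := F.cardP ▸ card_dvd_of_le hPC
  have hdd : d ∣ 12 := by
    have := card_dvd_of_le hCf
    rw [F.card_cen, hd, show (300 : ℕ) = 25 * 12 by norm_num] at this
    exact Nat.dvd_of_mul_dvd_mul_left (by norm_num) this
  have hd1 : d ≠ 1 := fun e => hlt (by rw [hd, e])
  obtain ⟨q, hq, hqd⟩ := Nat.exists_prime_and_dvd hd1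
  haveI := Fact.mk hq
  obtain ⟨⟨u, hu⟩, huo⟩ := exists_prime_orderOf_dvd_card' (G := CP) q (hd ▸ hqd.mul_left 25)
  rw [orderOf_mk] at huo
  have huf := mem_centralizer_singleton_iff.mp (hCf hu)
  have hq12 : q = 2 ∨ q = 3 := by
    have h12 : q ∣ 2 ^ 2 * 3 := hqd.trans hdd
    rcases hq.dvd_mul.mp h12 with h | h
    · exact Or.inl ((Nat.prime_dvd_prime_iff_eq hq Nat.prime_two).mp (hq.dvd_of_dvd_pow h))
    · exact Or.inr ((Nat.prime_dvd_prime_iff_eq hq Nat.prime_three).mp h)
  rcases hq12 with rfl | rfl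
  · obtain ⟨c, hc, e⟩ := S.cen_invol F.hfL F.hp huf (by rw [← pow_two, ← huo, pow_orderOf_eq_one])
      (fun e => by rw [e, orderOf_one] at huo; omega)
    have hle : (P : Subgroup G).map (MulAut.conj c⁻¹).toMonoidHom ≤
        centralizer ({f} : Set G) ⊓ centralizer ({t} : Set G) := by
      rintro _ ⟨p, hp, rfl⟩
      refine mem_inf.mpr ⟨?_, ?_⟩ <;> rw [mem_centralizer_singleton_iff]
      · exact Commute.mul_left (Commute.mul_left (Commute.inv_left hc) (F.commP p hp f F.hfP))
          (by rw [inv_inv]; exact hc)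
      · have hpu : p * u = u * p := mem_centralizer_iff.mp hu p hp
        show c⁻¹ * p * c⁻¹⁻¹ * t = t * (c⁻¹ * p * c⁻¹⁻¹)
        calc c⁻¹ * p * c⁻¹⁻¹ * t = c⁻¹ * (p * (c * t * c⁻¹)) * c := by group
          _ = c⁻¹ * (c * t * c⁻¹ * p) * c := by rw [e, hpu]
          _ = _ := by group
    have := card_dvd_of_le hle
    rw [← Nat.card_congr ((P : Subgroup G).equivMapOfInjective _ (MulAut.conj c⁻¹).injective).toEquiv,
      F.cardP, F.card_cen_t] at this
    norm_num at this
  · -- order three: conjugate to a power of an element of `K`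
    obtain ⟨π, hπK, hπ, -, hπz, hπL⟩ := S.exists_pi
    set K := centralizer ({f} : Set G) with hK
    have hπf : π * f = f * π := hπL f F.hfL
    haveI : Fact (Nat.Prime 3) := ⟨by norm_num⟩
    set π' : K := ⟨π, mem_centralizer_singleton_iff.mpr hπf⟩
    set u' : K := ⟨u, hCf hu⟩
    have ho : Nat.card (zpowers π') = 3 := by rw [Nat.card_zpowers, ← orderOf_coe]; exact hπ
    have hidx : ¬ 3 ∣ (zpowers π').index := by
      intro h
      have h1 := (zpowers π').card_mul_index
      rw [ho, show Nat.card ↥K = 300 from F.card_cen] at h1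
      obtain ⟨m, hm⟩ := h
      omega
    have hp3 : IsPGroup 3 (zpowers π') := IsPGroup.of_card (n := 1) (by rw [ho]; norm_num)
    obtain ⟨T, hT⟩ := (IsPGroup.of_card (G := zpowers u') (n := 1)
      (by rw [Nat.card_zpowers, ← orderOf_coe, pow_one]; exact huo) : IsPGroup 3 (zpowers u')).exists_le_sylow
    obtain ⟨h, hh⟩ := MulAction.exists_smul_eq K T (hp3.toSylow hidx)
    have hmem : h * u' * h⁻¹ ∈ zpowers π' := by
      have : h * u' * h⁻¹ ∈ ((h • T : Sylow 3 K) : Subgroup K) := by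
        rw [Sylow.coe_subgroup_smul, mem_pointwise_smul_iff_inv_smul_mem, MulAut.smul_def]
        simp only [← map_inv, MulAut.conj_apply, inv_inv]
        convert hT (mem_zpowers _) using 1
        group
      rw [hh] at this
      exact this
    obtain ⟨j, hj⟩ := mem_zpowers_iff.mp hmem
    have hmem' : (h : G) * u * (h : G)⁻¹ ∈ zpowers π := mem_zpowers_iff.mpr ⟨j, congrArg Subtype.val hj⟩
    have hne : (h : G) * u * (h : G)⁻¹ ≠ 1 := fun e => by
      rw [conj_eq_one_iff.mp e, orderOf_one] at huo; omega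
    have hzp := zpowers_eq_of_prime (by norm_num) hπ hmem' hne
    have hcc := cen_eq_of_mem_zpowers hmem' (hzp ▸ mem_zpowers π)
    have h25 : 25 ∣ Nat.card ↥(centralizer ({u} : Set G)) := by
      rw [← F.cardP]
      exact card_dvd_of_le fun p hp => mem_centralizer_singleton_iff.mpr (mem_centralizer_iff.mp hu p hp)
    rw [← card_cen_conj (h : G) u, ← hcc, (D.card_cen_three hπ hπz).2] at h25
    norm_num at h25

theorem mem_line_of_t (F : FSet D t a σ L f P) {y : G} (hy : y ∈ (P : Subgroup G)) (hyt : y * t = t * y) :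
    y ∈ zpowers f := by
  obtain ⟨w, hw, b, hb, e⟩ := F.toLSet.cen_x_t F.hfL F.hp (F.commP y hy f F.hfP) hyt
  have hbP : b ∈ (P : Subgroup G) := by
    have := mul_mem (inv_mem (zpowers_le.mpr F.hfP hw)) hy
    rwa [e, inv_mul_cancel_left] at this
  have h1 : orderOf b ∣ 25 := F.cardP ▸ (P : Subgroup G).orderOf_dvd_natCard hbP
  have h2 : orderOf b ∣ 2 := orderOf_dvd_of_pow_eq_one (by rw [pow_two]; exact F.toLSet.bsq hb)
  rw [e, orderOf_eq_one_iff.mp (Nat.eq_one_of_dvd_coprimes (by norm_num) h1 h2), mul_one]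
  exact hw

/-- `|N(P) ∩ C(f)| = 50`. -/
theorem card_norm_cen (F : FSet D t a σ L f P) :
    Nat.card ↥(normalizer ((P : Subgroup G) : Set G) ⊓ centralizer ({f} : Set G)) = 50 := by
  haveI : Fact (Nat.Prime 5) := ⟨by norm_num⟩
  have S := F.toLSet
  set K := centralizer ({f} : Set G) with hK
  set PK := (P : Subgroup G).subgroupOf K with hPK
  have hPKc : Nat.card PK = 25 := by
    rw [hPK, Nat.card_congr (subgroupOfEquivOfLe F.P_le).toEquiv, F.cardP]
  have hidx : PK.index = 12 := by
    have := PK.card_mul_index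
    rw [hPKc, show Nat.card ↥K = 300 from F.card_cen] at this
    omega
  let T : Sylow 5 K := (IsPGroup.of_card (n := 2) (by rw [hPKc]; norm_num) : IsPGroup 5 PK).toSylow
    (by rw [hidx]; norm_num)
  have hnormeq : Nat.card (normalizer (PK : Set K)) =
      Nat.card ↥(normalizer ((P : Subgroup G) : Set G) ⊓ K) := by
    have hiff : ∀ c : K, c ∈ normalizer (PK : Set K) ↔ (c : G) ∈ normalizer ((P : Subgroup G) : Set G) := by
      intro c
      rw [mem_normalizer_iff, mem_normalizer_iff]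
      constructor
      · intro h y
        constructor
        · intro hy
          exact (h ⟨y, F.P_le hy⟩).mp hy
        · intro hy
          have hyK : y ∈ K := by
            have := mul_mem (mul_mem (inv_mem c.2) (F.P_le hy)) c.2
            simpa [mul_assoc] using this
          exact (h ⟨y, hyK⟩).mpr hy
      · intro h y
        exact h (y : G)
    exact Nat.card_congr
      { toFun := fun c => ⟨((c : K) : G), mem_inf.mpr ⟨(hiff c.1).mp c.2, (c : K).2⟩⟩
        invFun := fun c => ⟨⟨(c : G), (mem_inf.mp c.2).2⟩, (hiff _).mpr (mem_inf.mp c.2).1⟩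
        left_inv := fun c => rfl
        right_inv := fun c => rfl }
  have hn := Sylow.card_eq_index_normalizer T
  have hmod := card_sylow_modEq_one 5 K
  rw [hn] at hmod
  have hsplit := (normalizer (PK : Set K)).card_mul_index
  rw [show Nat.card ↥K = 300 from F.card_cen] at hsplit
  have hdvd : (normalizer (PK : Set K)).index ∣ 12 := hidx ▸ index_dvd_of_le le_normalizer
  have hmod' : (normalizer (PK : Set K)).index % 5 = 1 := hmod
  have hne1 : (normalizer (PK : Set K)).index ≠ 1 := by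
    intro h1
    rw [index_eq_one] at h1
    obtain ⟨-, -, -, hB4, htB⟩ := S.bGroup_props
    have hfix : ∀ b ∈ bGroup z t σ, b ≠ 1 → ∀ y ∈ (P : Subgroup G), y * (b * y * b⁻¹) ∈ zpowers f := by
      intro b hb hb1 y hy
      have hbK : b ∈ K := mem_centralizer_singleton_iff.mpr (S.bc hb F.hfL)
      have hbn : (⟨b, hbK⟩ : K) ∈ normalizer (PK : Set K) := h1 ▸ mem_top _
      have hy' : b * y * b⁻¹ ∈ (P : Subgroup G) := (mem_normalizer_iff.mp hbn ⟨y, F.P_le hy⟩).mp hy
      refine F.mem_line_of_t (mul_mem hy hy') ?_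
      have hc : y * (b * y * b⁻¹) ∈ centralizer ({b} : Set G) := by
        rw [mem_centralizer_singleton_iff]
        refine (mul_inv_eq_iff_eq_mul.mp ?_).symm
        calc b * (y * (b * y * b⁻¹)) * b⁻¹ = (b * y * b⁻¹) * ((b * b) * y * (b * b)⁻¹) := by group
          _ = _ := by
            rw [S.bsq hb, one_mul, inv_one, mul_one]
            exact F.commP _ hy' _ hy
      rw [S.cent_B hb hb1] at hc
      exact mem_centralizer_singleton_iff.mp hc
    have hlt : ¬ (P : Subgroup G) ≤ zpowers f := fun h => by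
      have := card_le_of_le h
      rw [F.cardP, Nat.card_zpowers, F.hf] at this
      omega
    apply hlt
    intro y hy
    obtain ⟨b, hb, hb1, hbt⟩ : ∃ b ∈ bGroup z t σ, b ≠ 1 ∧ b ≠ t := by
      by_contra hne
      push Not at hne
      have hle : bGroup z t σ ≤ zpowers t := fun x hx => by
        by_cases h : x = 1
        · rw [h]; exact one_mem _
        · rw [hne x hx h]; exact mem_zpowers t
      have := card_le_of_le hle
      rw [hB4, Nat.card_zpowers, orderOf_eq_prime (by rw [pow_two]; exact S.ht) S.t_ne_one] at this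
      omega
    have hbt1 : b * t ≠ 1 := fun e => hbt ((eq_inv_of_mul_eq_one_left e).trans (inv_eq_of_mul_eq_one_left S.ht))
    have h1' := hfix b hb hb1 y hy
    have h2' := hfix t htB S.t_ne_one y hy
    have h3' := hfix _ (mul_mem hb htB) hbt1 y hy
    obtain ⟨w, hw, hwe⟩ : ∃ w ∈ zpowers f, t * y * t⁻¹ = y⁻¹ * w := ⟨_, h2', (inv_mul_cancel_left _ _).symm⟩
    obtain ⟨w', hw', hwe'⟩ : ∃ w ∈ zpowers f, b * y * b⁻¹ = y⁻¹ * w := ⟨_, h1', (inv_mul_cancel_left _ _).symm⟩
    have hbw : b * w * b⁻¹ = w := by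
      rw [S.bc hb (zpowers_le.mpr F.hfL hw), mul_inv_cancel_right]
    have e3 : y * ((b * t) * y * (b * t)⁻¹) = y * w'⁻¹ * y * w := by
      calc y * ((b * t) * y * (b * t)⁻¹) = y * (b * (t * y * t⁻¹) * b⁻¹) := by group
        _ = y * ((b * y * b⁻¹)⁻¹ * (b * w * b⁻¹)) := by rw [hwe]; group
        _ = _ := by rw [hbw, hwe']; group
    rw [e3] at h3'
    have hyw : w'⁻¹ * y = y * w'⁻¹ :=
      F.commP _ (inv_mem (zpowers_le.mpr F.hfP hw')) y hy
    rw [mul_assoc y, hyw] at h3'
    have hyy : y * y ∈ zpowers f := by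
      have := mul_mem h3' (inv_mem (mul_mem (inv_mem hw') hw))
      simpa [mul_assoc] using this
    have h5 : y ^ 5 ∈ zpowers f := by
      have hy25 : orderOf y ∣ 25 := F.cardP ▸ (P : Subgroup G).orderOf_dvd_natCard hy
      have h55 : (y ^ 5) ^ 5 = 1 := by rw [← pow_mul]; exact orderOf_dvd_iff_pow_eq_one.mp hy25
      by_cases h0 : orderOf y = 25
      · -- cyclic case
        have hz : zpowers y = (P : Subgroup G) := eq_of_le_of_card_ge (zpowers_le.mpr hy)
          (by rw [Nat.card_zpowers, h0, F.cardP])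
        obtain ⟨j, hj⟩ := mem_zpowers_iff.mp (hz.ge F.hfP)
        have hy2 : (y * y) ^ 13 ∈ zpowers f := pow_mem hyy 13
        have : (y * y) ^ 13 = y := by
          rw [← pow_two, ← pow_mul, show 2 * 13 = 25 + 1 from rfl, pow_succ, ← h0, pow_orderOf_eq_one, one_mul]
        rw [this] at hy2
        exact pow_mem hy2 5
      · obtain ⟨k, hk, e⟩ := (Nat.dvd_prime_pow (by norm_num : Nat.Prime 5) (m := 2)).mp (by norm_num; exact hy25)
        have : k ≤ 1 := by
          by_contra hk1
          apply h0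
          rw [e, show k = 2 by omega]; norm_num
        have : y ^ 5 = 1 := orderOf_dvd_iff_pow_eq_one.mp (e ▸ (pow_dvd_pow 5 this).trans (by norm_num))
        rw [this]; exact one_mem _
    have : y = y ^ 5 * ((y * y) ^ 2)⁻¹ := by
      rw [← pow_two, ← pow_mul, eq_mul_inv_iff_mul_eq, ← pow_succ']
    rw [this]
    exact mul_mem h5 (inv_mem (pow_mem hyy 2))
  have h6 : (normalizer (PK : Set K)).index = 6 := by
    have hle := Nat.le_of_dvd (by norm_num) hdvd
    interval_cases hi : (normalizer (PK : Set K)).index <;> first | rfl | omega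
  rw [h6] at hsplit
  omega

/-- An element normalising `⟨f⟩` sends `f` to `f` or `f⁻¹`. -/
theorem norm_f_cases (F : FSet D t a σ L f P) {n : G} (hn : n * f * n⁻¹ ∈ zpowers f) :
    n * f * n⁻¹ = f ∨ n * f * n⁻¹ = f⁻¹ := by
  have S := F.toLSet
  -- `n t n⁻¹` centralises `f`
  have hne : n * f * n⁻¹ ≠ 1 := fun e => F.f_ne (conj_eq_one_iff.mp e)
  have hz := zpowers_eq_of_prime (by norm_num) F.hf hn hne
  have hnt : n * t * n⁻¹ * f = f * (n * t * n⁻¹) := by
    refine comm_of_mem_zpowers (x := n * f * n⁻¹) (hz ▸ mem_zpowers f) ?_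
    calc n * t * n⁻¹ * (n * f * n⁻¹) = n * (t * f) * n⁻¹ := by group
      _ = n * (f * t) * n⁻¹ := by rw [S.L_comm_t F.hfL]
      _ = _ := by group
  obtain ⟨c, hc, e⟩ := S.cen_invol F.hfL F.hp hnt
    (by rw [show n * t * n⁻¹ * (n * t * n⁻¹) = n * (t * t) * n⁻¹ by group, S.ht]; group)
    (fun e => S.t_ne_one (conj_eq_one_iff.mp e))
  have hm : (c⁻¹ * n) * t = t * (c⁻¹ * n) := by
    rw [← mul_inv_eq_iff_eq_mul, show c⁻¹ * n * t * (c⁻¹ * n)⁻¹ = c⁻¹ * (n * t * n⁻¹) * c by group, ← e]
    group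
  obtain ⟨l, hl, b, hb, hlb⟩ := S.decomp hm
  have hfix : ∀ w ∈ zpowers f, c⁻¹ * w * c = w := fun w hw => by
    rw [mul_assoc, ← comm_of_mem_zpowers hw hc, inv_mul_cancel_left]
  have heq : l * f * l⁻¹ = n * f * n⁻¹ := by
    calc l * f * l⁻¹ = l * b * f * (l * b)⁻¹ := by
          rw [mul_assoc l b f, S.bc hb F.hfL]; group
      _ = c⁻¹ * (n * f * n⁻¹) * c := by rw [← hlb]; group
      _ = _ := hfix _ hn
  have := (S.L_facts F.hfL F.hp).2.1 l hl (heq ▸ hn)
  rwa [heq] at this

/-- `|N(P) ∩ N⟨f⟩| = 100`. -/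
theorem card_norm_line (F : FSet D t a σ L f P) :
    Nat.card ↥(normalizer ((P : Subgroup G) : Set G) ⊓ normalizer (zpowers f : Set G)) = 100 := by
  classical
  haveI := Fintype.ofFinite G
  haveI : Fact (Nat.Prime 5) := ⟨by norm_num⟩
  have S := F.toLSet
  set H := normalizer ((P : Subgroup G) : Set G) ⊓ normalizer (zpowers f : Set G) with hH
  have h := TSet.orbit_stab H f
  have hst : H ⊓ centralizer ({f} : Set G) = normalizer ((P : Subgroup G) : Set G) ⊓ centralizer ({f} : Set G) := by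
    rw [hH]
    apply le_antisymm
    · exact inf_le_inf_right _ inf_le_left
    · exact le_inf (le_inf inf_le_left (fun c hc => mem_normalizer_zpowers (by
        rw [mem_centralizer_singleton_iff.mp (mem_inf.mp hc).2, mul_inv_cancel_right]
        exact mem_zpowers f))) inf_le_right
  rw [hst, F.card_norm_cen] at h
  have hff : f⁻¹ ≠ f := fun e => by
    have h2 : f * f = 1 := by nth_rewrite 1 [← e]; exact inv_mul_cancel f
    have := orderOf_dvd_of_pow_eq_one (show f ^ 2 = 1 by rw [pow_two]; exact h2)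
    rw [F.hf] at this; norm_num at this
  obtain ⟨l, hl, hll, hlf⟩ := (S.L_facts F.hfL F.hp).2.2
  -- adjust the inverting element into `N(P)`
  set K := centralizer ({f} : Set G) with hK
  have hPl : (P : Subgroup G).map (MulAut.conj l).toMonoidHom ≤ K := by
    rintro _ ⟨p, hp, rfl⟩
    refine mem_centralizer_singleton_iff.mpr ?_
    show l * p * l⁻¹ * f = f * (l * p * l⁻¹)
    have hlf' : l⁻¹ * f * l = f⁻¹ := by
      rw [inv_eq_of_mul_eq_one_left hll] at hlf ⊢; exact hlf
    have := Commute.inv_right (show Commute p f from F.commP p hp f F.hfP)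
    calc l * p * l⁻¹ * f = l * (p * (l⁻¹ * f * l)) * l⁻¹ := by group
      _ = l * ((l⁻¹ * f * l) * p) * l⁻¹ := by rw [hlf', this.eq]
      _ = _ := by group
  have hc25 : ∀ R : Subgroup G, R ≤ K → Nat.card R = 25 → ¬ 5 ∣ (R.subgroupOf K).index := by
    intro R hR hRc h5
    have := (R.subgroupOf K).card_mul_index
    rw [Nat.card_congr (subgroupOfEquivOfLe hR).toEquiv, hRc, show Nat.card ↥K = 300 from F.card_cen] at this
    omega
  have hp1 : IsPGroup 5 ((P : Subgroup G).subgroupOf K) := IsPGroup.of_card (n := 2) (by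
    rw [Nat.card_congr (subgroupOfEquivOfLe F.P_le).toEquiv, F.cardP]; norm_num)
  have hlc : Nat.card ((P : Subgroup G).map (MulAut.conj l).toMonoidHom) = 25 := by
    rw [← Nat.card_congr ((P : Subgroup G).equivMapOfInjective _ (MulAut.conj l).injective).toEquiv, F.cardP]
  have hp2 : IsPGroup 5 (((P : Subgroup G).map (MulAut.conj l).toMonoidHom).subgroupOf K) :=
    IsPGroup.of_card (n := 2) (by rw [Nat.card_congr (subgroupOfEquivOfLe hPl).toEquiv, hlc]; norm_num)
  obtain ⟨c, hc⟩ := MulAction.exists_smul_eq K (hp2.toSylow (hc25 _ hPl hlc))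
    (hp1.toSylow (hc25 _ F.P_le F.cardP))
  have hfwd : ∀ y ∈ (P : Subgroup G), ((c : G) * l) * y * ((c : G) * l)⁻¹ ∈ (P : Subgroup G) := by
    intro y hy
    have hyl : l * y * l⁻¹ ∈ (P : Subgroup G).map (MulAut.conj l).toMonoidHom := ⟨y, hy, rfl⟩
    have : c * ⟨l * y * l⁻¹, hPl hyl⟩ * c⁻¹ ∈
        ((c • hp2.toSylow (hc25 _ hPl hlc) : Sylow 5 K) : Subgroup K) := by
      rw [Sylow.coe_subgroup_smul, mem_pointwise_smul_iff_inv_smul_mem, MulAut.smul_def]
      simp only [← map_inv, MulAut.conj_apply, inv_inv]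
      convert hyl using 1
      refine Iff.trans Iff.rfl ?_
      show _ ∈ (((P : Subgroup G).map (MulAut.conj l).toMonoidHom).subgroupOf K) ↔ _
      rw [mem_subgroupOf]
      push_cast
      group
    rw [hc] at this
    have h2 : (c : G) * (l * y * l⁻¹) * (c : G)⁻¹ ∈ (P : Subgroup G) := this
    rwa [show (c : G) * l * y * ((c : G) * l)⁻¹ = (c : G) * (l * y * l⁻¹) * (c : G)⁻¹ by group]
  have hclP : (c : G) * l ∈ normalizer ((P : Subgroup G) : Set G) := by
    have hle : (P : Subgroup G).map (MulAut.conj ((c : G) * l)).toMonoidHom ≤ (P : Subgroup G) := by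
      rintro _ ⟨y, hy, rfl⟩; exact hfwd y hy
    have e := eq_of_le_of_card_ge hle (by
      rw [← Nat.card_congr ((P : Subgroup G).equivMapOfInjective _ (MulAut.conj _).injective).toEquiv])
    refine mem_normalizer_iff.mpr fun y => ⟨hfwd y, fun hy => ?_⟩
    obtain ⟨x, hx, hxe⟩ := e.ge hy
    have : x = y := mul_left_cancel (mul_right_cancel hxe)
    exact this ▸ hx
  have hclf : (c : G) * l * f * ((c : G) * l)⁻¹ = f⁻¹ := by
    rw [show (c : G) * l * f * ((c : G) * l)⁻¹ = (c : G) * (l * f * l⁻¹) * (c : G)⁻¹ by group, hlf,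
      (show Commute (c : G) f from mem_centralizer_singleton_iff.mp c.2).inv_right.eq, mul_inv_cancel_right]
  have hH2 : (c : G) * l ∈ H :=
    mem_inf.mpr ⟨hclP, mem_normalizer_zpowers (hclf ▸ inv_mem (mem_zpowers f))⟩
  have him : (Finset.univ.image fun c : H => (c : G) * f * (c : G)⁻¹) = {f, f⁻¹} := by
    ext y
    simp only [Finset.mem_image, Finset.mem_univ, true_and, Finset.mem_insert, Finset.mem_singleton]
    constructor
    · rintro ⟨n, rfl⟩
      exact F.norm_f_cases ((mem_normalizer_iff.mp (mem_inf.mp n.2).2 f).mp (mem_zpowers f))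
    · rintro (rfl | rfl)
      · exact ⟨1, by simp⟩
      · exact ⟨⟨_, hH2⟩, hclf⟩
  rw [him, Finset.card_pair hff.symm] at h
  exact h

theorem line_card (F : FSet D t a σ L f P) {v : G} (hv : v ∈ (P : Subgroup G)) (hv1 : v ≠ 1)
    (hv5 : v ^ 5 = 1) : orderOf v = 5 := by
  haveI : Fact (Nat.Prime 5) := ⟨by norm_num⟩
  exact orderOf_eq_prime hv5 hv1

/-- A three-element of `N(P)` moves every line of `P`. -/
theorem three_moves (F : FSet D t a σ L f P) {v : G} (hv : v ∈ (P : Subgroup G)) (hv5 : orderOf v = 5)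
    {w : G} (hw : orderOf w = 3) (hwP : w ∈ normalizer ((P : Subgroup G) : Set G)) :
    w ∉ normalizer (zpowers v : Set G) := by
  intro hn
  have hw3 : w ^ 3 = 1 := hw ▸ pow_orderOf_eq_one w
  have hfix := three_fix_five hw3 hv5 ((mem_normalizer_iff.mp hn v).mp (mem_zpowers v))
  have hall := three_cent F.cardP F.commP hw3 hwP hv
    (fun e => by rw [e, orderOf_one] at hv5; omega) hfix
  have hwC : w ∈ centralizer ((P : Subgroup G) : Set G) :=
    mem_centralizer_iff.mpr fun y hy => (mul_inv_eq_iff_eq_mul.mp (hall y hy)).symm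
  rw [F.cenP] at hwC
  have := (P : Subgroup G).orderOf_dvd_natCard hwC
  rw [hw, F.cardP] at this
  norm_num at this

theorem orbit_three (F : FSet D t a σ L f P) {v : G} (hv : v ∈ (P : Subgroup G)) (hv5 : orderOf v = 5)
    [Fintype G] [DecidableEq G] [DecidableEq (Subgroup G)] [Fintype ↥(normalizer ((P : Subgroup G) : Set G))]
    (h3 : 3 ∣ Nat.card ↥(normalizer ((P : Subgroup G) : Set G))) :
    3 ∣ (Finset.univ.image fun c : ↥(normalizer ((P : Subgroup G) : Set G)) =>
      (zpowers v).map (MulAut.conj (c : G)).toMonoidHom).card := by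
  haveI : Fact (Nat.Prime 3) := ⟨by norm_num⟩
  have h := orbit_stab_sub (normalizer ((P : Subgroup G) : Set G)) (zpowers v)
  rw [h] at h3
  refine (Nat.Prime.dvd_mul (by norm_num)).mp h3 |>.resolve_right fun hd => ?_
  obtain ⟨⟨w, hwm⟩, hw⟩ := exists_prime_orderOf_dvd_card' 3 hd
  rw [orderOf_mk] at hw
  exact F.three_moves hv hv5 hw (mem_inf.mp hwm).1 (mem_inf.mp hwm).2

open scoped Classical in
/-- The lines of `P`. -/
theorem lines_card_le (F : FSet D t a σ L f P) [Fintype G] :
    ((Finset.univ.filter fun v : G => v ∈ (P : Subgroup G) ∧ orderOf v = 5).image zpowers).card ≤ 6 := by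
  set s := Finset.univ.filter fun v : G => v ∈ (P : Subgroup G) ∧ orderOf v = 5 with hs
  have hsum := Finset.card_eq_sum_card_image zpowers s
  have hle : s.card ≤ 24 := by
    have h1 : (Finset.univ.filter fun v : G => v ∈ (P : Subgroup G)).card = 25 := by
      rw [← Fintype.card_subtype, ← Nat.card_eq_fintype_card]; exact F.cardP
    have hsub : s ⊆ (Finset.univ.filter fun v : G => v ∈ (P : Subgroup G)).erase 1 := by
      intro v hv
      obtain ⟨-, hv, ho⟩ := Finset.mem_filter.mp hv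
      exact Finset.mem_erase.mpr ⟨fun e => by rw [e, orderOf_one] at ho; omega,
        Finset.mem_filter.mpr ⟨Finset.mem_univ _, hv⟩⟩
    have := Finset.card_le_card hsub
    rw [Finset.card_erase_of_mem (by simp), h1] at this
    exact this
  have hfib : ∀ W ∈ s.image zpowers, 4 ≤ (s.filter fun v => zpowers v = W).card := by
    intro W hW
    obtain ⟨v, hv, rfl⟩ := Finset.mem_image.mp hW
    obtain ⟨-, hvP, ho⟩ := Finset.mem_filter.mp hv
    have hsub : ((Finset.univ.filter fun u : G => u ∈ zpowers v).erase 1) ⊆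
        (s.filter fun u => zpowers u = zpowers v) := by
      intro u hu
      obtain ⟨hu1, hu⟩ := Finset.mem_erase.mp hu
      have hu := (Finset.mem_filter.mp hu).2
      have he := zpowers_eq_of_prime (by norm_num) ho hu hu1
      refine Finset.mem_filter.mpr ⟨Finset.mem_filter.mpr ⟨Finset.mem_univ _,
        zpowers_le.mpr hvP hu, ?_⟩, he⟩
      rw [← Nat.card_zpowers, he, Nat.card_zpowers, ho]
    have := Finset.card_le_card hsub
    rw [Finset.card_erase_of_mem (by simp), ← Fintype.card_subtype,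
      ← Nat.card_eq_fintype_card, show Nat.card {u // u ∈ zpowers v} = 5 from (Nat.card_zpowers v).trans ho] at this
    exact this
  have := Finset.card_nsmul_le_sum _ _ 4 hfib
  rw [← hsum, smul_eq_mul] at this
  omega

/-- `|N(P)| = 300`. -/
theorem card_normP (F : FSet D t a σ L f P) :
    Nat.card ↥(normalizer ((P : Subgroup G) : Set G)) = 300 := by
  classical
  haveI := Fintype.ofFinite G
  haveI : Fact (Nat.Prime 5) := ⟨by norm_num⟩
  set N := normalizer ((P : Subgroup G) : Set G) with hN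
  have h := orbit_stab_sub N (zpowers f)
  rw [F.card_norm_line] at h
  set m := (Finset.univ.image fun c : N => (zpowers f).map (MulAut.conj (c : G)).toMonoidHom).card with hm
  have hm6 : m ≤ 6 := by
    refine le_trans (Finset.card_le_card fun W hW => ?_) F.lines_card_le
    obtain ⟨c, -, rfl⟩ := Finset.mem_image.mp hW
    refine Finset.mem_image.mpr ⟨(c : G) * f * (c : G)⁻¹, Finset.mem_filter.mpr ⟨Finset.mem_univ _,
      (mem_normalizer_iff.mp c.2 f).mp F.hfP,
      (MulEquiv.orderOf_eq (MulAut.conj (c : G)) f).trans F.hf⟩, (map_zpowers_conj _ f).symm⟩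
  have hn := Sylow.card_eq_index_normalizer P
  have hmod := card_sylow_modEq_one 5 G
  rw [hn] at hmod
  have hmod' : N.index % 5 = 1 := hmod
  have hsplit := N.card_mul_index
  rw [F.hG, h] at hsplit
  rw [h]
  interval_cases m <;> omega

/-- Two classes of subgroups of order five. -/
theorem two_classes (F : FSet D t a σ L f P) :
    ∃ X Y : Subgroup G, Nat.card X = 5 ∧ Nat.card Y = 5 ∧
      (∀ g : G, X.map (MulAut.conj g).toMonoidHom ≠ Y) ∧
      ∀ W : Subgroup G, Nat.card W = 5 →
        ∃ g : G, W.map (MulAut.conj g).toMonoidHom = X ∨ W.map (MulAut.conj g).toMonoidHom = Y := by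
  classical
  haveI := Fintype.ofFinite G
  haveI : Fact (Nat.Prime 5) := ⟨by norm_num⟩
  set N := normalizer ((P : Subgroup G) : Set G) with hN
  have h3 : 3 ∣ Nat.card N := by rw [F.card_normP]; norm_num
  let orb : G → Finset (Subgroup G) := fun v =>
    Finset.univ.image fun c : N => (zpowers v).map (MulAut.conj (c : G)).toMonoidHom
  set Ls := (Finset.univ.filter fun v : G => v ∈ (P : Subgroup G) ∧ orderOf v = 5).image zpowers with hLs
  have horb : ∀ v ∈ (P : Subgroup G), orderOf v = 5 → orb v ⊆ Ls := by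
    intro v hv ho W hW
    obtain ⟨c, -, rfl⟩ := Finset.mem_image.mp hW
    exact Finset.mem_image.mpr ⟨(c : G) * v * (c : G)⁻¹, Finset.mem_filter.mpr ⟨Finset.mem_univ _,
      (mem_normalizer_iff.mp c.2 v).mp hv, (MulEquiv.orderOf_eq (MulAut.conj (c : G)) v).trans ho⟩,
      (map_zpowers_conj _ v).symm⟩
  have hf3 : (orb f).card = 3 := by
    have h := orbit_stab_sub N (zpowers f)
    rw [F.card_norm_line, show Nat.card ↥N = 300 from F.card_normP] at h
    simp only [orb]
    omega
  -- conjugate lines of `P` are conjugate in `N(P)`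
  have hfus : ∀ v ∈ (P : Subgroup G), orderOf v = 5 → ∀ g : G, g * v * g⁻¹ ∈ (P : Subgroup G) →
      zpowers (g * v * g⁻¹) ∈ orb v := by
    intro v hv ho g hg
    haveI : IsMulCommutative (P : Subgroup G) := ⟨⟨fun p q => Subtype.ext (F.commP _ p.2 _ q.2)⟩⟩
    obtain ⟨n, hn, e⟩ := Sylow.conj_eq_normalizer_conj_of_mem P v g⁻¹ hv (by rw [inv_inv]; exact hg)
    rw [inv_inv] at e
    refine Finset.mem_image.mpr ⟨⟨n⁻¹, inv_mem hn⟩, Finset.mem_univ _, ?_⟩
    rw [map_zpowers_conj, e]
    simp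
  obtain ⟨W0, hW0, hW0f⟩ : ∃ W ∈ Ls, W ∉ orb f ∨ Ls.card ≤ 3 := by
    by_cases hle : Ls.card ≤ 3
    · exact ⟨zpowers f, Finset.mem_image.mpr ⟨f, Finset.mem_filter.mpr ⟨Finset.mem_univ _, F.hfP, F.hf⟩, rfl⟩,
        Or.inr hle⟩
    · obtain ⟨W, hW, hWn⟩ := Finset.exists_of_ssubset (lt_of_le_of_ne (horb f F.hfP F.hf) fun e => hle (by
        rw [← e, hf3]))
      exact ⟨W, hW, Or.inl hWn⟩
  have hbig : ¬ Ls.card ≤ 3 := by
    -- an element outside `⟨f⟩` of order five, not conjugate to a power of `f`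
    intro hle
    obtain ⟨⟨u, hu⟩, huo⟩ := exists_prime_orderOf_dvd_card' (G := centralizer ({z} : Set G)) 5
      (by rw [D.base.cardC]; norm_num)
    rw [orderOf_mk] at huo
    obtain ⟨T, hT⟩ := exists_sylow_mem huo
    obtain ⟨g, hg⟩ := MulAction.exists_smul_eq G T P
    have hguP : g * u * g⁻¹ ∈ (P : Subgroup G) := by
      rw [← hg, Sylow.coe_subgroup_smul, mem_pointwise_smul_iff_inv_smul_mem, MulAut.smul_def]
      simp only [← map_inv, MulAut.conj_apply, inv_inv]
      convert hT using 1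
      group
    have hgo : orderOf (g * u * g⁻¹) = 5 := (MulEquiv.orderOf_eq (MulAut.conj g) u).trans huo
    have hm : zpowers (g * u * g⁻¹) ∈ orb f := by
      rw [Finset.eq_of_subset_of_card_le (horb f F.hfP F.hf) (by rw [hf3]; exact hle)]
      exact Finset.mem_image.mpr ⟨_, Finset.mem_filter.mpr ⟨Finset.mem_univ _, hguP, hgo⟩, rfl⟩
    obtain ⟨c, -, hc⟩ := Finset.mem_image.mp hm
    rw [map_zpowers_conj] at hc
    -- `f` would centralise a conjugate of `z`
    have hmem : (c : G) * f * (c : G)⁻¹ ∈ zpowers (g * u * g⁻¹) := hc ▸ mem_zpowers _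
    have hzc := comm_of_mem_zpowers (c := g * z * g⁻¹) hmem (by
      calc g * z * g⁻¹ * (g * u * g⁻¹) = g * (z * u) * g⁻¹ := by group
        _ = g * (u * z) * g⁻¹ := by rw [mem_centralizer_singleton_iff.mp hu]
        _ = _ := by group)
    set x := (c : G)⁻¹ * (g * z * g⁻¹) * c with hx
    have hxf : x * f = f * x := by
      calc x * f = (c : G)⁻¹ * (g * z * g⁻¹ * ((c : G) * f * (c : G)⁻¹)) * c := by rw [hx]; group
        _ = (c : G)⁻¹ * ((c : G) * f * (c : G)⁻¹ * (g * z * g⁻¹)) * c := by rw [hzc]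
        _ = _ := by rw [hx]; group
    have hzx : IsConj z x := isConj_iff.mpr ⟨(c : G)⁻¹ * g, by rw [hx]; group⟩
    obtain ⟨d, -, hd⟩ := F.toLSet.cen_invol F.hfL F.hp hxf
      (by rw [hx, show (c : G)⁻¹ * (g * z * g⁻¹) * c * ((c : G)⁻¹ * (g * z * g⁻¹) * c) =
        (c : G)⁻¹ * g * (z * z) * g⁻¹ * c by group, D.base.zz]; group)
      (fun e => by
        obtain ⟨k, hk⟩ := isConj_iff.mp hzx
        rw [e] at hk
        exact D.base.z_ne_one (conj_eq_one_iff.mp hk))
    exact F.toLSet.t_not_conj (hzx.trans (isConj_iff.mpr ⟨d, hd⟩).symm)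
  replace hW0f : W0 ∉ orb f := hW0f.resolve_right hbig
  obtain ⟨y, hy, rfl⟩ := Finset.mem_image.mp hW0
  obtain ⟨-, hyP, hyo⟩ := Finset.mem_filter.mp hy
  have hy3 : 3 ≤ (orb y).card := Nat.le_of_dvd
    (Finset.card_pos.mpr (Finset.univ_nonempty.image _)) (F.orbit_three hyP hyo h3)
  have hdisj : Disjoint (orb f) (orb y) := by
    rw [Finset.disjoint_left]
    intro W hW1 hW2
    obtain ⟨c, -, rfl⟩ := Finset.mem_image.mp hW1
    obtain ⟨d, -, hd⟩ := Finset.mem_image.mp hW2
    apply hW0f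
    refine Finset.mem_image.mpr ⟨d⁻¹ * c, Finset.mem_univ _, ?_⟩
    rw [map_zpowers_conj, map_zpowers_conj] at hd
    rw [map_zpowers_conj]
    have e2 := congrArg (fun W : Subgroup G => W.map (MulAut.conj (d : G)⁻¹).toMonoidHom) hd
    simp only [map_zpowers_conj] at e2
    push_cast
    convert e2.symm using 2 <;> group
  have hall : orb f ∪ orb y = Ls := by
    refine Finset.eq_of_subset_of_card_le (Finset.union_subset (horb f F.hfP F.hf) (horb y hyP hyo)) ?_
    rw [Finset.card_union_of_disjoint hdisj, hf3]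
    have := F.lines_card_le
    rw [← hLs] at this
    omega
  refine ⟨zpowers f, zpowers y, by rw [Nat.card_zpowers, F.hf], by rw [Nat.card_zpowers, hyo],
    fun g e => hW0f ?_, fun W hW => ?_⟩
  · rw [map_zpowers_conj] at e
    rw [← e]
    exact hfus f F.hfP F.hf g (zpowers_le.mpr hyP (e ▸ mem_zpowers _))
  · obtain ⟨⟨v, hv⟩, hvo⟩ := exists_prime_orderOf_dvd_card' (G := W) 5 (by rw [hW])
    rw [orderOf_mk] at hvo
    have hWv : W = zpowers v := (eq_of_le_of_card_ge (zpowers_le.mpr hv) (by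
      rw [Nat.card_zpowers, hvo, hW])).symm
    obtain ⟨T, hT⟩ := exists_sylow_mem hvo
    obtain ⟨g, hg⟩ := MulAction.exists_smul_eq G T P
    have hgv : g * v * g⁻¹ ∈ (P : Subgroup G) := by
      rw [← hg, Sylow.coe_subgroup_smul, mem_pointwise_smul_iff_inv_smul_mem, MulAut.smul_def]
      simp only [← map_inv, MulAut.conj_apply, inv_inv]
      convert hT using 1
      group
    have hgo : orderOf (g * v * g⁻¹) = 5 := (MulEquiv.orderOf_eq (MulAut.conj g) v).trans hvo
    have hmem : zpowers (g * v * g⁻¹) ∈ orb f ∪ orb y := hall.symm ▸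
      Finset.mem_image.mpr ⟨_, Finset.mem_filter.mpr ⟨Finset.mem_univ _, hgv, hgo⟩, rfl⟩
    rcases Finset.mem_union.mp hmem with h | h <;> obtain ⟨c, -, hc⟩ := Finset.mem_image.mp h <;>
      rw [map_zpowers_conj] at hc <;>
      have e2 := congrArg (fun W : Subgroup G => W.map (MulAut.conj (c : G)⁻¹).toMonoidHom) hc <;>
      simp only [map_zpowers_conj] at e2 <;> refine ⟨(c : G)⁻¹ * g, ?_⟩
    · left; rw [hWv, map_zpowers_conj]; convert e2.symm using 2 <;> group
    · right; rw [hWv, map_zpowers_conj]; convert e2.symm using 2 <;> group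

end FSet

end Cfsg.Agent.H43.JTwo
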