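import Cfsg.Agent.H43.JTwo.Types

/-!
The centraliser of `⟨z, t⟩` is elementary abelian of order 16.
-/

set_option autoImplicit false
set_option linter.style.haveILetI false
set_option linter.unusedSectionVars false
set_option linter.unusedSimpArgs false

set_option synthInstance.maxSize 4000
set_option synthInstance.maxHeartbeats 200000
set_option maxRecDepth 4000

namespace Cfsg.Agent.H43.JTwo

open Subgroup

namespace Coord

theorem inv5_partner : ∀ τ : Equiv.Perm (Fin 5), IsInv5 τ → ∃ τ' : Equiv.Perm (Fin 5),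
    IsInv5 τ' ∧ τ * τ' = τ' * τ ∧ τ' ≠ τ := by decide +kernel

theorem inv5_cen : ∀ τ τ' : Equiv.Perm (Fin 5), IsInv5 τ → IsInv5 τ' → τ * τ' = τ' * τ → τ' ≠ τ →
    IsInv5 (τ * τ') ∧ (∀ i, τ i = i → τ' i = i) := by decide +kernel

theorem inv5_cen_all : ∀ τ τ' : Equiv.Perm (Fin 5), IsInv5 τ → IsInv5 τ' → τ * τ' = τ' * τ → τ' ≠ τ →
    ∀ σ : Equiv.Perm (Fin 5), Equiv.Perm.sign σ = 1 → σ * τ = τ * σ →
      σ = 1 ∨ σ = τ ∨ σ = τ' ∨ σ = τ * τ' := by decide +kernel

/-- The three vectors of weight two in a four group. -/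
def VecFact (τ τ' : Equiv.Perm (Fin 5)) (i : Fin 5) : Prop :=
  ∃ a a' : Fin 5 → ZMod 2, Even5 a ∧ Even5 a' ∧ (∀ j, a (τ j) = a j) ∧ (∀ j, a' (τ' j) = a' j) ∧
    qval a = 1 ∧ qval a' = 1 ∧ ∑ j, a j * a' j = 1 ∧ (∀ j, a (τ' j) + a j = sv i j) ∧
    (∀ j, a' (τ j) + a' j = sv i j) ∧ ∑ j, sv i j * a j = 0 ∧ ∑ j, sv i j * a' j = 0 ∧
    (∀ j, (a + a') (τ (τ' j)) = (a + a') j) ∧ qval (a + a') = 1 ∧
    ∀ v : Fin 5 → ZMod 2, Even5 v → (∀ j, v (τ (τ (τ' j))) + v (τ j) = v (τ (τ' j)) + v j) →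
      (∀ j, v (τ (τ' (τ' j))) + v (τ' j) = v (τ (τ' j)) + v j) →
      ∑ j, v j * (a + a') j = 0 → ∀ j, v (τ (τ' j)) = v j

theorem vecFact : ∀ τ τ' : Equiv.Perm (Fin 5), IsInv5 τ → IsInv5 τ' → τ * τ' = τ' * τ → τ' ≠ τ →
    ∀ i, τ i = i → VecFact τ τ' i := by
  unfold VecFact sv; decide +kernel

variable {G : Type*} [Group G] [Finite G]
variable {z : G} {Q : Subgroup G} (D : Coord z Q)

theorem exists_lift {σ : Equiv.Perm (Fin 5)} (hσ : IsInv5 σ) {t : G} (ht : t * t = 1)
    (htc : t * z = z * t) (htQ : t ∉ Q) :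
    ∃ u : G, u * u = 1 ∧ u * z = z * u ∧ u ∉ Q ∧ D.pm u = σ := by
  obtain ⟨g, hg, hgc⟩ := inv5_conj _ _ (D.pm_inv5 ht htc htQ) hσ
  obtain ⟨c, hc, hcg⟩ := D.exists_pm hg
  have hcc : c * t * c⁻¹ * z = z * (c * t * c⁻¹) :=
    Commute.mul_left (Commute.mul_left hc htc) (Commute.inv_left hc)
  have hp : D.pm (c * t * c⁻¹) = σ := by
    rw [D.pm_mul (Commute.mul_left hc htc) (Commute.inv_left hc), D.pm_mul hc htc, D.pm_inv hc, hcg, hgc]
  refine ⟨c * t * c⁻¹, ?_, hcc, fun h => hσ.1 (hp ▸ D.pm_of_mem h), hp⟩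
  rw [show c * t * c⁻¹ * (c * t * c⁻¹) = c * (t * t) * c⁻¹ by group, ht]; group

/-- Above a commuting involution of the image there is a commuting involution. -/
theorem exists_commuting {t : G} (ht : t * t = 1) (htc : t * z = z * t) (htQ : t ∉ Q)
    {τ' : Equiv.Perm (Fin 5)} (hτ' : IsInv5 τ') (hcomm : D.pm t * τ' = τ' * D.pm t)
    (hne : τ' ≠ D.pm t) :
    ∃ u : G, u * u = 1 ∧ u * z = z * u ∧ u ∉ Q ∧ D.pm u = τ' ∧ t * u = u * t := by
  have hb := D.base
  have hτ := D.pm_inv5 ht htc htQ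
  obtain ⟨hτ'', -⟩ := inv5_cen _ _ hτ hτ' hcomm hne
  obtain ⟨i, hi, -⟩ := inv5_fix _ hτ
  obtain ⟨va, va', hev, hev', hinva, hinva', hqa, hqa', hdot, hta, hta', hsa, hsa', hinv'', hq'', hlast⟩ :=
    vecFact _ _ hτ hτ' hcomm hne i hi
  obtain ⟨a, ha, hba⟩ := D.exists_beta hev
  obtain ⟨a', ha', hba'⟩ := D.exists_beta hev'
  have ti : t⁻¹ = t := inv_eq_of_mul_eq_one_left ht
  have zx : ∀ x ∈ Q, x * z = z * x := fun x hx => hb.zc hx
  have zinv : ∀ {x : G}, x ∈ Q → qval (D.beta x) = 1 → x⁻¹ = z * x := fun hx hv =>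
    inv_eq_of_mul_eq_one_left (by rw [mul_assoc, D.sq_ne hx (by rw [hv]; decide), hb.zz])
  have hta1 : t * a * t⁻¹ = z * a := by
    rw [D.inverted_of_invariant ht htc htQ ha (by rw [hba]; exact hinva), zinv ha (by rw [hba, hqa])]
  have haa : a' * a * a'⁻¹ = z * a := by
    rw [mul_inv_eq_iff_eq_mul, mul_assoc]
    refine (hb.noncomm_iff ha' ha).mp fun e => ?_
    rw [D.commute_iff ha' ha, hba, hba'] at e
    have : ∑ j, va' j * va j = 1 := by rw [← hdot]; simp [mul_comm]
    rw [this] at e; exact one_ne_zero e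
  have hyQ : t * a' * t⁻¹ * a'⁻¹ ∈ Q := mul_mem (hb.norm t htc a' ha') (inv_mem ha')
  have hyb : D.beta (t * a' * t⁻¹ * a'⁻¹) = sv i := funext fun j => by
    rw [(D.comm_inverted ht htc ha').2.2, hba', hta']
  -- fix the lift
  obtain ⟨u, hu, huc, huQ, hup, hux⟩ : ∃ u : G, u * u = 1 ∧ u * z = z * u ∧ u ∉ Q ∧ D.pm u = τ' ∧
      u * a * u⁻¹ * a⁻¹ = z * (t * a' * t⁻¹ * a'⁻¹) := by
    obtain ⟨u, hu, huc, huQ, hup⟩ := D.exists_lift hτ' ht htc htQ
    have hxQ : u * a * u⁻¹ * a⁻¹ ∈ Q := mul_mem (hb.norm u huc a ha) (inv_mem ha)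
    rcases D.eq_of_beta_eq hyQ hxQ (by
      rw [hyb]; funext j; rw [(D.comm_inverted hu huc ha).2.2, hba, hup, hta]) with e | e
    · have hua' : u * a' * u⁻¹ = a'⁻¹ :=
        D.inverted_of_invariant hu huc huQ ha' (by rw [hba', hup]; exact hinva')
      refine ⟨u * a', ?_, Commute.mul_left huc (zx a' ha'), fun h => huQ ?_, ?_, ?_⟩
      · calc u * a' * (u * a') = (u * a' * u⁻¹) * (u * u) * a' := by group
          _ = 1 := by rw [hua', hu]; group
      · have := mul_mem h (inv_mem ha')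
        rwa [mul_inv_cancel_right] at this
      · rw [D.pm_mul huc (zx a' ha'), hup, D.pm_of_mem ha', mul_one]
      · calc u * a' * a * (u * a')⁻¹ * a⁻¹ = u * (a' * a * a'⁻¹) * u⁻¹ * a⁻¹ := by group
          _ = (u * z) * (a * u⁻¹ * a⁻¹) := by rw [haa]; group
          _ = z * (u * a * u⁻¹ * a⁻¹) := by rw [huc]; group
          _ = _ := by rw [e]
    · exact ⟨u, hu, huc, huQ, hup, e⟩
  refine ⟨u, hu, huc, huQ, hup, ?_⟩
  set y := t * a' * t⁻¹ * a'⁻¹ with hy
  clear_value y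
  have ui : u⁻¹ = u := inv_eq_of_mul_eq_one_left hu
  have hty : t * y = y * t := by
    refine (D.commute_iff_t ht htc htQ hi hyQ).mpr ?_
    rcases D.eq_of_beta_eq (D.mem i) hyQ (by rw [D.beta_s, hyb]) with e | e
    · exact Or.inr (Or.inr (Or.inl e))
    · exact Or.inr (Or.inr (Or.inr e))
  have hay : a * y = y * a := (D.commute_iff ha hyQ).mpr (by
    rw [hba, hyb, ← hsa]; simp [mul_comm])
  have ha'y : a' * y = y * a' := (D.commute_iff ha' hyQ).mpr (by
    rw [hba', hyb, ← hsa']; simp [mul_comm])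
  have hyy : y * y = 1 := (D.sq_iff hyQ).mpr (by
    rw [hyb]
    have : ∀ i : Fin 5, qval (sv i) = 0 := by decide +kernel
    exact this i)
  have hua'1 : u * a' * u⁻¹ = z * a' := by
    rw [D.inverted_of_invariant hu huc huQ ha' (by rw [hba', hup]; exact hinva'),
      zinv ha' (by rw [hba', hqa'])]
  -- `w = t u` sends `a a'` to `z a a'`
  have hw : t * u * (a * a') * (t * u)⁻¹ = z * (a * a') := by
    have e1 : u * a * u⁻¹ = z * y * a := by rw [← hux]; group
    have e2 : t * a' * t⁻¹ = y * a' := by rw [hy]; group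
    have htz : t * z * t⁻¹ = z := by rw [htc, mul_inv_cancel_right]
    have hty' : t * y * t⁻¹ = y := by rw [hty, mul_inv_cancel_right]
    calc t * u * (a * a') * (t * u)⁻¹ = t * ((u * a * u⁻¹) * (u * a' * u⁻¹)) * t⁻¹ := by group
      _ = (t * z * t⁻¹) * (t * y * t⁻¹) * (t * a * t⁻¹) * (t * z * t⁻¹) * (t * a' * t⁻¹) := by
          rw [e1, hua'1]; group
      _ = z * y * (z * a) * z * (y * a') := by rw [htz, hty', hta1, e2]
      _ = _ := by
          simp only [mul_assoc]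
          rw [← mul_assoc y z, zx y hyQ]
          simp only [mul_assoc, hb.mulZ_inv]
          rw [← mul_assoc a z, zx a ha, mul_assoc, ← mul_assoc y z, zx y hyQ, mul_assoc,
            ← mul_assoc a y, hay, mul_assoc, ← mul_assoc y y, hyy, one_mul]
  obtain ⟨v, hv, hvc, hvQ, hvp⟩ := D.exists_lift hτ'' ht htc htQ
  have vi : v⁻¹ = v := inv_eq_of_mul_eq_one_left hv
  have hwc : t * u * z = z * (t * u) := Commute.mul_left htc huc
  have hwp : D.pm (t * u) = D.pm t * τ' := by rw [D.pm_mul htc huc, hup]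
  set q := v⁻¹ * (t * u) with hqd
  have hq : q ∈ Q := (D.pm_eq_iff hvc hwc).mp (by rw [hvp, hwp])
  have haQ : a * a' ∈ Q := mul_mem ha ha'
  have hba'' : D.beta (a * a') = va + va' := by rw [D.beta_mul ha ha', hba, hba']
  have hvaa : v * (a * a') * v⁻¹ = z * (a * a') := by
    rw [D.inverted_of_invariant hv hvc hvQ haQ (by rw [hba'', hvp]; exact hinv''),
      zinv haQ (by rw [hba'', hq''])]
  have hqaa : q * (a * a') = (a * a') * q := by
    have hvz : v * z * v⁻¹ = z := by rw [hvc, mul_inv_cancel_right]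
    have e : q * (a * a') * q⁻¹ = a * a' := by
      rw [hqd, show v⁻¹ * (t * u) * (a * a') * (v⁻¹ * (t * u))⁻¹ =
        v⁻¹ * (t * u * (a * a') * (t * u)⁻¹) * v by group, hw, ← hvaa]
      group
    exact mul_inv_eq_iff_eq_mul.mp e
  have hd : t * u * (t * u) = (v * q * v⁻¹) * q := by
    have : t * u = v * q := by rw [hqd, mul_inv_cancel_left]
    rw [this, vi]; simp [mul_assoc]
  have hdQ : v * q * v⁻¹ * q ∈ Q := mul_mem (hb.norm v hvc q hq) hq
  have hdb : ∀ j, D.beta (v * q * v⁻¹ * q) j = D.beta q (D.pm t (τ' j)) + D.beta q j := fun j => by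
    rw [D.beta_mul (hb.norm v hvc q hq) hq, Pi.add_apply, D.beta_conj_invol hv hvc hq, hvp]; rfl
  have hdt : t * (t * u * (t * u)) * t⁻¹ = (t * u * (t * u))⁻¹ := by
    simp only [mul_inv_rev, ti, ui, ← mul_assoc, ht, one_mul]
  have hdu : u * (t * u * (t * u)) * u⁻¹ = (t * u * (t * u))⁻¹ := by
    simp only [mul_inv_rev, ti, ui, mul_assoc, hu, mul_one]
  rw [hd] at hdt hdu
  have h1 := D.invariant_of_inverted ht htc hdQ (Or.inl hdt)
  have h2 := D.invariant_of_inverted hu huc hdQ (Or.inl hdu)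
  rw [hup] at h2
  have hqinv : ∀ j, D.beta q (D.pm v j) = D.beta q j := by
    rw [hvp]
    refine hlast _ (D.beta_even hq) (fun j => ?_) (fun j => ?_) ?_
    · have := h1 j
      rw [hdb, hdb] at this
      rw [← this]
      congr 2
      exact congrArg (D.pm t) (DFunLike.congr_fun hcomm j)
    · have := h2 j
      rwa [hdb, hdb] at this
    · rw [← hba'']; exact (D.commute_iff hq haQ).mp hqaa
  have : t * u * (t * u) = 1 := by
    rw [hd, D.inverted_of_invariant hv hvc hvQ hq hqinv, inv_mul_cancel]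
  calc t * u = (t * u * (t * u)) * (u⁻¹ * t⁻¹) := by group
    _ = u * t := by rw [this, one_mul, ti, ui]

include D in
/-- `C ∩ C(t)`: exponent two and sixteen elements. -/
theorem centralizer_pair_C {t : G} (ht : t * t = 1) (htc : t * z = z * t) (htQ : t ∉ Q) :
    (∀ c : G, c * z = z * c → c * t = t * c → c * c = 1) ∧
    Nat.card ↥(centralizer ({z} : Set G) ⊓ centralizer ({t} : Set G)) = 16 := by
  classical
  haveI := Fintype.ofFinite G
  have hb := D.base
  have hτ := D.pm_inv5 ht htc htQ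
  obtain ⟨i, hi, -⟩ := inv5_fix _ hτ
  obtain ⟨τ', hτ', hcomm, hne⟩ := inv5_partner _ hτ
  obtain ⟨hτ'', hfix⟩ := inv5_cen _ _ hτ hτ' hcomm hne
  obtain ⟨u, hu, huc, huQ, hup, htu⟩ := D.exists_commuting ht htc htQ hτ' hcomm hne
  -- the part inside Q
  have hs : t * D.s i = D.s i * t := (D.commute_iff_t ht htc htQ hi (D.mem i)).mpr (by simp)
  have hu_s : u * D.s i = D.s i * u :=
    (D.commute_iff_t hu huc huQ (by rw [hup]; exact hfix i hi) (D.mem i)).mpr (by simp)
  have kA : ∀ c : G, c * z = z * c → c * t = t * c → D.pm c = 1 →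
      c = 1 ∨ c = z ∨ c = D.s i ∨ c = z * D.s i := fun c hc hct hp =>
    (D.commute_iff_t ht htc htQ hi (D.mem_of_pm_eq_one hc hp)).mp hct.symm
  let b : Fin 4 → G := ![1, t, u, t * u]
  have hbz : ∀ k, b k * z = z * b k := by
    intro k; fin_cases k
    · simp [b]
    · exact htc
    · exact huc
    · exact Commute.mul_left htc huc
  have hbt : ∀ k, b k * t = t * b k := by
    intro k; fin_cases k
    · simp [b]
    · rfl
    · exact htu.symm
    · exact Commute.mul_left rfl htu.symm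
  have hbs : ∀ k, b k * D.s i = D.s i * b k := by
    intro k; fin_cases k
    · simp [b]
    · exact hs
    · exact hu_s
    · exact Commute.mul_left hs hu_s
  have hbb : ∀ k, b k * b k = 1 := by
    intro k; fin_cases k
    · simp [b]
    · exact ht
    · exact hu
    · show t * u * (t * u) = 1
      rw [mul_assoc, ← mul_assoc u, ← htu, mul_assoc, hu, mul_one, ht]
  have hbp : ∀ k, D.pm (b k) = ![1, D.pm t, τ', D.pm t * τ'] k := by
    intro k; fin_cases k
    · exact D.pm_one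
    · rfl
    · exact hup
    · show D.pm (t * u) = _
      rw [D.pm_mul htc huc, hup]; rfl
  let a : Fin 4 → G := ![1, z, D.s i, z * D.s i]
  have haQ : ∀ k, a k ∈ Q := by
    intro k; fin_cases k
    · exact one_mem _
    · exact hb.hzQ
    · exact D.mem i
    · exact mul_mem hb.hzQ (D.mem i)
  have haa : ∀ k, a k * a k = 1 := by
    intro k; fin_cases k
    · simp [a]
    · exact hb.zz
    · exact D.ss i
    · show z * D.s i * (z * D.s i) = 1
      rw [mul_assoc, ← mul_assoc (D.s i) z, hb.zc (D.mem i), mul_assoc z, D.ss, mul_one, hb.zz]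
  have hab : ∀ k l, b k * a l = a l * b k := by
    intro k l; fin_cases l
    · simp [a]
    · exact hbz k
    · exact hbs k
    · exact Commute.mul_right (hbz k) (hbs k)
  have hat : ∀ l, a l * t = t * a l := fun l => ((hab 1 l)).symm
  have cover : ∀ c : G, c * z = z * c → c * t = t * c → ∃ k l, c = b k * a l := by
    intro c hc hct
    have hcen : D.pm c * D.pm t = D.pm t * D.pm c := by
      rw [← D.pm_mul hc htc, hct, D.pm_mul htc hc]
    obtain ⟨k, hk⟩ : ∃ k, D.pm c = D.pm (b k) := by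
      rcases inv5_cen_all _ _ hτ hτ' hcomm hne _ (D.pm_even hc) hcen with e | e | e | e
      · exact ⟨0, by rw [e, hbp]; rfl⟩
      · exact ⟨1, by rw [e, hbp]; rfl⟩
      · exact ⟨2, by rw [e, hbp]; rfl⟩
      · exact ⟨3, by rw [e, hbp]; rfl⟩
    have hp : D.pm ((b k)⁻¹ * c) = 1 := by
      rw [D.pm_mul (Commute.inv_left (hbz k)) hc, D.pm_inv (hbz k), hk, inv_mul_cancel]
    have := kA _ (Commute.mul_left (Commute.inv_left (hbz k)) hc)
      (Commute.mul_left (Commute.inv_left (hbt k)) hct) hp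
    obtain ⟨l, hl⟩ : ∃ l, (b k)⁻¹ * c = a l := by
      rcases this with e | e | e | e
      exacts [⟨0, e⟩, ⟨1, e⟩, ⟨2, e⟩, ⟨3, e⟩]
    exact ⟨k, l, by rw [← hl, mul_inv_cancel_left]⟩
  refine ⟨fun c hc hct => ?_, ?_⟩
  · obtain ⟨k, l, rfl⟩ := cover c hc hct
    rw [mul_assoc, ← mul_assoc (a l), ← hab, mul_assoc, haa, mul_one, hbb]
  · set K := centralizer ({z} : Set G) ⊓ centralizer ({t} : Set G)
    let f : Fin 4 × Fin 4 → K := fun p => ⟨b p.1 * a p.2,
      mem_inf.mpr ⟨mem_centralizer_singleton_iff.mpr (Commute.mul_left (hbz p.1) (hb.zc (haQ p.2))),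
        mem_centralizer_singleton_iff.mpr (Commute.mul_left (hbt p.1) (hat p.2))⟩⟩
    have hinj : Function.Injective f := by
      rintro ⟨k, l⟩ ⟨k', l'⟩ e
      have e' : b k * a l = b k' * a l' := congrArg Subtype.val e
      have hpk : D.pm (b k) = D.pm (b k') := by
        have := congrArg D.pm e'
        rwa [D.pm_mul (hbz k) (hb.zc (haQ l)), D.pm_mul (hbz k') (hb.zc (haQ l')), D.pm_of_mem (haQ l),
          D.pm_of_mem (haQ l'), mul_one, mul_one] at this
      have hkk : k = k' := by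
        rw [hbp, hbp] at hpk
        have h4 : ∀ τ τ' : Equiv.Perm (Fin 5), IsInv5 τ → IsInv5 τ' → IsInv5 (τ * τ') → τ' ≠ τ →
            Function.Injective (![1, τ, τ', τ * τ'] : Fin 4 → Equiv.Perm (Fin 5)) := by
          intro τ τ' h1 h2 h3 h4 x y e
          fin_cases x <;> fin_cases y <;> first | rfl | (exfalso; simp at e) 
          all_goals
            first
              | exact h1.1 e | exact h1.1 e.symm | exact h2.1 e | exact h2.1 e.symm
              | exact h3.1 e | exact h3.1 e.symm | exact h4 e | exact h4 e.symm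
        exact h4 _ _ hτ hτ' hτ'' hne hpk
      subst hkk
      have hll : a l = a l' := mul_left_cancel e'
      have hne1 := D.s_ne i
      have h5 : Function.Injective a := by
        intro x y e
        have ezs : z * D.s i ≠ 1 := fun e => hne1.2 ((eq_inv_of_mul_eq_one_right e).trans hb.z_inv)
        have ezs2 : z * D.s i ≠ z := fun e => hne1.1 (mul_eq_left.mp e)
        fin_cases x <;> fin_cases y <;>
          simp [a, hb.z_ne_one, hb.z_ne_one.symm, hne1.1, hne1.1.symm, hne1.2, hne1.2.symm, ezs,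
            ezs.symm, ezs2, ezs2.symm] at e ⊢
      rw [h5 hll]
    have hsurj : Function.Surjective f := by
      rintro ⟨c, hc⟩
      obtain ⟨k, l, e⟩ := cover c (mem_centralizer_singleton_iff.mp (mem_inf.mp hc).1)
        (mem_centralizer_singleton_iff.mp (mem_inf.mp hc).2)
      exact ⟨(k, l), Subtype.ext e.symm⟩
    rw [← Nat.card_congr (Equiv.ofBijective f ⟨hinj, hsurj⟩)]
    simp

end Coord

/-- The centraliser of a commuting pair of involutions of the two types. -/
theorem JSet.centralizer_pair {G : Type*} [Group G] [Finite G] {z : G} {Q : Subgroup G} (D : JSet z Q)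
    {x u : G} (hx : IsConj z x) (hu : u * u = 1) (hu1 : u ≠ 1) (huz : ¬ IsConj z u)
    (hxu : x * u = u * x) :
    (∀ c : G, c * x = x * c → c * u = u * c → c * c = 1) ∧
    Nat.card ↥(centralizer ({x} : Set G) ⊓ centralizer ({u} : Set G)) = 16 := by
  obtain ⟨g, rfl⟩ := isConj_iff.mp hx
  have hu' : g⁻¹ * u * g * (g⁻¹ * u * g) = 1 := by
    rw [show g⁻¹ * u * g * (g⁻¹ * u * g) = g⁻¹ * (u * u) * g by group, hu]; group
  have hu'c : g⁻¹ * u * g * z = z * (g⁻¹ * u * g) := by
    calc g⁻¹ * u * g * z = g⁻¹ * (u * (g * z * g⁻¹)) * g := by group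
      _ = g⁻¹ * (g * z * g⁻¹ * u) * g := by rw [hxu]
      _ = _ := by group
  have hu'z : ¬ IsConj z (g⁻¹ * u * g) := fun h => huz (h.trans (isConj_iff.mpr ⟨g, by group⟩))
  obtain ⟨h1, h2⟩ := D.centralizer_pair_C hu' hu'c
    (D.notMem_of_not_conj hu' (fun e => hu1 (by
      calc u = g * (g⁻¹ * u * g) * g⁻¹ := by group
        _ = 1 := by rw [e]; group)) hu'c hu'z)
  refine ⟨fun c hc hcu => ?_, ?_⟩
  · have k1 : g⁻¹ * c * g * z = z * (g⁻¹ * c * g) := by
      calc g⁻¹ * c * g * z = g⁻¹ * (c * (g * z * g⁻¹)) * g := by group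
        _ = g⁻¹ * (g * z * g⁻¹ * c) * g := by rw [hc]
        _ = _ := by group
    have k2 : g⁻¹ * c * g * (g⁻¹ * u * g) = g⁻¹ * u * g * (g⁻¹ * c * g) := by
      calc g⁻¹ * c * g * (g⁻¹ * u * g) = g⁻¹ * (c * u) * g := by group
        _ = g⁻¹ * (u * c) * g := by rw [hcu]
        _ = _ := by group
    have := h1 _ k1 k2
    calc c * c = g * (g⁻¹ * c * g * (g⁻¹ * c * g)) * g⁻¹ := by group
      _ = 1 := by rw [this]; group
  · rw [← h2]
    refine (Nat.card_congr ((MulAut.conj g).toEquiv.subtypeEquiv fun c => ?_)).symm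
    simp only [mem_inf, mem_centralizer_singleton_iff, MulEquiv.toEquiv_eq_coe, EquivLike.coe_coe,
      MulAut.conj_apply]
    constructor
    · rintro ⟨k1, k2⟩
      constructor
      · calc g * c * g⁻¹ * (g * z * g⁻¹) = g * (c * z) * g⁻¹ := by group
          _ = g * (z * c) * g⁻¹ := by rw [k1]
          _ = _ := by group
      · calc g * c * g⁻¹ * u = g * (c * (g⁻¹ * u * g)) * g⁻¹ := by group
          _ = g * (g⁻¹ * u * g * c) * g⁻¹ := by rw [k2]
          _ = _ := by group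
    · rintro ⟨k1, k2⟩
      constructor
      · calc c * z = g⁻¹ * (g * c * g⁻¹ * (g * z * g⁻¹)) * g := by group
          _ = g⁻¹ * (g * z * g⁻¹ * (g * c * g⁻¹)) * g := by rw [k1]
          _ = _ := by group
      · calc c * (g⁻¹ * u * g) = g⁻¹ * (g * c * g⁻¹ * u) * g := by group
          _ = g⁻¹ * (u * (g * c * g⁻¹)) * g := by rw [k2]
          _ = _ := by group

end Cfsg.Agent.H43.JTwo
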