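import Cfsg.Agent.H43.JTwo.Uniq.Rels
import Cfsg.Agent.S0215

/-!
A simple group with an involution centraliser `2^{1+4}.A₅` and more than one class of involutions.
-/

set_option autoImplicit false
set_option linter.style.haveILetI false
set_option linter.unusedSectionVars false
set_option linter.unusedSimpArgs false
set_option synthInstance.maxSize 4000

namespace Cfsg.Agent.H43.JTwo

open Subgroup

variable {G : Type*} [Group G] [Finite G]

theorem setup_of_cen {z : G} (hz : orderOf z = 2) (Q : Subgroup (centralizer ({z} : Set G)))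
    [Q.Normal] (hQ : Cfsg.IsExtraspecial 2 Q) (hcard : Nat.card Q = 32)
    (h2c : centralizer (Q : Set (centralizer ({z} : Set G))) ≤ Q) (h60 : Q.index = 60) :
    Setup z (Q.map (centralizer ({z} : Set G)).subtype) := by
  set Q0 := Q.map (centralizer ({z} : Set G)).subtype with hQ0
  have hle : Q0 ≤ (centralizer ({z} : Set G)) := map_subtype_le Q
  have he : Cfsg.IsExtraspecial 2 Q0 :=
    H92.isExtraspecial_of_mulEquiv (Q.equivMapOfInjective _ (centralizer ({z} : Set G)).subtype_injective) hQ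
  have hzC : z ∈ (centralizer ({z} : Set G)) := mem_centralizer_singleton_iff.mpr rfl
  have hzq : (⟨z, hzC⟩ : (centralizer ({z} : Set G))) ∈ Q := h2c (mem_centralizer_iff.mpr fun q _ =>
    Subtype.ext (mem_centralizer_singleton_iff.mp q.2))
  have hzQ : z ∈ Q0 := ⟨⟨z, hzC⟩, hzq, rfl⟩
  have hz1 : z ≠ 1 := fun h => by rw [h, orderOf_one] at hz; omega
  have hzz : z * z = 1 := by rw [← pow_two, ← hz, pow_orderOf_eq_one]
  have hzi : z⁻¹ = z := inv_eq_of_mul_eq_one_left hzz
  have hzZ : z ∈ (center Q0).map Q0.subtype :=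
    ⟨⟨z, hzQ⟩, mem_center_iff.mpr fun q => Subtype.ext (mem_centralizer_singleton_iff.mp (hle q.2)), rfl⟩
  have h01 : ∀ x ∈ (center Q0).map Q0.subtype, x = 1 ∨ x = z := fun x hx =>
    H92.eq_one_or_center he hzZ hz1 hx
  have hconj : ∀ c : G, c * z = z * c → ∀ q ∈ Q0, c * q * c⁻¹ ∈ Q0 := by
    rintro c hc _ ⟨q, hq, rfl⟩
    exact ⟨⟨c, mem_centralizer_singleton_iff.mpr hc⟩ * q * ⟨c, mem_centralizer_singleton_iff.mpr hc⟩⁻¹,
      (inferInstance : Q.Normal).conj_mem q hq _, rfl⟩
  have hcQ : ∀ c : G, (∀ q ∈ Q0, q * c = c * q) → c = 1 ∨ c = z := by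
    intro c hc
    have hcC : c ∈ (centralizer ({z} : Set G)) := mem_centralizer_singleton_iff.mpr (hc z hzQ).symm
    have hcq : (⟨c, hcC⟩ : (centralizer ({z} : Set G))) ∈ Q := h2c (mem_centralizer_iff.mpr fun q hq =>
      Subtype.ext (hc q ⟨q, hq, rfl⟩))
    refine h01 c ⟨⟨c, ⟨⟨c, hcC⟩, hcq, rfl⟩⟩, mem_center_iff.mpr fun q => Subtype.ext (hc q q.2), rfl⟩
  have hsq : ∀ q ∈ Q0, q * q = 1 ∨ q * q = z := fun q hq => h01 _ (H92.sq_mem_center_map he hq)
  have hcomm : ∀ q ∈ Q0, ∀ r ∈ Q0, q * r = r * q ∨ q * r = z * (r * q) := by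
    intro q hq r hr
    rcases h01 _ (H92.commutator_mem_center_map he hq hr) with h | h
    · left
      calc q * r = (q * r * q⁻¹ * r⁻¹) * (r * q) := by group
        _ = r * q := by rw [h, one_mul]
    · right
      calc q * r = (q * r * q⁻¹ * r⁻¹) * (r * q) := by group
        _ = _ := by rw [h]
  have hc0 : Nat.card Q0 = 32 := by
    rw [hQ0, ← Nat.card_congr (Q.equivMapOfInjective _ (centralizer ({z} : Set G)).subtype_injective).toEquiv, hcard]
  refine ⟨hz, hc0, hle, hzQ, hcQ, hconj, hsq, hcomm, ?_, ?_⟩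
  · rw [← Q.card_mul_index, hcard, h60]
  -- a non-central involution of `Q`
  by_contra hne
  push Not at hne
  obtain ⟨x, hx, hx1, hxz⟩ : ∃ x ∈ Q0, x ≠ 1 ∧ x ≠ z := by
    by_contra h
    push Not at h
    have hsub : (Q0 : Set G) ⊆ {1, z} := fun y hy => by
      by_cases e : y = 1
      · exact Or.inl e
      · exact Or.inr (h y hy e)
    have h2 := Set.ncard_le_ncard hsub (Set.toFinite _)
    rw [show (Q0 : Set G).ncard = 32 from hc0] at h2
    have : ({1, z} : Set G).ncard ≤ 2 := (Set.ncard_insert_le _ _).trans (by simp)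
    omega
  -- the centraliser of `x` in `Q` is small
  have hsmall : ∀ y ∈ Q0, x * y = y * x → y ∈ ({1, z, x, z * x} : Set G) := by
    intro y hy hxy
    by_cases hy1 : y = 1
    · simp [hy1]
    by_cases hyz : y = z
    · simp [hyz]
    have hy2 : y * y = z := (hsq y hy).resolve_left fun e => hyz (hne y hy e hy1)
    have hx2 : x * x = z := (hsq x hx).resolve_left fun e => hxz (hne x hx e hx1)
    have hxy2 : x * y * (x * y) = 1 := by
      calc x * y * (x * y) = x * (y * x) * y := by group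
        _ = (x * x) * (y * y) := by rw [← hxy]; group
        _ = 1 := by rw [hx2, hy2, hzz]
    have hxi : x⁻¹ = z * x := inv_eq_of_mul_eq_one_left (by rw [mul_assoc, hx2, hzz])
    by_cases he1 : x * y = 1
    · rw [eq_inv_of_mul_eq_one_right he1, hxi]; simp
    · have hez := hne _ (mul_mem hx hy) hxy2 he1
      have hy' : y = x⁻¹ * z := by rw [← hez]; group
      have hzx : x * z = z * x := mem_centralizer_singleton_iff.mp (hle hx)
      rw [hy', hxi, mul_assoc, hzx, ← mul_assoc, hzz, one_mul]; simp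
  obtain ⟨y, hy, hyx⟩ : ∃ y ∈ Q0, x * y ≠ y * x := by
    by_contra h
    push Not at h
    rcases hcQ x (fun q hq => (h q hq).symm) with e | e
    exacts [hx1 e, hxz e]
  have hcover : (Q0 : Set G) ⊆ {1, z, x, z * x} ∪ (fun w => y * w) '' {1, z, x, z * x} := by
    intro w hw
    by_cases hc : x * w = w * x
    · exact Or.inl (hsmall w hw hc)
    · right
      refine ⟨y⁻¹ * w, hsmall _ (mul_mem (inv_mem hy) hw) ?_, mul_inv_cancel_left y w⟩
      have e1 : x * w = z * (w * x) := (hcomm x hx w hw).resolve_left hc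
      have e2 : x * y = z * (y * x) := (hcomm x hx y hy).resolve_left hyx
      have hyz : y⁻¹ * z = z * y⁻¹ := mem_centralizer_singleton_iff.mp (hle (inv_mem hy))
      have e3 : x * y⁻¹ = z * (y⁻¹ * x) := by
        calc x * y⁻¹ = y⁻¹ * (y * x) * y⁻¹ := by group
          _ = y⁻¹ * (z * (x * y)) * y⁻¹ := by rw [e2, ← mul_assoc z z, hzz, one_mul]
          _ = (y⁻¹ * z) * x := by group
          _ = _ := by rw [hyz, mul_assoc]
      calc x * (y⁻¹ * w) = (x * y⁻¹) * w := (mul_assoc _ _ _).symm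
        _ = z * y⁻¹ * (x * w) := by rw [e3]; group
        _ = (z * y⁻¹ * z) * (w * x) := by rw [e1]; group
        _ = _ := by rw [mul_assoc z, hyz, ← mul_assoc z z, hzz, one_mul, mul_assoc]
  have h2 := Set.ncard_le_ncard hcover (Set.toFinite _)
  rw [show (Q0 : Set G).ncard = 32 from hc0] at h2
  have h4 : ({1, z, x, z * x} : Set G).ncard ≤ 4 := by
    have := Set.ncard_insert_le (1 : G) {z, x, z * x}
    have := Set.ncard_insert_le z ({x, z * x} : Set G)
    have := Set.ncard_insert_le x ({z * x} : Set G)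
    have := Set.ncard_singleton (z * x)
    omega
  have := Set.ncard_union_le ({1, z, x, z * x} : Set G) ((fun w => y * w) '' {1, z, x, z * x})
  have := Set.ncard_image_le (s := ({1, z, x, z * x} : Set G)) (f := fun w => y * w) (Set.toFinite _)
  omega

/-- In a simple group `z` commutes with another of its conjugates. -/
theorem Coord.exists_commuting_conj [IsSimpleGroup G] {z : G} {Q : Subgroup G} (D : Coord z Q) :
    ∃ g : G, g * z * g⁻¹ ≠ z ∧ g * z * g⁻¹ * z = z * (g * z * g⁻¹) := by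
  haveI : Fact (Nat.Prime 2) := ⟨Nat.prime_two⟩
  by_contra hne
  push Not at hne
  obtain ⟨P, -, hPC, hQP⟩ := D.exists_sylow
  obtain ⟨N, hN, hodd, hcom⟩ := Cfsg.Agent.S0215.result P z D.base.hzo (hQP D.base.hzQ) fun g hg => by
    by_contra h
    exact hne g h (mem_centralizer_singleton_iff.mp (hPC hg))
  have hzc : ∀ g : G, g * z = z * g := by
    rcases hN.eq_bot_or_eq_top with e | e
    · intro g
      have h := hcom g
      rw [e, mem_bot] at h
      calc g * z = (z * g * z⁻¹ * g⁻¹) * (g * z) := by rw [h, one_mul]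
        _ = z * g := by group
    · exfalso
      rw [e, Subgroup.card_top] at hodd
      have h2 : orderOf z ∣ Nat.card G := orderOf_dvd_natCard z
      rw [D.base.hzo] at h2
      exact (Nat.not_even_iff_odd.mpr hodd) (even_iff_two_dvd.mpr h2)
  have hQn : Q.Normal := ⟨fun q hq g => D.base.norm g (hzc g) q hq⟩
  rcases hQn.eq_bot_or_eq_top with e | e
  · have := D.base.hzQ
    rw [e, mem_bot] at this
    exact D.base.z_ne_one this
  · have h1 := D.base.card
    have h2 := D.base.cardC
    have hle : Nat.card ↥(centralizer ({z} : Set G)) ≤ Nat.card ↥Q := by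
      rw [e, Subgroup.card_top]
      exact card_le_card_group _
    omega

/-- `z` is not weakly closed in `Q`. -/
theorem Coord.exists_nwc [IsSimpleGroup G] {z : G} {Q : Subgroup G} (D : Coord z Q) :
    ∃ g : G, g * z * g⁻¹ ∈ Q ∧ g * z * g⁻¹ ≠ z := by
  by_contra hno
  push Not at hno
  obtain ⟨g, hne, hc⟩ := D.exists_commuting_conj
  set u := g * z * g⁻¹ with hu
  have huu : u * u = 1 := by
    rw [hu, show g * z * g⁻¹ * (g * z * g⁻¹) = g * (z * z) * g⁻¹ by group, D.base.zz]; group
  have huQ : u ∉ Q := fun h => hne (hno g h)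
  set w := g⁻¹ * z * g with hw
  have hww : w * w = 1 := by
    rw [hw, show g⁻¹ * z * g * (g⁻¹ * z * g) = g⁻¹ * (z * z) * g by group, D.base.zz]; group
  have hwne : w ≠ z := fun h => hne (by rw [hu]; nth_rw 1 [← h]; rw [hw]; group)
  have hwz : w * z = z * w := by
    calc w * z = g⁻¹ * (z * u) * g := by rw [hw, hu]; group
      _ = g⁻¹ * (u * z) * g := by rw [hc]
      _ = z * w := by rw [hw, hu]; group
  have hwQ : w ∉ Q := fun h => hwne (by
    have := hno g⁻¹ (by rw [inv_inv]; exact h)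
    rwa [inv_inv] at this)
  obtain ⟨i, hi, -⟩ := Coord.inv5_fix _ (D.pm_inv5 huu hc huQ)
  obtain ⟨j, hj, -⟩ := Coord.inv5_fix _ (D.pm_inv5 hww hwz hwQ)
  -- the conjugates of the centralised involutions of `Q`
  have key : ∀ x ∈ Q, x * x = 1 → x ≠ 1 → x ≠ z → w * x = x * w →
      g * x * g⁻¹ = D.s i ∨ g * x * g⁻¹ = z * D.s i := by
    intro x hx hxx hx1 hxz hwx
    set p := g * x * g⁻¹ with hp
    have hpz : p * z = z * p := by
      calc p * z = g * (x * w) * g⁻¹ := by rw [hp, hw]; group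
        _ = g * (w * x) * g⁻¹ := by rw [hwx]
        _ = z * p := by rw [hp, hw]; group
    have hpu : u * p = p * u := by
      calc u * p = g * (z * x) * g⁻¹ := by rw [hp, hu]; group
        _ = g * (x * z) * g⁻¹ := by rw [D.base.zc hx]
        _ = p * u := by rw [hp, hu]; group
    have hp2 : p * p = 1 := by
      rw [hp, show g * x * g⁻¹ * (g * x * g⁻¹) = g * (x * x) * g⁻¹ by group, hxx]; group
    have hnc : ¬ IsConj z p := by
      intro h
      obtain ⟨c, hc'⟩ := isConj_iff.mp (h.trans (isConj_iff.mpr ⟨g, rfl⟩ : IsConj x p).symm)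
      exact hxz (hc'.symm.trans (hno c (hc'.symm ▸ hx)))
    have hpQ : p ∈ Q := by
      by_contra hpn
      obtain ⟨c, -, e⟩ := D.conj_in_C huu hc huQ hp2 hpz hpn
      exact hnc ((isConj_iff.mpr ⟨g, rfl⟩ : IsConj z u).trans (isConj_iff.mpr ⟨c, e⟩))
    rcases (D.commute_iff_t huu hc huQ hi hpQ).mp hpu with e | e | e | e
    · exact absurd (conj_eq_one_iff.mp e) hx1
    · exact absurd (e ▸ IsConj.refl z) hnc
    · exact Or.inl e
    · exact Or.inr e
  have hsz : z * D.s j * (z * D.s j) = 1 := by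
    rw [mul_assoc, ← mul_assoc (D.s j) z, D.base.zc (D.mem j), mul_assoc z, D.ss, mul_one, D.base.zz]
  have k1 := key (D.s j) (D.mem j) (D.ss j) (D.s_ne j).1 (D.s_ne j).2
    ((D.commute_iff_t hww hwz hwQ hj (D.mem j)).mpr (by simp))
  have k2 := key (z * D.s j) (mul_mem D.base.hzQ (D.mem j)) hsz
    (fun e => (D.s_ne j).2 ((eq_inv_of_mul_eq_one_right e).trans D.base.z_inv))
    (fun e => (D.s_ne j).1 (mul_eq_left.mp e))
    ((D.commute_iff_t hww hwz hwQ hj (mul_mem D.base.hzQ (D.mem j))).mpr (by simp))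
  have hmem : ∀ y, (y = D.s i ∨ y = z * D.s i) → y ∈ Q := by
    rintro y (rfl | rfl)
    exacts [D.mem i, mul_mem D.base.hzQ (D.mem i)]
  apply huQ
  have hprod := mul_mem (hmem _ k2) (hmem _ k1)
  rwa [show g * (z * D.s j) * g⁻¹ * (g * D.s j * g⁻¹) = g * z * (D.s j * D.s j) * g⁻¹ by group, D.ss,
    mul_one, ← hu] at hprod

/-- Identification from the centraliser of an involution. -/
theorem isoJ2_of_cen [IsSimpleGroup G] {z : G} (hz : orderOf z = 2)
    (Q : Subgroup (centralizer ({z} : Set G))) [Q.Normal] (hQ : Cfsg.IsExtraspecial 2 Q)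
    (hcard : Nat.card Q = 32) (h2c : centralizer (Q : Set (centralizer ({z} : Set G))) ≤ Q)
    (e : (centralizer ({z} : Set G)) ⧸ Q ≃* alternatingGroup (Fin 5))
    (hcl : ∃ x y : G, orderOf x = 2 ∧ orderOf y = 2 ∧ ¬ IsConj x y) : Cfsg.Spor.IsoJ2 G := by
  have h60 : Q.index = 60 := by
    rw [index_eq_card, Nat.card_congr e.toEquiv, Nat.card_eq_fintype_card]; rfl
  obtain ⟨D⟩ := (setup_of_cen hz Q hQ hcard h2c h60).exists_coord
  obtain ⟨D'⟩ := D.exists_jset D.exists_nwc hcl
  exact Uniq.iso_j2 D'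

end Cfsg.Agent.H43.JTwo
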