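import Cfsg.Agent.H43.JTwo.Perm

/-!
Involutions of `C` outside `Q`: one class, and their centralisers in `Q`.
-/

set_option autoImplicit false
set_option linter.style.haveILetI false
set_option linter.unusedSectionVars false
set_option linter.unusedSimpArgs false

namespace Cfsg.Agent.H43.JTwo

open Subgroup

/-- Even involutions of five letters. -/
def IsInv5 (τ : Equiv.Perm (Fin 5)) : Prop := τ ≠ 1 ∧ τ * τ = 1 ∧ Equiv.Perm.sign τ = 1

instance (τ : Equiv.Perm (Fin 5)) : Decidable (IsInv5 τ) := by unfold IsInv5; infer_instance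

namespace Coord

theorem inv5_fix : ∀ τ : Equiv.Perm (Fin 5), IsInv5 τ → ∃ i, τ i = i ∧ ∀ j, τ j = j → j = i := by
  decide +kernel

theorem inv5_conj : ∀ τ τ' : Equiv.Perm (Fin 5), IsInv5 τ → IsInv5 τ' →
    ∃ g : Equiv.Perm (Fin 5), Equiv.Perm.sign g = 1 ∧ g * τ * g⁻¹ = τ' := by decide +kernel

theorem inv5_vec : ∀ τ : Equiv.Perm (Fin 5), IsInv5 τ → ∀ i, τ i = i → ∀ v : Fin 5 → ZMod 2,
    Even5 v → (∀ j, v (τ j) = v j) →
      (qval v = 0 ↔ v = 0 ∨ v = sv i) ∧ ∃ r : Fin 5 → ZMod 2, Even5 r ∧ ∀ j, v j = r (τ j) + r j := by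
  unfold sv; decide +kernel

theorem inv5_pairs : ∀ τ : Equiv.Perm (Fin 5), IsInv5 τ → ∀ i, τ i = i →
    ∃ j j', (∀ k, sv i k = (sv (τ j) k + sv j k) + (sv (τ j') k + sv j' k)) ∧
      qval (sv (τ j) + sv j) = 1 ∧ qval (sv (τ j') + sv j') = 1 := by
  unfold sv; decide +kernel

theorem inv5_two : ∀ τ : Equiv.Perm (Fin 5), IsInv5 τ → ∀ v : Fin 5 → ZMod 2,
    Even5 v → (∀ j, v (τ j) = v j) → qval v ≠ 0 →
      ∃ j, v = sv (τ j) + sv j := by
  unfold sv; decide +kernel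

variable {G : Type*} [Group G] [Finite G]
variable {z : G} {Q : Subgroup G} (D : Coord z Q)

theorem pm_inv5 {t : G} (ht : t * t = 1) (htc : t * z = z * t) (htQ : t ∉ Q) : IsInv5 (D.pm t) := by
  refine ⟨fun h => htQ (D.mem_of_pm_eq_one htc h), ?_, D.pm_even htc⟩
  rw [← D.pm_mul htc htc, ht, D.pm_one]

/-- Conjugation by an involution, on coordinates. -/
theorem beta_conj_invol {t : G} (ht : t * t = 1) (htc : t * z = z * t) {q : G} (hq : q ∈ Q)
    (i : Fin 5) : D.beta (t * q * t⁻¹) i = D.beta q (D.pm t i) := by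
  have h := D.beta_conj htc hq (D.pm t i)
  rwa [← Equiv.Perm.mul_apply, ← D.pm_mul htc htc, ht, D.pm_one, Equiv.Perm.one_apply] at h

theorem invariant_of_inverted {t : G} (ht : t * t = 1) (htc : t * z = z * t) {q : G} (hq : q ∈ Q)
    (h : t * q * t⁻¹ = q⁻¹ ∨ t * q * t⁻¹ = q) : ∀ j, D.beta q (D.pm t j) = D.beta q j := by
  intro j
  rw [← D.beta_conj_invol ht htc hq]
  rcases h with e | e <;> rw [e]
  rw [D.beta_inv hq]

/-- The commutator of `t` with an element of `Q` is inverted by `t`. -/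
theorem comm_inverted {t : G} (ht : t * t = 1) (htc : t * z = z * t) {r : G} (hr : r ∈ Q) :
    t * r * t⁻¹ * r⁻¹ ∈ Q ∧
    t * (t * r * t⁻¹ * r⁻¹) * t⁻¹ = (t * r * t⁻¹ * r⁻¹)⁻¹ ∧
    ∀ j, D.beta (t * r * t⁻¹ * r⁻¹) j = D.beta r (D.pm t j) + D.beta r j := by
  have ti : t⁻¹ = t := inv_eq_of_mul_eq_one_left ht
  have hm := D.base.norm t htc r hr
  refine ⟨mul_mem hm (inv_mem hr), ?_, fun j => ?_⟩
  · rw [mul_inv_rev, mul_inv_rev, mul_inv_rev, inv_inv, inv_inv]
    simp only [ti, ← mul_assoc, ht, one_mul]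
  · rw [D.beta_mul hm (inv_mem hr), D.beta_inv hr, Pi.add_apply, D.beta_conj_invol ht htc hr]

/-- An element of `Q` with `τ`-invariant coordinates is inverted by `t`. -/
theorem inverted_of_invariant {t : G} (ht : t * t = 1) (htc : t * z = z * t) (htQ : t ∉ Q)
    {q : G} (hq : q ∈ Q) (h : ∀ j, D.beta q (D.pm t j) = D.beta q j) : t * q * t⁻¹ = q⁻¹ := by
  have hτ := D.pm_inv5 ht htc htQ
  obtain ⟨i, hi, -⟩ := inv5_fix _ hτ
  have htz : t * z * t⁻¹ = z := by rw [htc, mul_inv_cancel_right]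
  -- weight two vectors
  have two : ∀ x ∈ Q, ∀ j, D.beta x = sv (D.pm t j) + sv j →
      qval (sv (D.pm t j) + sv j) = 1 → t * x * t⁻¹ = x⁻¹ ∧ x⁻¹ = z * x := by
    intro x hx j hb hv
    obtain ⟨hw, hwi, hwb⟩ := D.comm_inverted ht htc (D.mem j)
    have e : D.beta (t * D.s j * t⁻¹ * (D.s j)⁻¹) = D.beta x := by
      rw [hb]
      funext k
      rw [hwb, D.beta_s, Pi.add_apply]
      have : ∀ (τ : Equiv.Perm (Fin 5)), IsInv5 τ → ∀ j k, sv j (τ k) = sv (τ j) k := by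
        unfold sv; decide +kernel
      rw [this _ hτ]
    have hxx : x * x = z := D.sq_ne hx (by rw [hb, hv]; decide)
    have hxi : x⁻¹ = z * x := inv_eq_of_mul_eq_one_left (by rw [mul_assoc, hxx, D.base.zz])
    refine ⟨?_, hxi⟩
    rcases D.eq_of_beta_eq hw hx e.symm.symm with r | r
    · rw [r]; exact hwi
    · rw [r]
      rw [show t * (z * (t * D.s j * t⁻¹ * (D.s j)⁻¹)) * t⁻¹ =
          (t * z * t⁻¹) * (t * (t * D.s j * t⁻¹ * (D.s j)⁻¹) * t⁻¹) by group, htz, hwi]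
      rw [mul_inv_rev z, D.base.z_inv]
      exact (D.base.zc (inv_mem hw)).symm
  have hsi : t * D.s i * t⁻¹ = D.s i := by
    obtain ⟨j, j', hjj, h1, h2⟩ := inv5_pairs _ hτ i hi
    obtain ⟨w, hw, hwb⟩ := D.exists_beta (v := sv (D.pm t j) + sv j) (by
      rw [← D.beta_s, ← D.beta_s, ← D.beta_mul (D.mem _) (D.mem _)]
      exact D.beta_even (mul_mem (D.mem _) (D.mem _)))
    obtain ⟨w', hw', hwb'⟩ := D.exists_beta (v := sv (D.pm t j') + sv j') (by
      rw [← D.beta_s, ← D.beta_s, ← D.beta_mul (D.mem _) (D.mem _)]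
      exact D.beta_even (mul_mem (D.mem _) (D.mem _)))
    obtain ⟨e1, f1⟩ := two w hw j hwb h1
    obtain ⟨e2, f2⟩ := two w' hw' j' hwb' h2
    have hww : t * (w * w') * t⁻¹ = w * w' := by
      rw [show t * (w * w') * t⁻¹ = (t * w * t⁻¹) * (t * w' * t⁻¹) by group, e1, e2, f1, f2,
        mul_assoc z w, ← mul_assoc w z, D.base.zc hw, mul_assoc z w, D.base.mulZ_inv]
    rcases D.eq_of_beta_eq (mul_mem hw hw') (D.mem i)
      (by rw [D.beta_mul hw hw', hwb, hwb', D.beta_s]; funext k; exact (hjj k).symm) with r | r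
    · rw [r, hww]
    · rw [r, show t * (z * (w * w')) * t⁻¹ = (t * z * t⁻¹) * (t * (w * w') * t⁻¹) by group, htz, hww]
  by_cases hv : qval (D.beta q) = 0
  · have hqq := (D.sq_iff hq).mpr hv
    rw [inv_eq_of_mul_eq_one_left hqq]
    rcases ((inv5_vec _ hτ i hi _ (D.beta_even hq) h).1.mp hv) with e | e
    · rcases D.eq_of_beta_zero hq e with r | r
      · simp [r]
      · rw [r, htz]
    · rcases D.eq_of_beta_eq (D.mem i) hq (by rw [D.beta_s, e]) with r | r
      · rw [r, hsi]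
      · rw [r, show t * (z * D.s i) * t⁻¹ = (t * z * t⁻¹) * (t * D.s i * t⁻¹) by group, htz, hsi]
  · obtain ⟨j, hj⟩ := inv5_two _ hτ _ (D.beta_even hq) h hv
    refine (two q hq j hj ?_).1
    have hb : ∀ x : ZMod 2, x ≠ 0 → x = 1 := by decide
    rw [← hj]
    exact hb _ hv

theorem inverted_iff {t : G} (ht : t * t = 1) (htc : t * z = z * t) (htQ : t ∉ Q)
    {q : G} (hq : q ∈ Q) : t * q * t⁻¹ = q⁻¹ ↔ ∀ j, D.beta q (D.pm t j) = D.beta q j :=
  ⟨fun h => D.invariant_of_inverted ht htc hq (Or.inl h), D.inverted_of_invariant ht htc htQ hq⟩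

/-- `C_Q(t)`. -/
theorem commute_iff_t {t : G} (ht : t * t = 1) (htc : t * z = z * t) (htQ : t ∉ Q) {i : Fin 5}
    (hi : D.pm t i = i) {q : G} (hq : q ∈ Q) :
    t * q = q * t ↔ q = 1 ∨ q = z ∨ q = D.s i ∨ q = z * D.s i := by
  have hτ := D.pm_inv5 ht htc htQ
  constructor
  · intro h
    have h' : t * q * t⁻¹ = q := mul_inv_eq_iff_eq_mul.mpr h
    have hinvr := D.invariant_of_inverted ht htc hq (Or.inr h')
    have hqq : q * q = 1 :=
      mul_eq_one_iff_eq_inv.mpr (h'.symm.trans (D.inverted_of_invariant ht htc htQ hq hinvr))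
    rcases (inv5_vec _ hτ i hi _ (D.beta_even hq) hinvr).1.mp ((D.sq_iff hq).mp hqq) with e | e
    · rcases D.eq_of_beta_zero hq e with r | r
      · exact Or.inl r
      · exact Or.inr (Or.inl r)
    · rcases D.eq_of_beta_eq (D.mem i) hq (by rw [D.beta_s, e]) with r | r
      · exact Or.inr (Or.inr (Or.inl r))
      · exact Or.inr (Or.inr (Or.inr r))
  · intro h
    have hsq : q * q = 1 ∧ ∀ j, D.beta q (D.pm t j) = D.beta q j := by
      have hs : ∀ j, D.beta (D.s i) (D.pm t j) = D.beta (D.s i) j := by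
        rw [D.beta_s]
        intro j
        simp only [sv]
        by_cases hj : j = i
        · rw [hj, hi]
        · rw [if_neg hj, if_neg fun e => hj ((D.pm t).injective (e.trans hi.symm))]
      rcases h with rfl | rfl | rfl | rfl
      · exact ⟨one_mul 1, by rw [D.beta_one]; simp⟩
      · exact ⟨D.base.zz, by rw [D.beta_z]; simp⟩
      · exact ⟨D.ss i, hs⟩
      · refine ⟨?_, by rw [D.beta_zmul (D.mem i)]; exact hs⟩
        rw [mul_assoc, ← mul_assoc (D.s i) z, D.base.zc (D.mem i), mul_assoc z, D.ss, mul_one, D.base.zz]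
    have := D.inverted_of_invariant ht htc htQ hq hsq.2
    rw [inv_eq_of_mul_eq_one_left hsq.1] at this
    exact mul_inv_eq_iff_eq_mul.mp this

include D in
/-- Involutions in one coset of `Q` are conjugate. -/
theorem conj_of_coset {t u : G} (ht : t * t = 1) (htc : t * z = z * t) (htQ : t ∉ Q) (hu : u * u = 1)
    (hq : t⁻¹ * u ∈ Q) : ∃ r ∈ Q, r * t * r⁻¹ = u := by
  have hτ := D.pm_inv5 ht htc htQ
  obtain ⟨i, hi, -⟩ := inv5_fix _ hτ
  have ti : t⁻¹ = t := inv_eq_of_mul_eq_one_left ht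
  rw [ti] at hq
  set q := t * u with hqdef
  have hu' : u = t * q := by rw [hqdef, ← mul_assoc, ht, one_mul]
  have hinv : t * q * t⁻¹ = q⁻¹ := by
    rw [hqdef, mul_inv_rev, inv_eq_of_mul_eq_one_left hu, ti, ← mul_assoc, ht, one_mul]
  obtain ⟨-, v, hv, hvr⟩ := inv5_vec _ hτ i hi _ (D.beta_even hq)
    (D.invariant_of_inverted ht htc hq (Or.inl hinv))
  obtain ⟨r, hr, hrb⟩ := D.exists_beta hv
  obtain ⟨hw, -, hwb⟩ := D.comm_inverted ht htc hr
  rcases D.eq_of_beta_eq hw hq (by funext j; rw [hwb, hrb, ← hvr]) with e | e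
  · refine ⟨r, hr, ?_⟩
    rw [hu', e, ti, ← mul_assoc, ← mul_assoc, ← mul_assoc, ht, one_mul]
  · obtain ⟨j, j', -, hj, -⟩ := inv5_pairs _ hτ i hi
    obtain ⟨hw2, hwi2, hwb2⟩ := D.comm_inverted ht htc (D.mem j)
    set w := t * D.s j * t⁻¹ * (D.s j)⁻¹ with hwdef
    have hww : w * w = z := D.sq_ne hw2 (by
      have he : D.beta w = sv (D.pm t j) + sv j := by
        funext k
        rw [hwb2, D.beta_s, Pi.add_apply]
        have : ∀ (τ : Equiv.Perm (Fin 5)), IsInv5 τ → ∀ j k, sv j (τ k) = sv (τ j) k := by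
          unfold sv; decide +kernel
        rw [this _ hτ]
      rw [he, hj]; decide)
    refine ⟨r * w, mul_mem hr hw2, ?_⟩
    have hwt : w * t * w⁻¹ = t * z := by
      rw [ti] at hwi2
      calc w * t * w⁻¹ = t * (t * w * t) * w⁻¹ := by
            rw [← mul_assoc, ← mul_assoc, ht, one_mul]
        _ = t * (w⁻¹ * w⁻¹) := by rw [hwi2, mul_assoc]
        _ = t * z := by rw [← mul_inv_rev, hww, D.base.z_inv]
    calc r * w * t * (r * w)⁻¹ = r * (w * t * w⁻¹) * r⁻¹ := by group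
      _ = r * t * r⁻¹ * z := by
        rw [hwt, mul_assoc r, mul_assoc t z r⁻¹, ← D.base.zc (inv_mem hr)]; group
      _ = t * (t * r * t⁻¹ * r⁻¹) * z := by rw [ti, ← mul_assoc, ← mul_assoc, ← mul_assoc, ht, one_mul]
      _ = u := by rw [mul_assoc, D.base.zc hw, ← e, ← hu']

include D in
/-- All involutions of `C` outside `Q` are conjugate in `C`. -/
theorem conj_in_C {t u : G} (ht : t * t = 1) (htc : t * z = z * t) (htQ : t ∉ Q)
    (hu : u * u = 1) (huc : u * z = z * u) (huQ : u ∉ Q) :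
    ∃ c : G, c * z = z * c ∧ c * t * c⁻¹ = u := by
  obtain ⟨g, hg, hgc⟩ := inv5_conj _ _ (D.pm_inv5 ht htc htQ) (D.pm_inv5 hu huc huQ)
  obtain ⟨c, hc, hcg⟩ := D.exists_pm hg
  have ht'c : c * t * c⁻¹ * z = z * (c * t * c⁻¹) :=
    Commute.mul_left (Commute.mul_left hc htc) (Commute.inv_left hc)
  have hpm : D.pm (c * t * c⁻¹) = D.pm u := by
    rw [D.pm_mul (Commute.mul_left hc htc) (Commute.inv_left hc), D.pm_mul hc htc, D.pm_inv hc, hcg, hgc]
  have ht' : c * t * c⁻¹ * (c * t * c⁻¹) = 1 := by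
    rw [show c * t * c⁻¹ * (c * t * c⁻¹) = c * (t * t) * c⁻¹ by group, ht]; group
  have ht'Q : c * t * c⁻¹ ∉ Q := fun h => huQ (D.mem_of_pm_eq_one huc (hpm ▸ D.pm_of_mem h))
  obtain ⟨r, hr, hru⟩ := D.conj_of_coset ht' ht'c ht'Q hu ((D.pm_eq_iff ht'c huc).mp hpm)
  exact ⟨r * c, Commute.mul_left (D.base.zc hr) hc, by rw [← hru]; group⟩

end Coord

end Cfsg.Agent.H43.JTwo
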