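import Cfsg.Agent.H43.JTwo.LPart

/-!
`C(t) = B × L` with `|L| ∈ {12, 60}`.
-/

set_option autoImplicit false
set_option Elab.async false
set_option linter.style.haveILetI false
set_option linter.unusedSectionVars false
set_option linter.unusedSimpArgs false
set_option synthInstance.maxSize 4000

namespace Cfsg.Agent.H43.JTwo

open Subgroup

variable {G : Type*} [Group G] [Finite G] {z : G} {Q : Subgroup G}

/-- All the data on `C(t)`. -/
structure LSet (D : JSet z Q) (t a σ : G) (L : Subgroup G) : Prop extends SigmaSet D t a σ where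
  hLK : L ≤ centralizer ({t} : Set G)
  hnorm : ∀ k : G, k * t = t * k → ∀ l ∈ L, k * l * k⁻¹ ∈ L
  hLA : ∀ x : G, x ∈ L ∧ x * z = z * x ↔ x ∈ Q ⊓ centralizer ({t} : Set G)
  hσL : σ ∈ L
  hcard : Nat.card ↥(centralizer ({t} : Set G)) = 4 * Nat.card L
  hcov : ∀ k : G, k * t = t * k → ∃ l ∈ L, ∃ e : G, e * z = z * e ∧ e * t = t * e ∧ k = l * e

theorem JSet.exists_lset (D : JSet z Q) {t : G} (ht : t * t = 1) (htc : t * z = z * t)
    (htQ : t ∉ Q) : ∃ a σ L, LSet D t a σ L := by
  obtain ⟨a, σ, S⟩ := D.exists_sigmaSet ht htc htQ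
  obtain ⟨L, h1, h2, h3, h4, h5, h6⟩ := S.exists_L
  exact ⟨a, σ, L, S, h1, h2, h3, h4, h5, h6⟩

/-- The subgroup `B` of `C ∩ C(t)` centralising `σ`. -/
def bGroup (z t σ : G) : Subgroup G :=
  centralizer ({z} : Set G) ⊓ centralizer ({t} : Set G) ⊓ centralizer ({σ} : Set G)

theorem mem_bGroup {z t σ x : G} :
    x ∈ bGroup z t σ ↔ x * z = z * x ∧ x * t = t * x ∧ x * σ = σ * x := by
  rw [bGroup, mem_inf, mem_inf, mem_centralizer_singleton_iff, mem_centralizer_singleton_iff,
    mem_centralizer_singleton_iff, and_assoc]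

theorem perm5_a4 : ∀ w : Equiv.Perm (Fin 5), w * w = 1 → w ≠ 1 → Equiv.Perm.sign w = 1 →
    ∀ s : Equiv.Perm (Fin 5), s ^ 3 = 1 → s ≠ 1 → (s * w) ^ 3 = 1 →
    ∀ g : Equiv.Perm (Fin 5), g * w = w * g → g * s = s * g → g = 1 := by decide +kernel

namespace LSet

variable {D : JSet z Q} {t a σ : G} {L : Subgroup G}

theorem hzL (S : LSet D t a σ L) : z ∈ L :=
  ((S.hLA z).mpr (S.mem_A_iff.mpr (by simp))).1

theorem haL (S : LSet D t a σ L) : a ∈ L :=
  ((S.hLA a).mpr (S.mem_A_iff.mpr (by simp))).1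

theorem L_comm_t (S : LSet D t a σ L) {l : G} (hl : l ∈ L) : l * t = t * l :=
  mem_centralizer_singleton_iff.mp (S.hLK hl)

theorem inL_cases (S : LSet D t a σ L) {x : G} (hx : x ∈ L) (hxz : x * z = z * x) :
    x = 1 ∨ x = z ∨ x = a ∨ x = z * a :=
  S.mem_A_iff.mp ((S.hLA x).mp ⟨hx, hxz⟩)

theorem conj_cases (S : LSet D t a σ L) {x : G} (hx : x = z ∨ x = a ∨ x = z * a) :
    ∃ l ∈ L, l * z * l⁻¹ = x := by
  rcases hx with rfl | rfl | rfl
  · exact ⟨1, one_mem _, by group⟩
  · exact ⟨σ, S.hσL, S.hσz⟩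
  · refine ⟨σ * σ, mul_mem S.hσL S.hσL, ?_⟩
    rw [← S.hσa, ← S.hσz]; simp [mul_assoc]

/-- Every involution of `C(t)` is conjugate into `C ∩ C(t)`. -/
theorem conj_into_E (S : LSet D t a σ L) {x : G} (hxx : x * x = 1) (hxt : x * t = t * x) :
    ∃ l ∈ L, (l * x * l⁻¹) * z = z * (l * x * l⁻¹) := by
  haveI : Fact (Nat.Prime 2) := ⟨Nat.prime_two⟩
  set K := centralizer ({t} : Set G) with hK
  set E := (centralizer ({z} : Set G)).subgroupOf K with hE
  have hEcard : Nat.card E = 16 := by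
    rw [← S.card_E]
    exact Nat.card_congr
      { toFun := fun x => ⟨((x : K) : G), ⟨x.2, (x : K).2⟩⟩
        invFun := fun x => ⟨⟨(x : G), x.2.2⟩, x.2.1⟩
        left_inv := fun x => rfl
        right_inv := fun x => rfl }
  have hodd : ¬ 2 ∣ E.index := by
    intro hd
    apply S.not_dvd_cen
    rw [← hK, ← E.card_mul_index, hEcard]
    obtain ⟨k, hk⟩ := hd
    exact ⟨k, by rw [hk]; ring⟩
  have hp : IsPGroup 2 E := IsPGroup.of_card (n := 4) (by rw [hEcard]; norm_num)
  set x' : K := ⟨x, mem_centralizer_singleton_iff.mpr hxt⟩ with hx'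
  have hx2 : IsPGroup 2 (zpowers x') := by
    intro w
    obtain ⟨k, hk⟩ := mem_zpowers_iff.mp w.2
    refine ⟨1, Subtype.ext ?_⟩
    push_cast
    rw [pow_two, ← hk, ← (Commute.refl x').mul_zpow, show x' * x' = 1 from Subtype.ext hxx, one_zpow]
  obtain ⟨T, hT⟩ := hx2.exists_le_sylow
  obtain ⟨g, hg⟩ := MulAction.exists_smul_eq K T (hp.toSylow hodd)
  have hgE : g * x' * g⁻¹ ∈ E := by
    have : g * x' * g⁻¹ ∈ ((g • T : Sylow 2 K) : Subgroup K) := by
      rw [Sylow.coe_subgroup_smul, mem_pointwise_smul_iff_inv_smul_mem, MulAut.smul_def]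
      simp only [← map_inv, MulAut.conj_apply, inv_inv]
      convert hT (mem_zpowers x') using 1
      group
    rw [hg] at this
    exact this
  rw [hE, mem_subgroupOf, mem_centralizer_singleton_iff] at hgE
  push_cast at hgE
  obtain ⟨l, hl, e, hez, het, hle⟩ := S.hcov ((g : G)⁻¹) (by
    exact Commute.inv_left (mem_centralizer_singleton_iff.mp g.2))
  refine ⟨l⁻¹, inv_mem hl, ?_⟩
  have hle' : l = (g : G)⁻¹ * e⁻¹ := by rw [hle, mul_inv_cancel_right]
  rw [show l⁻¹ * x * l⁻¹⁻¹ = e * ((g : G) * x * (g : G)⁻¹) * e⁻¹ by rw [hle']; group]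
  exact Commute.mul_left (Commute.mul_left hez hgE) (Commute.inv_left hez)

/-- The involutions of `L` are one class. -/
theorem L_invol_conj (S : LSet D t a σ L) {x : G} (hx : x ∈ L) (hxx : x * x = 1) (hx1 : x ≠ 1) :
    ∃ l ∈ L, l * z * l⁻¹ = x := by
  obtain ⟨l, hl, hlz⟩ := S.conj_into_E hxx (S.L_comm_t hx)
  rcases S.inL_cases (mul_mem (mul_mem hl hx) (inv_mem hl)) hlz with e | e
  · exact absurd (conj_eq_one_iff.mp e) hx1
  · obtain ⟨m, hm, hme⟩ := S.conj_cases e
    refine ⟨l⁻¹ * m, mul_mem (inv_mem hl) hm, ?_⟩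
    rw [show l⁻¹ * m * z * (l⁻¹ * m)⁻¹ = l⁻¹ * (m * z * m⁻¹) * l by group, hme]; group

/-- The `z`-type elements of `C(t)` lie in `L`. -/
theorem ztype_mem (S : LSet D t a σ L) {x : G} (hx : IsConj z x) (hxt : x * t = t * x) : x ∈ L := by
  obtain ⟨g, hg⟩ := isConj_iff.mp hx
  have hxx : x * x = 1 := by
    rw [← hg, show g * z * g⁻¹ * (g * z * g⁻¹) = g * (z * z) * g⁻¹ by group, D.base.zz]; group
  obtain ⟨l, hl, hlz⟩ := S.conj_into_E hxx hxt
  have hlxt : l * x * l⁻¹ * t = t * (l * x * l⁻¹) :=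
    Commute.mul_left (Commute.mul_left (S.L_comm_t hl) hxt) (Commute.inv_left (S.L_comm_t hl))
  have hm : l * x * l⁻¹ ∈ L := by
    rcases S.ztype_cases hlz hlxt (hx.trans (isConj_iff.mpr ⟨l, rfl⟩)) with e | e | e <;> rw [e]
    exacts [S.hzL, S.haL, mul_mem S.hzL S.haL]
  rw [show x = l⁻¹ * (l * x * l⁻¹) * l by group]
  exact mul_mem (mul_mem (inv_mem hl) hm) hl

theorem L_ztype (S : LSet D t a σ L) {x : G} (hx : x ∈ L) (hxx : x * x = 1) (hx1 : x ≠ 1) :
    IsConj z x := by
  obtain ⟨l, -, hl⟩ := S.L_invol_conj hx hxx hx1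
  exact isConj_iff.mpr ⟨l, hl⟩

theorem card_A (S : LSet D t a σ L) : Nat.card ↥(L ⊓ centralizer ({z} : Set G)) = 4 := by
  classical
  have : ((L ⊓ centralizer ({z} : Set G) : Subgroup G) : Set G) = ↑({1, z, a, z * a} : Finset G) := by
    ext x
    simp only [SetLike.mem_coe, mem_inf, mem_centralizer_singleton_iff, Finset.coe_insert,
      Finset.coe_singleton, Set.mem_insert_iff, Set.mem_singleton_iff]
    exact (S.hLA x).trans S.mem_A_iff
  change Nat.card ((L ⊓ centralizer ({z} : Set G) : Subgroup G) : Set G) = 4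
  rw [this, Nat.card_coe_set_eq, Set.ncard_coe_finset]
  have h1 := S.za_ne
  have h2 := S.a_ne
  simp [D.base.z_ne_one.symm, h1.1.symm, h1.2.1.symm, h1.2.2.symm, h2.1.symm, h2.2.symm]

/-- The order of `L`. -/
theorem card_L (S : LSet D t a σ L) :
    (Nat.card L = 12 ∧ Nat.card {x : L // orderOf x = 2} = 3) ∨
    (Nat.card L = 60 ∧ Nat.card {x : L // orderOf x = 2} = 15) := by
  classical
  haveI := Fintype.ofFinite L
  have conv : ∀ x : L, orderOf x = 2 → (x : G) * x = 1 ∧ (x : G) ≠ 1 := fun x hx => by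
    have h := pow_orderOf_eq_one (x : G)
    rw [orderOf_coe, hx, pow_two] at h
    refine ⟨h, fun e => ?_⟩
    rw [← orderOf_coe, e, orderOf_one] at hx; omega
  set z' : L := ⟨z, S.hzL⟩
  have hz' : orderOf z' = 2 := by rw [← orderOf_coe]; exact D.base.hzo
  have hone : ∀ s u : L, orderOf s = 2 → orderOf u = 2 → IsConj s u := by
    suffices ∀ s : L, orderOf s = 2 → IsConj z' s from fun s u hs hu => (this s hs).symm.trans (this u hu)
    intro s hs
    obtain ⟨l, hl, e⟩ := S.L_invol_conj s.2 (conv s hs).1 (conv s hs).2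
    exact isConj_iff.mpr ⟨⟨l, hl⟩, Subtype.ext e⟩
  have hcz : Nat.card ↥(centralizer ({z'} : Set L)) = 4 := by
    rw [← S.card_A]
    exact Nat.card_congr
      { toFun := fun x => ⟨((x : L) : G), mem_inf.mpr ⟨(x : L).2, mem_centralizer_singleton_iff.mpr
          (congrArg Subtype.val (mem_centralizer_singleton_iff.mp x.2))⟩⟩
        invFun := fun x => ⟨⟨(x : G), x.2.1⟩, mem_centralizer_singleton_iff.mpr
          (Subtype.ext (mem_centralizer_singleton_iff.mp x.2.2))⟩
        left_inv := fun x => rfl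
        right_inv := fun x => rfl }
  have hsqz : ∀ c : L, c * z' = z' * c → c ^ 2 = 1 := fun c hc => by
    rw [pow_two]
    exact Subtype.ext (S.cen_sq (congrArg Subtype.val hc) (S.L_comm_t c.2))
  have h4 : ∀ s : L, orderOf s = 2 → Nat.card ↥(centralizer ({s} : Set L)) = 4 ∧
      ∀ c ∈ centralizer ({s} : Set L), c ^ 2 = 1 := by
    intro s hs
    obtain ⟨l, rfl⟩ := isConj_iff.mp (hone z' s hz' hs)
    refine ⟨?_, fun c hc => ?_⟩
    · rw [← H65.FourCount.card_cen, H65.FourCount.card_cen_conj, H65.FourCount.card_cen, hcz]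
    · rw [mem_centralizer_singleton_iff] at hc
      have h1 : l⁻¹ * c * l * z' = z' * (l⁻¹ * c * l) := by
        calc l⁻¹ * c * l * z' = l⁻¹ * (c * (l * z' * l⁻¹)) * l := by group
          _ = l⁻¹ * (l * z' * l⁻¹ * c) * l := by rw [hc]
          _ = _ := by group
      have := hsqz _ h1
      rw [show l⁻¹ * c * l = l⁻¹ * c * l⁻¹⁻¹ by group, conj_pow] at this
      exact conj_eq_one_iff.mp this
  have hc := H65.FourCount.card_invs h4 hone hz'
  have hm := H65.FourCount.card_eq_four_mul h4 hone hz'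
  have he : Nat.card {x : L // orderOf x = 2} = (H65.FourCount.invs (G := L)).card := by
    rw [Nat.card_eq_fintype_card, Fintype.card_subtype]; rfl
  rw [Nat.card_eq_fintype_card, he]
  rcases hc with h | h <;> [left; right] <;> constructor <;> omega

theorem L_ne_bot (S : LSet D t a σ L) : σ ≠ 1 := fun e => by
  have := S.hσ; rw [e, orderOf_one] at this; omega

theorem twelve_dvd (S : LSet D t a σ L) {H : Subgroup G} (hz : z ∈ H) (ha : a ∈ H) (hσ : σ ∈ H) :
    12 ∣ Nat.card H := by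
  classical
  have h3 : 3 ∣ Nat.card H := by rw [← S.hσ]; exact H.orderOf_dvd_natCard hσ
  have h4 : 4 ∣ Nat.card H := by
    rw [← S.card_A]
    refine card_dvd_of_le fun x hx => ?_
    rcases S.inL_cases (mem_inf.mp hx).1 (mem_centralizer_singleton_iff.mp (mem_inf.mp hx).2) with
      rfl | rfl | rfl | rfl
    exacts [one_mem _, hz, ha, mul_mem hz ha]
  exact (by norm_num : Nat.Coprime 4 3).mul_dvd_of_dvd_of_dvd h4 h3

/-- The five four-groups of `L`. -/
def Four (L : Subgroup G) : Set (Subgroup G) :=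
  {F | ∃ x ∈ L, x * x = 1 ∧ x ≠ 1 ∧ F = L ⊓ centralizer ({x} : Set G)}

theorem four_smul {h : G} (hh : h ∈ normalizer (L : Set G)) {F : Subgroup G} (hF : F ∈ Four L) :
    F.map (MulAut.conj h).toMonoidHom ∈ Four L := by
  obtain ⟨x, hx, hxx, hx1, rfl⟩ := hF
  refine ⟨h * x * h⁻¹, (mem_normalizer_iff.mp hh x).mp hx, ?_, fun e => hx1 (conj_eq_one_iff.mp e), ?_⟩
  · rw [show h * x * h⁻¹ * (h * x * h⁻¹) = h * (x * x) * h⁻¹ by group, hxx]; group
  ext y
  rw [mem_map_equiv, mem_inf, mem_inf, MulAut.conj_symm_apply, mem_centralizer_singleton_iff,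
    mem_centralizer_singleton_iff]
  refine and_congr ?_ ⟨fun e => ?_, fun e => ?_⟩
  · rw [mem_normalizer_iff.mp hh]; rw [show h * (h⁻¹ * y * h) * h⁻¹ = y by group]
  · calc y * (h * x * h⁻¹) = h * (h⁻¹ * y * h * x) * h⁻¹ := by group
      _ = h * (x * (h⁻¹ * y * h)) * h⁻¹ := by rw [e]
      _ = _ := by group
  · calc h⁻¹ * y * h * x = h⁻¹ * (y * (h * x * h⁻¹)) * h := by group
      _ = h⁻¹ * (h * x * h⁻¹ * y) * h := by rw [e]
      _ = _ := by group

/-- The action of `N(L)` on the four-groups. -/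
noncomputable def fourHom (L : Subgroup G) :
    ↥(normalizer (L : Set G)) →* Equiv.Perm (Four L) where
  toFun h :=
    { toFun := fun F => ⟨F.1.map (MulAut.conj (h : G)).toMonoidHom, four_smul h.2 F.2⟩
      invFun := fun F => ⟨F.1.map (MulAut.conj (h : G)⁻¹).toMonoidHom, four_smul (inv_mem h.2) F.2⟩
      left_inv := fun F => Subtype.ext (by
        show (F.1.map _).map _ = F.1
        rw [map_map]
        convert Subgroup.map_id F.1 using 2
        ext x; simp [mul_assoc])
      right_inv := fun F => Subtype.ext (by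
        show (F.1.map _).map _ = F.1
        rw [map_map]
        convert Subgroup.map_id F.1 using 2
        ext x; simp [mul_assoc]) }
  map_one' := Equiv.ext fun F => Subtype.ext (by
    show F.1.map _ = F.1
    convert Subgroup.map_id F.1 using 2
    ext x; simp [mul_assoc])
  map_mul' g h := Equiv.ext fun F => Subtype.ext (by
    show F.1.map _ = (F.1.map _).map _
    rw [map_map]
    congr 1
    ext x; simp [mul_assoc])

theorem fourHom_fix {h : ↥(normalizer (L : Set G))} {F : Four L} :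
    fourHom L h F = F ↔ ∀ y, y ∈ F.1 ↔ (h : G) * y * (h : G)⁻¹ ∈ F.1 := by
  rw [Subtype.ext_iff]
  change F.1.map _ = F.1 ↔ _
  constructor
  · intro e y
    conv_rhs => rw [← e]
    rw [mem_map_equiv, MulAut.conj_symm_apply]
    simp [mul_assoc]
  · intro e
    ext y
    rw [mem_map_equiv, MulAut.conj_symm_apply, e]
    simp [mul_assoc]

theorem L_le_normalizer (S : LSet D t a σ L) : L ≤ normalizer (L : Set G) := le_normalizer

theorem A_mem_four (S : LSet D t a σ L) : L ⊓ centralizer ({z} : Set G) ∈ Four L :=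
  ⟨z, S.hzL, D.base.zz, D.base.z_ne_one, rfl⟩

/-- The stabiliser of `A` in `L` has order twelve. -/
theorem card_stab (S : LSet D t a σ L) {H : Subgroup G} (hH : H ≤ L)
    (hfix : ∀ h ∈ H, h * z * h⁻¹ = z ∨ h * z * h⁻¹ = a ∨ h * z * h⁻¹ = z * a)
    (hz : z ∈ H) (ha : a ∈ H) (hσH : σ ∈ H) : Nat.card H = 12 := by
  classical
  haveI := Fintype.ofFinite H
  have h := TSet.orbit_stab H z
  have h3 : (Finset.univ.image fun c : H => (c : G) * z * (c : G)⁻¹).card ≤ 3 := by
    refine le_trans (Finset.card_le_card (t := ({z, a, z * a} : Finset G)) fun y hy => ?_) Finset.card_le_three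
    obtain ⟨c, -, rfl⟩ := Finset.mem_image.mp hy
    simpa using hfix c c.2
  have h4 : Nat.card ↥(H ⊓ centralizer ({z} : Set G)) ≤ 4 := by
    rw [← S.card_A]; exact card_le_of_le (inf_le_inf_right _ hH)
  have h12 := Nat.le_of_dvd Nat.card_pos (S.twelve_dvd hz ha hσH)
  have := Nat.mul_le_mul h3 h4
  omega

theorem exists_equiv_four (S : LSet D t a σ L) (h60 : Nat.card L = 60) :
    Nonempty (Four L ≃ Fin 5) := by
  classical
  haveI : Finite (Four L) := inferInstance
  refine ⟨Finite.equivFinOfCardEq ?_⟩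
  set A := L ⊓ centralizer ({z} : Set G) with hA
  set M := L ⊓ normalizer (A : Set G) with hM
  have hAM : ∀ x ∈ A, ∀ y ∈ A, x * y * x⁻¹ ∈ A := fun x hx y hy => mul_mem (mul_mem hx hy) (inv_mem hx)
  have mA : ∀ {x : G}, x = 1 ∨ x = z ∨ x = a ∨ x = z * a → x ∈ A := fun {x} hx =>
    mem_inf.mpr ((S.hLA x).mpr (S.mem_A_iff.mpr hx) |>.imp_right mem_centralizer_singleton_iff.mpr)
  have hσM : σ ∈ M := by
    refine mem_inf.mpr ⟨S.hσL, ?_⟩
    have hfwd : ∀ y ∈ A, σ * y * σ⁻¹ ∈ A := by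
      intro y hy
      have := S.sig_A ((S.hLA y).mp ⟨(mem_inf.mp hy).1, mem_centralizer_singleton_iff.mp (mem_inf.mp hy).2⟩)
      exact mA (S.mem_A_iff.mp this)
    refine mem_normalizer_iff.mpr fun y => ⟨hfwd y, fun hy => ?_⟩
    have := hfwd _ (hfwd _ hy)
    rwa [S.sig_cube] at this
  have hM12 : Nat.card M = 12 := by
    refine S.card_stab inf_le_left (fun h hh => ?_) ?_ ?_ hσM
    · have hm := (mem_normalizer_iff.mp (mem_inf.mp hh).2 z).mp (mA (Or.inr (Or.inl rfl)))
      rcases S.inL_cases (mem_inf.mp hm).1 (mem_centralizer_singleton_iff.mp (mem_inf.mp hm).2) with e | e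
      · exact absurd (conj_eq_one_iff.mp e) D.base.z_ne_one
      · exact e
    · exact mem_inf.mpr ⟨S.hzL, le_normalizer (mA (by simp))⟩
    · exact mem_inf.mpr ⟨S.haL, le_normalizer (mA (by simp))⟩
  let f : L ⧸ M.subgroupOf L → Four L := Quotient.lift
    (fun l => (⟨A.map (MulAut.conj (l : G)).toMonoidHom, four_smul (le_normalizer l.2) S.A_mem_four⟩ : Four L))
    (fun x y hxy => by
      have h := QuotientGroup.leftRel_apply.mp hxy
      rw [mem_subgroupOf] at h
      apply Subtype.ext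
      have hn := (mem_inf.mp h).2
      push_cast at hn
      show A.map _ = A.map _
      ext w
      rw [mem_map_equiv, mem_map_equiv, MulAut.conj_symm_apply, MulAut.conj_symm_apply,
        mem_normalizer_iff.mp (inv_mem hn) ((x : G)⁻¹ * w * (x : G))]
      simp [mul_assoc])
  have hf : Function.Bijective f := by
    constructor
    · rintro ⟨x⟩ ⟨y⟩ e
      apply Quotient.sound
      apply QuotientGroup.leftRel_apply.mpr
      rw [mem_subgroupOf]
      refine mem_inf.mpr ⟨(x⁻¹ * y).2, mem_normalizer_iff.mpr fun w => ?_⟩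
      have e' : A.map (MulAut.conj (x : G)).toMonoidHom = A.map (MulAut.conj (y : G)).toMonoidHom :=
        congrArg Subtype.val e
      have := SetLike.ext_iff.mp e' ((y : G) * w * (y : G)⁻¹)
      rw [mem_map_equiv, mem_map_equiv, MulAut.conj_symm_apply, MulAut.conj_symm_apply] at this
      push_cast
      simp only [mul_assoc, inv_mul_cancel_left, inv_mul_cancel, mul_one] at this
      rw [← this]
      simp [mul_assoc]
    · rintro ⟨F, x, hx, hxx, hx1, rfl⟩
      obtain ⟨l, hl, rfl⟩ := S.L_invol_conj hx hxx hx1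
      refine ⟨QuotientGroup.mk ⟨l, hl⟩, Subtype.ext ?_⟩
      show A.map _ = _
      ext y
      rw [mem_map_equiv, MulAut.conj_symm_apply, mem_inf, mem_inf, mem_centralizer_singleton_iff,
        mem_centralizer_singleton_iff]
      refine and_congr ⟨fun h => ?_, fun h => mul_mem (mul_mem (inv_mem hl) h) hl⟩
        ⟨fun e => ?_, fun e => ?_⟩
      · simpa [mul_assoc] using mul_mem (mul_mem hl h) (inv_mem hl)
      · calc y * (l * z * l⁻¹) = l * (l⁻¹ * y * l * z) * l⁻¹ := by group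
          _ = l * (z * (l⁻¹ * y * l)) * l⁻¹ := by rw [e]
          _ = _ := by group
      · calc l⁻¹ * y * l * z = l⁻¹ * (y * (l * z * l⁻¹)) * l := by group
          _ = l⁻¹ * (l * z * l⁻¹ * y) * l := by rw [e]
          _ = _ := by group
  rw [← Nat.card_congr (Equiv.ofBijective f hf), ← index_eq_card]
  have h := (M.subgroupOf L).card_mul_index
  rw [Nat.card_congr (subgroupOfEquivOfLe inf_le_left).toEquiv, hM12, h60] at h
  omega

/-- `L` acts faithfully on the five four-groups. -/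
theorem fourHom_injective (S : LSet D t a σ L) (h60 : Nat.card L = 60) {l : ↥(normalizer (L : Set G))}
    (hl : (l : G) ∈ L) (h : fourHom L l = 1) : l = 1 := by
  classical
  set A := L ⊓ centralizer ({z} : Set G) with hA
  set R := L ⊓ (fourHom L).ker.map (normalizer (L : Set G)).subtype with hR
  have hRn : ∀ m ∈ L, ∀ r ∈ R, m * r * m⁻¹ ∈ R := by
    intro m hm r hr
    obtain ⟨hr1, r', hr', rfl⟩ := mem_inf.mp hr
    set M : ↥(normalizer (L : Set G)) := ⟨m, le_normalizer hm⟩
    have hk : M * r' * M⁻¹ ∈ (fourHom L).ker :=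
      (MonoidHom.normal_ker (fourHom L)).conj_mem r' hr' M
    exact mem_inf.mpr ⟨mul_mem (mul_mem hm hr1) (inv_mem hm),
      Subgroup.mem_map.mpr ⟨M * r' * M⁻¹, hk, by simp [M]⟩⟩
  suffices hR1 : R = ⊥ by
    have : (l : G) ∈ R := mem_inf.mpr ⟨hl, l, h, rfl⟩
    rw [hR1, mem_bot] at this
    exact Subtype.ext this
  have hRfix : ∀ r ∈ R, r * z * r⁻¹ = z ∨ r * z * r⁻¹ = a ∨ r * z * r⁻¹ = z * a := by
    intro r hr
    obtain ⟨-, r', hr', rfl⟩ := mem_inf.mp hr
    have e : fourHom L r' ⟨A, S.A_mem_four⟩ = ⟨A, S.A_mem_four⟩ := by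
      rw [show fourHom L r' = 1 from hr']; rfl
    have := (fourHom_fix.mp e z).mp (mem_inf.mpr ⟨S.hzL, mem_centralizer_singleton_iff.mpr rfl⟩)
    rcases S.inL_cases (mem_inf.mp this).1 (mem_centralizer_singleton_iff.mp (mem_inf.mp this).2) with e | e
    · exact absurd (conj_eq_one_iff.mp e) D.base.z_ne_one
    · exact e
  -- no involution
  have hRodd : ∀ r ∈ R, r * r = 1 → r = 1 := by
    intro r hr hrr
    by_contra hr1
    obtain ⟨m, hm, e⟩ := S.L_invol_conj (mem_inf.mp hr).1 hrr hr1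
    have hzR : z ∈ R := by
      have := hRn _ (inv_mem hm) r hr
      rw [← e] at this
      simpa [mul_assoc] using this
    have hsub : ∀ x ∈ L, x * x = 1 → x ∈ R := by
      intro x hx hxx
      by_cases hx1 : x = 1
      · rw [hx1]; exact one_mem _
      · obtain ⟨k, hk, rfl⟩ := S.L_invol_conj hx hxx hx1
        exact hRn k hk z hzR
    haveI := Fintype.ofFinite R
    have hle : Nat.card R ≤ 12 := by
      have h := TSet.orbit_stab R z
      have h3 : (Finset.univ.image fun c : R => (c : G) * z * (c : G)⁻¹).card ≤ 3 := by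
        refine le_trans (Finset.card_le_card (t := ({z, a, z * a} : Finset G)) fun y hy => ?_) Finset.card_le_three
        obtain ⟨c, -, rfl⟩ := Finset.mem_image.mp hy
        simpa using hRfix c c.2
      have h4 : Nat.card ↥(R ⊓ centralizer ({z} : Set G)) ≤ 4 := by
        rw [← S.card_A]; exact card_le_of_le (inf_le_inf_right _ inf_le_left)
      have := Nat.mul_le_mul h3 h4
      omega
    rcases S.card_L with h' | ⟨-, h15⟩
    · omega
    · have : Nat.card {x : L // orderOf x = 2} ≤ Nat.card R := by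
        refine Nat.card_le_card_of_injective (fun x => (⟨(x.1 : G), hsub _ x.1.2 ?_⟩ : R)) ?_
        · have h := pow_orderOf_eq_one (x.1 : G)
          rw [orderOf_coe, x.2, pow_two] at h
          exact h
        · intro x y e
          exact Subtype.ext (Subtype.ext (congrArg (fun w : R => (w : G)) e))
      omega
  haveI := Fintype.ofFinite R
  rw [eq_bot_iff]
  intro r hr
  rw [mem_bot]
  have ho := TSet.orbit_stab R z
  have hst : R ⊓ centralizer ({z} : Set G) = ⊥ := by
    rw [eq_bot_iff]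
    intro x hx
    rw [mem_bot]
    exact hRodd x (mem_inf.mp hx).1 (S.cen_sq (mem_centralizer_singleton_iff.mp (mem_inf.mp hx).2)
      (S.L_comm_t (mem_inf.mp (mem_inf.mp hx).1).1))
  rw [hst, card_bot, mul_one] at ho
  -- an element moving `z` would give an involution
  rcases hRfix r hr with e | e | e
  · have := mem_inf.mpr ⟨hr, mem_centralizer_singleton_iff.mpr (mul_inv_eq_iff_eq_mul.mp e)⟩
    rwa [hst, mem_bot] at this
  all_goals
    exfalso
    have hzr : z * r * z⁻¹ ∈ R := hRn z S.hzL r hr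
    have hc : z * r * z⁻¹ * r⁻¹ = z * (r * z * r⁻¹) := by rw [D.base.z_inv]; group
    have hm := mul_mem hzr (inv_mem hr)
    rw [hc, e] at hm
  · exact S.za_ne.1 (hRodd _ hm S.za_sq)
  · rw [D.base.mulZ_inv] at hm
    exact S.a_ne.1 (hRodd _ hm S.aa)

/-- The split off four-group. -/
theorem bGroup_props (S : LSet D t a σ L) :
    (∀ b ∈ bGroup z t σ, b ∈ L → b = 1) ∧
    (∀ k : G, k * t = t * k → ∃ l ∈ L, ∃ b ∈ bGroup z t σ, k = l * b) ∧
    (∀ b ∈ bGroup z t σ, ∀ l ∈ L, b * l = l * b) ∧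
    Nat.card (bGroup z t σ) = 4 ∧ t ∈ bGroup z t σ := by
  classical
  have h1 : ∀ b ∈ bGroup z t σ, b ∈ L → b = 1 := by
    intro b hb hbL
    obtain ⟨hz, -, hσ⟩ := mem_bGroup.mp hb
    have e : σ * b * σ⁻¹ = b := by rw [← hσ, mul_inv_cancel_right]
    rcases S.inL_cases hbL hz with r | r | r | r <;> rw [r] at e ⊢
    · rw [S.hσz] at e; exact absurd e S.a_ne.2
    · rw [S.hσa] at e; exact absurd e S.za_ne.2.2
    · rw [S.sig_za] at e; exact absurd e.symm S.za_ne.2.1
  have h2 : ∀ k : G, k * t = t * k → ∃ l ∈ L, ∃ b ∈ bGroup z t σ, k = l * b := by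
    intro k hk
    obtain ⟨l, hl, e, hez, het, rfl⟩ := S.hcov k hk
    obtain ⟨k1, k2⟩ := S.sig_E hez het
    obtain ⟨m1, m2⟩ := S.sig_E k1 k2
    set b := e * (σ * e * σ⁻¹) * (σ * (σ * e * σ⁻¹) * σ⁻¹) with hb
    have hbB : b ∈ bGroup z t σ := by
      refine mem_bGroup.mpr ⟨Commute.mul_left (Commute.mul_left hez k1) m1,
        Commute.mul_left (Commute.mul_left het k2) m2, ?_⟩
      symm
      rw [← mul_inv_eq_iff_eq_mul, hb,
        show σ * (e * (σ * e * σ⁻¹) * (σ * (σ * e * σ⁻¹) * σ⁻¹)) * σ⁻¹ =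
          (σ * e * σ⁻¹) * (σ * (σ * e * σ⁻¹) * σ⁻¹) * (σ * (σ * (σ * e * σ⁻¹) * σ⁻¹) * σ⁻¹) by group,
        S.sig_cube]
      exact (S.cen_comm (Commute.mul_left k1 m1) (Commute.mul_left k2 m2) hez het).trans (mul_assoc _ _ _).symm
    clear_value b
    refine ⟨l * (e * b⁻¹), mul_mem hl ?_, b, hbB, by group⟩
    have := S.sig_mod k1 k2
    have hb' : b⁻¹ = b := inv_eq_of_mul_eq_one_left (S.cen_sq (mem_bGroup.mp hbB).1 (mem_bGroup.mp hbB).2.1)
    rw [hb', hb, mul_assoc e, ← mul_assoc e e, S.cen_sq hez het, one_mul]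
    rw [S.cen_comm k1 k2 m1 m2]
    exact ((S.hLA _).mpr this).1
  have h3 : ∀ b ∈ bGroup z t σ, ∀ l ∈ L, b * l = l * b := by
    intro b hb l hl
    obtain ⟨hbz, hbt, hbσ⟩ := mem_bGroup.mp hb
    have hba : b * a = a * b := S.cen_comm hbz hbt S.a_E.1 S.a_E.2
    rcases S.card_L with ⟨h12, -⟩ | ⟨h60, -⟩
    · have hle : L ⊓ centralizer ({b} : Set G) = L := by
        refine eq_of_le_of_card_ge inf_le_left ?_
        rw [h12]
        exact Nat.le_of_dvd Nat.card_pos (S.twelve_dvd
          (mem_inf.mpr ⟨S.hzL, mem_centralizer_singleton_iff.mpr hbz.symm⟩)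
          (mem_inf.mpr ⟨S.haL, mem_centralizer_singleton_iff.mpr hba.symm⟩)
          (mem_inf.mpr ⟨S.hσL, mem_centralizer_singleton_iff.mpr hbσ.symm⟩))
      exact (mem_centralizer_singleton_iff.mp (hle.ge hl).2).symm
    · obtain ⟨ε⟩ := S.exists_equiv_four h60
      have hbn : b ∈ normalizer (L : Set G) := mem_normalizer_iff.mpr fun x =>
        ⟨fun hx => S.hnorm b hbt x hx, fun hx => by
          have := S.hnorm b⁻¹ (Commute.inv_left hbt) _ hx
          simpa [mul_assoc] using this⟩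
      let π : ↥(normalizer (L : Set G)) →* Equiv.Perm (Fin 5) := (ε.permCongrHom.toMonoidHom).comp (fourHom L)
      have hinj : ∀ x : ↥(normalizer (L : Set G)), (x : G) ∈ L → π x = 1 → x = 1 := fun x hx e =>
        S.fourHom_injective h60 hx (ε.permCongrHom.injective (e.trans (map_one _).symm))
      set n : G → ↥(normalizer (L : Set G)) := fun x => if hx : x ∈ L then ⟨x, le_normalizer hx⟩ else 1
      have hn : ∀ x ∈ L, (n x : G) = x := fun x hx => by simp [n, hx]
      have hz1 : π (n z) ≠ 1 := fun e => D.base.z_ne_one (by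
        have := hinj _ (by rw [hn z S.hzL]; exact S.hzL) e
        rw [← hn z S.hzL, this]; rfl)
      have hs1 : π (n σ) ≠ 1 := fun e => S.L_ne_bot (by
        have := hinj _ (by rw [hn σ S.hσL]; exact S.hσL) e
        rw [← hn σ S.hσL, this]; rfl)
      have hzz : n z * n z = 1 := Subtype.ext (by push_cast; rw [hn z S.hzL, D.base.zz])
      have hs3 : n σ ^ 3 = 1 := Subtype.ext (by
        push_cast; rw [hn σ S.hσL, ← S.hσ, pow_orderOf_eq_one])
      have hsz3 : (n σ * n z) ^ 3 = 1 := Subtype.ext (by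
        push_cast
        rw [hn σ S.hσL, hn z S.hzL]
        calc (σ * z) ^ 3 = (σ * z * σ⁻¹) * (σ * (σ * z * σ⁻¹) * σ⁻¹) *
              (σ * (σ * (σ * z * σ⁻¹) * σ⁻¹) * σ⁻¹) * σ ^ 3 := by simp [pow_three, mul_assoc]
          _ = 1 := by
            rw [S.sig_cube, S.hσz, S.hσa, ← S.hσ, pow_orderOf_eq_one, mul_one, ← mul_assoc a, S.az,
              mul_assoc z, S.aa, mul_one, D.base.zz])
      have hsign : Equiv.Perm.sign (π (n z)) = 1 := by
        have e : π (n z) = π (n σ)⁻¹ * π (n a) * π (n σ) := by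
          rw [← map_mul, ← map_mul]
          congr 1
          apply Subtype.ext
          push_cast
          rw [hn z S.hzL, hn σ S.hσL, hn a S.haL, ← S.hσz]; group
        have hcomm : n (z * a) = n z * n a := Subtype.ext (by
          push_cast; rw [hn _ (mul_mem S.hzL S.haL), hn z S.hzL, hn a S.haL])
        have e2 : π (n a) = π (n σ)⁻¹ * π (n (z * a)) * π (n σ) := by
          rw [← map_mul, ← map_mul]
          congr 1
          apply Subtype.ext
          push_cast
          rw [hn a S.haL, hn σ S.hσL, hn _ (mul_mem S.hzL S.haL), ← S.hσa]; group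
        have s1 : Equiv.Perm.sign (π (n z)) = Equiv.Perm.sign (π (n a)) := by
          rw [e, map_inv, map_mul, map_mul, map_inv, mul_comm, mul_inv_cancel_left]
        have s2 : Equiv.Perm.sign (π (n a)) =
            Equiv.Perm.sign (π (n z)) * Equiv.Perm.sign (π (n a)) := by
          conv_lhs => rw [e2, map_inv, map_mul, map_mul, map_inv, mul_comm, mul_inv_cancel_left,
            hcomm, map_mul, map_mul]
        exact mul_eq_right.mp s2.symm
      have hπb : π ⟨b, hbn⟩ = 1 := by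
        refine perm5_a4 (π (n z)) (by rw [← map_mul, hzz, map_one]) hz1 hsign (π (n σ))
          (by rw [← map_pow, hs3, map_one]) hs1 (by rw [← map_mul, ← map_pow, hsz3, map_one]) _ ?_ ?_
        · rw [← map_mul, ← map_mul]; congr 1; apply Subtype.ext; push_cast; rw [hn z S.hzL]; exact hbz
        · rw [← map_mul, ← map_mul]; congr 1; apply Subtype.ext; push_cast; rw [hn σ S.hσL]; exact hbσ
      have hmem : b * l * b⁻¹ * l⁻¹ ∈ L := mul_mem (S.hnorm b hbt l hl) (inv_mem hl)
      have := hinj (⟨b, hbn⟩ * n l * ⟨b, hbn⟩⁻¹ * (n l)⁻¹) (by push_cast; rw [hn l hl]; exact hmem)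
        (by rw [map_mul, map_mul, map_mul, map_inv, map_inv, hπb]; simp)
      have e := congrArg Subtype.val this
      push_cast at e
      rw [hn l hl] at e
      calc b * l = (b * l * b⁻¹ * l⁻¹) * (l * b) := by group
        _ = l * b := by rw [e, one_mul]
  have htB : t ∈ bGroup z t σ := mem_bGroup.mpr ⟨S.htc, rfl, S.hσt.symm⟩
  refine ⟨h1, h2, h3, ?_, htB⟩
  let f : L × bGroup z t σ → centralizer ({t} : Set G) := fun p =>
    ⟨(p.1 : G) * p.2, mem_centralizer_singleton_iff.mpr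
      (Commute.mul_left (S.L_comm_t p.1.2) (mem_bGroup.mp p.2.2).2.1)⟩
  have hf : Function.Bijective f := by
    constructor
    · rintro ⟨l, b⟩ ⟨l', b'⟩ e
      have e' : (l : G) * b = (l' : G) * b' := congrArg Subtype.val e
      have hb : (b : G) * (b' : G)⁻¹ = 1 := by
        refine h1 _ (mul_mem b.2 (inv_mem b'.2)) ?_
        rw [show (b : G) * (b' : G)⁻¹ = (l : G)⁻¹ * ((l : G) * b) * (b' : G)⁻¹ by group, e']
        simpa [mul_assoc] using mul_mem (inv_mem l.2) l'.2
      have hbb : (b : G) = b' := mul_inv_eq_one.mp hb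
      rw [hbb] at e'
      exact Prod.ext (Subtype.ext (mul_right_cancel e')) (Subtype.ext hbb)
    · rintro ⟨k, hk⟩
      obtain ⟨l, hl, b, hb, rfl⟩ := h2 k (mem_centralizer_singleton_iff.mp hk)
      exact ⟨(⟨l, hl⟩, ⟨b, hb⟩), Subtype.ext rfl⟩
  have := Nat.card_congr (Equiv.ofBijective f hf)
  rw [Nat.card_prod, S.hcard] at this
  have : 0 < Nat.card L := Nat.card_pos
  nlinarith

end LSet

end Cfsg.Agent.H43.JTwo
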