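import Cfsg.Agent.H43.JTwo.CentT
import Cfsg.Agent.H25.Transfer

/-!
The normal subgroup `L` of index four in `C(t)`.
-/

set_option autoImplicit false
set_option linter.style.haveILetI false
set_option linter.unusedSectionVars false
set_option linter.unusedSimpArgs false
set_option synthInstance.maxSize 4000

namespace Cfsg.Agent.H43.JTwo

open Subgroup
open scoped commutatorElement

variable {G : Type*} [Group G] [Finite G] {z : G} {Q : Subgroup G} {D : JSet z Q} {t a : G}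

/-- `C(t)` data: a three-element `σ` cycling `A`. -/
structure SigmaSet (D : JSet z Q) (t a σ : G) : Prop extends TSet D t a where
  hσ : orderOf σ = 3
  hσt : σ * t = t * σ
  hσz : σ * z * σ⁻¹ = a
  hσa : σ * a * σ⁻¹ = z * a

theorem JSet.exists_sigmaSet (D : JSet z Q) {t : G} (ht : t * t = 1) (htc : t * z = z * t)
    (htQ : t ∉ Q) : ∃ a σ, SigmaSet D t a σ := by
  obtain ⟨a, T⟩ := D.exists_tset ht htc htQ
  obtain ⟨σ, h1, h2, h3, h4⟩ := T.exists_sigma
  exact ⟨a, σ, T, h1, h2, h3, h4⟩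

namespace SigmaSet

variable {σ : G}

/-- Membership in `A`. -/
theorem mem_A_iff (S : SigmaSet D t a σ) {x : G} :
    x ∈ Q ⊓ centralizer ({t} : Set G) ↔ x = 1 ∨ x = z ∨ x = a ∨ x = z * a := by
  obtain ⟨i, hai, hi⟩ := S.ha
  rw [mem_inf, mem_centralizer_singleton_iff]
  constructor
  · rintro ⟨h1, h2⟩
    rw [← hai]
    exact (D.commute_iff_t S.ht S.htc S.htQ hi h1).mp h2.symm
  · intro h
    have hxQ : x ∈ Q := by
      rcases h with rfl | rfl | rfl | rfl
      exacts [one_mem _, D.base.hzQ, S.a_mem, mul_mem D.base.hzQ S.a_mem]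
    rw [← hai] at h
    exact ⟨hxQ, ((D.commute_iff_t S.ht S.htc S.htQ hi hxQ).mpr h).symm⟩

theorem sig_za (S : SigmaSet D t a σ) : σ * (z * a) * σ⁻¹ = z := by
  rw [show σ * (z * a) * σ⁻¹ = (σ * z * σ⁻¹) * (σ * a * σ⁻¹) by group, S.hσz, S.hσa, ← mul_assoc,
    S.az, mul_assoc, S.aa, mul_one]

theorem sig_cube (S : SigmaSet D t a σ) (x : G) : σ * (σ * (σ * x * σ⁻¹) * σ⁻¹) * σ⁻¹ = x := by
  have h : σ * σ * σ = 1 := by
    have h := pow_orderOf_eq_one σ
    rw [S.hσ, pow_three] at h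
    rwa [mul_assoc]
  rw [show σ * (σ * (σ * x * σ⁻¹) * σ⁻¹) * σ⁻¹ = (σ * σ * σ) * x * (σ * σ * σ)⁻¹ by group, h]; group

theorem sig_A (S : SigmaSet D t a σ) {x : G} (hx : x ∈ Q ⊓ centralizer ({t} : Set G)) :
    σ * x * σ⁻¹ ∈ Q ⊓ centralizer ({t} : Set G) := by
  rw [S.mem_A_iff] at hx ⊢
  rcases hx with rfl | rfl | rfl | rfl
  · exact Or.inl (by group)
  · exact Or.inr (Or.inr (Or.inl S.hσz))
  · exact Or.inr (Or.inr (Or.inr S.hσa))
  · exact Or.inr (Or.inl S.sig_za)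

theorem mem_E {x : G} :
    x ∈ centralizer ({z} : Set G) ⊓ centralizer ({t} : Set G) ↔ x * z = z * x ∧ x * t = t * x := by
  rw [mem_inf, mem_centralizer_singleton_iff, mem_centralizer_singleton_iff]

theorem a_E (S : SigmaSet D t a σ) : a * z = z * a ∧ a * t = t * a := ⟨S.az, S.ta.symm⟩

theorem za_E (S : SigmaSet D t a σ) : (z * a) * z = z * (z * a) ∧ (z * a) * t = t * (z * a) :=
  ⟨Commute.mul_left rfl S.az, Commute.mul_left S.htc.symm S.ta.symm⟩

theorem sig_E (S : SigmaSet D t a σ) {x : G} (hz : x * z = z * x) (ht : x * t = t * x) :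
    σ * x * σ⁻¹ * z = z * (σ * x * σ⁻¹) ∧ σ * x * σ⁻¹ * t = t * (σ * x * σ⁻¹) := by
  have hxa : x * (z * a) = (z * a) * x := S.cen_comm hz ht S.za_E.1 S.za_E.2
  constructor
  · calc σ * x * σ⁻¹ * z = σ * x * σ⁻¹ * (σ * (z * a) * σ⁻¹) := by rw [S.sig_za]
      _ = σ * (x * (z * a)) * σ⁻¹ := by group
      _ = σ * (z * a * x) * σ⁻¹ := by rw [hxa]
      _ = (σ * (z * a) * σ⁻¹) * (σ * x * σ⁻¹) := by group
      _ = _ := by rw [S.sig_za]
  · exact Commute.mul_left (Commute.mul_left S.hσt ht) (Commute.inv_left S.hσt)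

/-- `σ` acts trivially on `E / A`. -/
theorem sig_mod (S : SigmaSet D t a σ) {x : G} (hz : x * z = z * x) (ht : x * t = t * x) :
    σ * x * σ⁻¹ * x ∈ Q ⊓ centralizer ({t} : Set G) := by
  obtain ⟨i, -, hi⟩ := S.ha
  set τ := D.pm t with hτd
  have hτ := D.pm_inv5 S.ht S.htc S.htQ
  have hττ : τ * τ = 1 := hτ.2.1
  obtain ⟨τ', hτ', hcomm, hne⟩ := Coord.inv5_partner _ hτ
  obtain ⟨hτ'', -⟩ := Coord.inv5_cen _ _ hτ hτ' hcomm hne
  have mem : ∀ y : G, y * z = z * y → y * t = t * y →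
      D.pm y = 1 ∨ D.pm y = τ ∨ D.pm y = τ' ∨ D.pm y = τ * τ' := fun y h1 h2 =>
    Coord.inv5_cen_all _ _ hτ hτ' hcomm hne _ (D.pm_even h1)
      (by rw [← D.pm_mul h1 S.htc, h2, D.pm_mul S.htc h1])
  -- elements with trivial image lie in `A`
  have inA : ∀ y : G, y * z = z * y → y * t = t * y → D.pm y = 1 →
      y ∈ Q ⊓ centralizer ({t} : Set G) := fun y h1 h2 h3 =>
    mem_inf.mpr ⟨D.mem_of_pm_eq_one h1 h3, mem_centralizer_singleton_iff.mpr h2⟩
  have f1 : ∀ y : G, y * z = z * y → y * t = t * y → D.pm y = 1 → D.pm (σ * y * σ⁻¹) = 1 := fun y h1 h2 h3 =>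
    D.pm_of_mem (mem_inf.mp (S.sig_A (inA y h1 h2 h3))).1
  have fτ : ∀ y : G, y * z = z * y → y * t = t * y →
      D.pm (σ * (t * y) * σ⁻¹) = τ * D.pm (σ * y * σ⁻¹) := fun y h1 h2 => by
    rw [show σ * (t * y) * σ⁻¹ = (σ * t * σ⁻¹) * (σ * y * σ⁻¹) by group,
      show σ * t * σ⁻¹ = t by rw [S.hσt, mul_inv_cancel_right], D.pm_mul S.htc (S.sig_E h1 h2).1]
  have two : ∀ y : G, y * z = z * y → y * t = t * y → D.pm y = τ → D.pm (σ * y * σ⁻¹) = τ := by
    intro y h1 h2 h3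
    have h1' : t * y * z = z * (t * y) := Commute.mul_left S.htc h1
    have := f1 (t * y) h1' (Commute.mul_left rfl h2) (by rw [D.pm_mul S.htc h1, h3, hττ])
    rw [fτ y h1 h2] at this
    exact (mul_eq_one_iff_eq_inv'.mp this).trans (inv_eq_of_mul_eq_one_left hττ)
  have small : ∀ y : G, y * z = z * y → y * t = t * y → (D.pm y = 1 ∨ D.pm y = τ) →
      D.pm (σ * y * σ⁻¹) = D.pm y := by
    intro y h1 h2 h3
    rcases h3 with e | e
    · rw [e, f1 y h1 h2 e]
    · rw [e, two y h1 h2 e]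
  have big : ∀ y : G, y * z = z * y → y * t = t * y →
      (D.pm (σ * y * σ⁻¹) = 1 ∨ D.pm (σ * y * σ⁻¹) = τ) → D.pm y = D.pm (σ * y * σ⁻¹) := by
    intro y h1 h2 h3
    obtain ⟨k1, k2⟩ := S.sig_E h1 h2
    obtain ⟨l1, l2⟩ := S.sig_E k1 k2
    have e1 := small _ k1 k2 h3
    have e2 := small _ l1 l2 (e1.symm ▸ h3)
    rw [S.sig_cube, e1] at e2
    exact e2
  have hY : D.pm (σ * x * σ⁻¹) = D.pm x ∨ D.pm (σ * x * σ⁻¹) = τ * D.pm x := by
    obtain ⟨k1, k2⟩ := S.sig_E hz ht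
    rcases mem x hz ht with e | e | e | e <;> rcases mem _ k1 k2 with e' | e' | e' | e'
    all_goals first
      | exact Or.inl (small x hz ht (Or.inl e))
      | exact Or.inl (small x hz ht (Or.inr e))
      | exact Or.inl (big x hz ht (Or.inl e')).symm
      | exact Or.inl (big x hz ht (Or.inr e')).symm
      | exact Or.inl (e'.trans e.symm)
      | (right; rw [e', e, ← mul_assoc, hττ, one_mul])
      | (right; rw [e', e])
  have hres : D.pm (σ * x * σ⁻¹) = D.pm x := by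
    rcases hY with e | e
    · exact e
    · exfalso
      obtain ⟨k1, k2⟩ := S.sig_E hz ht
      -- `σ x = t x α`
      set α := (t * x)⁻¹ * (σ * x * σ⁻¹) with hα
      have hαz : α * z = z * α := Commute.mul_left (Commute.inv_left (Commute.mul_left S.htc hz)) k1
      have hαt : α * t = t * α := Commute.mul_left (Commute.inv_left (Commute.mul_left rfl ht)) k2
      have hα1 : D.pm α = 1 := by
        rw [hα, D.pm_mul (Commute.inv_left (Commute.mul_left S.htc hz)) k1,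
          D.pm_inv (Commute.mul_left S.htc hz), D.pm_mul S.htc hz, e, inv_mul_cancel]
      have hαA := inA α hαz hαt hα1
      have hsx : σ * x * σ⁻¹ = t * x * α := by rw [hα, mul_inv_cancel_left]
      have hσ2 : σ * (σ * x * σ⁻¹) * σ⁻¹ = x * (α * (σ * α * σ⁻¹)) := by
        calc σ * (σ * x * σ⁻¹) * σ⁻¹ = σ * (t * x * α) * σ⁻¹ := by rw [hsx]
          _ = (σ * t * σ⁻¹) * (σ * x * σ⁻¹) * (σ * α * σ⁻¹) := by group
          _ = t * (t * x * α) * (σ * α * σ⁻¹) := by rw [S.hσt, mul_inv_cancel_right, hsx]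
          _ = _ := by
            simp only [← mul_assoc, S.ht, one_mul]
      have hβ := mul_mem hαA (S.sig_A hαA)
      have h3 := S.sig_cube x
      rw [hσ2, show σ * (x * (α * (σ * α * σ⁻¹))) * σ⁻¹ =
        (σ * x * σ⁻¹) * (σ * (α * (σ * α * σ⁻¹)) * σ⁻¹) by group] at h3
      have hm := mem_inf.mp (S.sig_A hβ)
      have := congrArg D.pm h3
      rw [D.pm_mul k1 (D.base.zc hm.1), D.pm_of_mem hm.1, mul_one, e] at this
      exact hτ.1 (mul_eq_right.mp this)
  obtain ⟨k1, k2⟩ := S.sig_E hz ht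
  refine inA _ (Commute.mul_left k1 hz) (Commute.mul_left k2 ht) ?_
  rw [D.pm_mul k1 hz, hres, ← D.pm_mul hz hz, S.cen_sq hz ht, D.pm_one]

/-- The normaliser of `E` in `C(t)` is `E⟨σ⟩`, and induces nothing new modulo `A`. -/
theorem norm_E (S : SigmaSet D t a σ) {n : G} (hn : n * t = t * n)
    (hnE : ∀ x, x * z = z * x → x * t = t * x → n * x * n⁻¹ * z = z * (n * x * n⁻¹))
    {x : G} (hz : x * z = z * x) (ht : x * t = t * x) :
    n * x * n⁻¹ * x ∈ Q ⊓ centralizer ({t} : Set G) := by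
  have hxx : x * x = 1 := S.cen_sq hz ht
  have fix : ∀ m : G, m * t = t * m → m * z = z * m → m * x * m⁻¹ = x := fun m h1 h2 => by
    rw [S.cen_comm h2 h1 hz ht, mul_inv_cancel_right]
  have hnz : n * z * n⁻¹ = z ∨ n * z * n⁻¹ = a ∨ n * z * n⁻¹ = z * a :=
    S.ztype_cases (hnE z rfl S.htc.symm) (Commute.mul_left (Commute.mul_left hn S.htc.symm) (Commute.inv_left hn))
      (isConj_iff.mpr ⟨n, rfl⟩)
  rcases hnz with e | e | e
  · rw [fix n hn (mul_inv_eq_iff_eq_mul.mp e), hxx]; exact one_mem _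
  · -- `σ⁻¹ n` fixes `z`
    have h1 : σ⁻¹ * n * t = t * (σ⁻¹ * n) := Commute.mul_left (Commute.inv_left S.hσt) hn
    have h2 : σ⁻¹ * n * z = z * (σ⁻¹ * n) := by
      rw [← mul_inv_eq_iff_eq_mul, show σ⁻¹ * n * z * (σ⁻¹ * n)⁻¹ = σ⁻¹ * (n * z * n⁻¹) * σ by group,
        e, ← S.hσz]; group
    have := fix _ h1 h2
    rw [show n * x * n⁻¹ = σ * ((σ⁻¹ * n) * x * (σ⁻¹ * n)⁻¹) * σ⁻¹ by group, this]
    exact S.sig_mod hz ht
  · obtain ⟨k1, k2⟩ := S.sig_E hz ht
    have h1 : (σ * σ)⁻¹ * n * t = t * ((σ * σ)⁻¹ * n) :=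
      Commute.mul_left (Commute.inv_left (Commute.mul_left S.hσt S.hσt)) hn
    have h2 : (σ * σ)⁻¹ * n * z = z * ((σ * σ)⁻¹ * n) := by
      rw [← mul_inv_eq_iff_eq_mul, show (σ * σ)⁻¹ * n * z * ((σ * σ)⁻¹ * n)⁻¹ =
        σ⁻¹ * (σ⁻¹ * (n * z * n⁻¹) * σ) * σ by simp only [mul_inv_rev, inv_inv, mul_assoc],
        e, ← S.hσa, ← S.hσz]
      simp only [mul_assoc, inv_mul_cancel_left, inv_mul_cancel, mul_one]
    have := fix _ h1 h2
    rw [show n * x * n⁻¹ = σ * (σ * (((σ * σ)⁻¹ * n) * x * ((σ * σ)⁻¹ * n)⁻¹) * σ⁻¹) * σ⁻¹ by group, this]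
    have e2 := S.sig_mod k1 k2
    have e1 := S.sig_mod hz ht
    have := mul_mem e2 e1
    rwa [show σ * (σ * x * σ⁻¹) * σ⁻¹ * (σ * x * σ⁻¹) * (σ * x * σ⁻¹ * x) =
      σ * (σ * x * σ⁻¹) * σ⁻¹ * ((σ * x * σ⁻¹) * (σ * x * σ⁻¹)) * x by group,
      S.cen_sq k1 k2, mul_one] at this

/-- The normal subgroup of index four. -/
theorem exists_L (S : SigmaSet D t a σ) :
    ∃ L : Subgroup G, L ≤ centralizer ({t} : Set G) ∧
      (∀ k : G, k * t = t * k → ∀ l ∈ L, k * l * k⁻¹ ∈ L) ∧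
      (∀ x : G, x ∈ L ∧ x * z = z * x ↔ x ∈ Q ⊓ centralizer ({t} : Set G)) ∧
      σ ∈ L ∧ Nat.card ↥(centralizer ({t} : Set G)) = 4 * Nat.card L ∧
      ∀ k : G, k * t = t * k → ∃ l ∈ L, ∃ e : G, e * z = z * e ∧ e * t = t * e ∧ k = l * e := by
  haveI : Fact (Nat.Prime 2) := ⟨Nat.prime_two⟩
  set K := centralizer ({t} : Set G) with hK
  set E := (centralizer ({z} : Set G)).subgroupOf K with hE
  have mE : ∀ {x : K}, x ∈ E ↔ (x : G) * z = z * x := fun {x} => by
    rw [hE, mem_subgroupOf, mem_centralizer_singleton_iff]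
  have mK : ∀ x : K, (x : G) * t = t * x := fun x => mem_centralizer_singleton_iff.mp x.2
  have hEcard : Nat.card E = 16 := by
    rw [← S.card_E]
    exact Nat.card_congr
      { toFun := fun x => ⟨((x : K) : G), ⟨x.2, (x : K).2⟩⟩
        invFun := fun x => ⟨⟨(x : G), x.2.2⟩, x.2.1⟩
        left_inv := fun x => rfl
        right_inv := fun x => rfl }
  haveI hcomm : IsMulCommutative E := ⟨⟨fun x y => Subtype.ext (Subtype.ext
    (S.cen_comm (mE.mp x.2) (mK _) (mE.mp y.2) (mK _)))⟩⟩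
  have hodd : ¬ 2 ∣ E.index := by
    intro hd
    apply S.not_dvd_cen
    rw [← hK, ← E.card_mul_index, hEcard]
    obtain ⟨k, hk⟩ := hd
    exact ⟨k, by rw [hk]; ring⟩
  have hp : IsPGroup 2 E := IsPGroup.of_card (n := 4) (by rw [hEcard]; norm_num)
  let P : Sylow 2 K := hp.toSylow hodd
  have hPE : (P : Subgroup K) = E := rfl
  have hco : Nat.Coprime E.index (⁅E, E⁆.relIndex E) := by
    rw [show ⁅E, E⁆ = ⊥ from ?_, relIndex_bot_left, hEcard]
    · exact (Nat.Coprime.pow_right 4 ((Nat.prime_two.coprime_iff_not_dvd.mpr hodd).symm) :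
        Nat.Coprime E.index (2 ^ 4))
    · rw [commutator_eq_bot_iff_le_centralizer]
      intro x hx
      refine mem_centralizer_iff.mpr fun y hy => ?_
      exact congrArg Subtype.val (hcomm.is_comm.comm ⟨y, hy⟩ ⟨x, hx⟩)
  obtain ⟨hinf, hsup⟩ := H25.transferFocal_ker E hco
  set A := Q ⊓ centralizer ({t} : Set G) with hA
  have hAE : ∀ {x : K}, (x : G) ∈ A → x ∈ E := fun {x} hx =>
    mE.mpr (D.base.zc (mem_inf.mp hx).1)
  haveI : IsMulCommutative (P : Subgroup K) := hcomm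
  have hfoc : ∀ x : K, x ∈ E.focalSubgroup ↔ (x : G) ∈ A := by
    intro x
    constructor
    · intro hx
      rw [focalSubgroup_def] at hx
      induction hx using closure_induction with
      | mem w hw =>
        obtain ⟨hwE, y, hy, u, rfl⟩ := hw
        have hy' : u * y⁻¹ * u⁻¹ ∈ E := by
          have := E.mul_mem (E.inv_mem hy) hwE
          rwa [commutatorElement_def, show y⁻¹ * (y * u * y⁻¹ * u⁻¹) = u * y⁻¹ * u⁻¹ by group] at this
        obtain ⟨n, hn, e⟩ := Sylow.conj_eq_normalizer_conj_of_mem P y⁻¹ u⁻¹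
          (show y⁻¹ ∈ E from E.inv_mem hy) (show u⁻¹⁻¹ * y⁻¹ * u⁻¹ ∈ E by rw [inv_inv]; exact hy')
        rw [inv_inv] at e
        set m : G := ((n⁻¹ : K) : G) with hm
        have hyi : ((y⁻¹ : K) : G) = (y : G) := by
          rw [coe_inv]; exact inv_eq_of_mul_eq_one_left (S.cen_sq (mE.mp hy) (mK y))
        have hmE : ∀ x, x * z = z * x → x * t = t * x → m * x * m⁻¹ * z = z * (m * x * m⁻¹) := by
          intro x hz ht
          have hx : (⟨x, mem_centralizer_singleton_iff.mpr ht⟩ : K) ∈ E := mE.mpr hz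
          have := (mem_normalizer_iff.mp (inv_mem hn) _).mp (hPE.symm ▸ hx)
          exact mE.mp (hPE ▸ this)
        have := S.norm_E (mK n⁻¹) hmE (mE.mp hy) (mK y)
        have hc : ((⁅y, u⁆ : K) : G) = (y : G) * (m * (y : G) * m⁻¹) := by
          rw [commutatorElement_def,
            show y * u * y⁻¹ * u⁻¹ = y * (n⁻¹ * y⁻¹ * n) by rw [← e]; group,
            coe_mul, coe_mul, coe_mul, hyi, hm, coe_inv, inv_inv]
        rw [hc, S.cen_comm (mE.mp hy) (mK y) (hmE _ (mE.mp hy) (mK y))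
          (Commute.mul_left (Commute.mul_left (mK n⁻¹) (mK y)) (Commute.inv_left (mK n⁻¹)))]
        exact this
      | one => exact one_mem A
      | mul x y _ _ hx hy => exact mul_mem hx hy
      | inv x _ hx => exact inv_mem hx
    · intro hx
      have hσK : σ ∈ K := mem_centralizer_singleton_iff.mpr S.hσt
      have key : ∀ y : G, y ∈ A → ∀ w : K, (w : G) = σ * y * σ⁻¹ * y → w ∈ E.focalSubgroup := by
        intro y hy w hw
        have hyK : y ∈ K := (mem_inf.mp hy).2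
        have hyy : y * y = 1 := S.cen_sq (D.base.zc (mem_inf.mp hy).1) (mem_centralizer_singleton_iff.mp hyK)
        refine subset_closure ⟨hAE (hw ▸ mul_mem (S.sig_A hy) hy),
          ⟨σ * y * σ⁻¹, (mem_inf.mp (S.sig_A hy)).2⟩, hAE (S.sig_A hy), ⟨σ⁻¹, inv_mem hσK⟩, ?_⟩
        apply Subtype.ext
        rw [hw, commutatorElement_def]
        push_cast
        rw [show σ * y * σ⁻¹ * σ⁻¹ * (σ * y * σ⁻¹)⁻¹ * σ⁻¹⁻¹ = σ * y * σ⁻¹ * y⁻¹ * 1 by group,
          inv_eq_of_mul_eq_one_left hyy, mul_one]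
        all_goals group
      rcases S.mem_A_iff.mp hx with e | e | e | e
      · rw [show x = 1 from Subtype.ext e]; exact one_mem _
      · refine key a (S.mem_A_iff.mpr (by simp)) x ?_
        rw [e, S.hσa, mul_assoc, S.aa, mul_one]
      · refine key (z * a) (S.mem_A_iff.mpr (by simp)) x ?_
        rw [e, S.sig_za, D.base.mulZ_inv]
      · refine key z (S.mem_A_iff.mpr (by simp)) x ?_
        rw [e, S.hσz, S.az]
  generalize E.transferFocal = T at hinf hsup
  refine ⟨T.ker.map K.subtype, map_subtype_le _, ?_, ?_, ?_, ?_, ?_⟩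
  · rintro k hk _ ⟨l, hl, rfl⟩
    exact ⟨⟨k, mem_centralizer_singleton_iff.mpr hk⟩ * l * ⟨k, mem_centralizer_singleton_iff.mpr hk⟩⁻¹,
      (MonoidHom.normal_ker _).conj_mem l hl _, rfl⟩
  · intro x
    constructor
    · rintro ⟨⟨l, hl, rfl⟩, hz⟩
      exact (hfoc l).mp (hinf ▸ mem_inf.mpr ⟨hl, mE.mpr hz⟩)
    · intro hx
      have hf := (hfoc ⟨x, (mem_inf.mp hx).2⟩).mpr hx
      rw [← hinf] at hf
      exact ⟨⟨_, (mem_inf.mp hf).1, rfl⟩, D.base.zc (mem_inf.mp hx).1⟩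
  · -- the quotient is a 2-group
    refine ⟨⟨σ, mem_centralizer_singleton_iff.mpr S.hσt⟩, ?_, rfl⟩
    set s : K := ⟨σ, mem_centralizer_singleton_iff.mpr S.hσt⟩
    have hs3 : s ^ 3 = 1 := Subtype.ext (by
      show ((s : K) : G) ^ 3 = 1
      rw [← S.hσ]; exact pow_orderOf_eq_one σ)
    obtain ⟨k, hk, w, hw, e⟩ : ∃ k ∈ T.ker, ∃ w ∈ E, k * w = s := by
      rw [← mem_sup_of_normal_left, hsup]; trivial
    rw [MonoidHom.mem_ker] at hk
    rw [SetLike.mem_coe, MonoidHom.mem_ker]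
    have h2 : T w * T w = 1 := by
      rw [← map_mul, show w * w = 1 from Subtype.ext (S.cen_sq (mE.mp hw) (mK w)), map_one]
    have h3 : T w ^ 3 = 1 := by
      have : T s = T w := by rw [← e, map_mul, hk, one_mul]
      rw [← this, ← map_pow, hs3, map_one]
    rw [← e, map_mul, hk, one_mul]
    rwa [pow_three, h2, mul_one] at h3
  · rw [← Nat.card_congr (T.ker.equivMapOfInjective _ K.subtype_injective).toEquiv]
    have h1 := T.ker.card_mul_index
    rw [← h1, mul_comm]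
    congr 1
    have h2 : T.ker.index = T.ker.relIndex E := by
      rw [← relIndex_top_right, ← hsup, sup_comm, relIndex_sup_right]
    rw [h2, ← inf_relIndex_right, hinf]
    have h3 := (E.focalSubgroup.subgroupOf E).card_mul_index
    rw [Nat.card_congr (subgroupOfEquivOfLe E.focalSubgroup_le).toEquiv, hEcard] at h3
    change _ * E.focalSubgroup.relIndex E = 16 at h3
    have h4 : Nat.card E.focalSubgroup = 4 := by
      let f : Fin 4 → E.focalSubgroup := fun i =>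
        ⟨⟨![1, z, a, z * a] i, (mem_inf.mp (S.mem_A_iff.mpr (show ![1, z, a, z * a] i = 1 ∨ ![1, z, a, z * a] i = z ∨
          ![1, z, a, z * a] i = a ∨ ![1, z, a, z * a] i = z * a by fin_cases i <;> simp))).2⟩,
          (hfoc _).mpr (S.mem_A_iff.mpr (by fin_cases i <;> simp))⟩
      have hf : Function.Bijective f := by
        constructor
        · intro i j e
          have e' : ![1, z, a, z * a] i = ![1, z, a, z * a] j :=
            congrArg (fun w : E.focalSubgroup => ((w : K) : G)) e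
          have h1 := S.za_ne
          have h2 := S.a_ne
          fin_cases i <;> fin_cases j <;>
            simp [D.base.z_ne_one, D.base.z_ne_one.symm, h1.1, h1.1.symm, h1.2.1, h1.2.1.symm,
              h1.2.2, h1.2.2.symm, h2.1, h2.1.symm, h2.2, h2.2.symm] at e' ⊢
        · rintro ⟨w, hw⟩
          rcases S.mem_A_iff.mp ((hfoc w).mp hw) with e | e | e | e
          · exact ⟨0, Subtype.ext (Subtype.ext e.symm)⟩
          · exact ⟨1, Subtype.ext (Subtype.ext e.symm)⟩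
          · exact ⟨2, Subtype.ext (Subtype.ext e.symm)⟩
          · exact ⟨3, Subtype.ext (Subtype.ext e.symm)⟩
      rw [← Nat.card_congr (Equiv.ofBijective f hf), Nat.card_fin]
    rw [h4] at h3
    omega
  · intro k hk
    obtain ⟨l, hl, w, hw, e⟩ : ∃ l ∈ T.ker, ∃ w ∈ E, l * w = (⟨k, mem_centralizer_singleton_iff.mpr hk⟩ : K) := by
      rw [← mem_sup_of_normal_left, hsup]; trivial
    exact ⟨l, ⟨l, hl, rfl⟩, w, mE.mp hw, mK w, (congrArg Subtype.val e).symm⟩

end SigmaSet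

end Cfsg.Agent.H43.JTwo
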