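import Cfsg.Agent.H43.JTwo.Order
import Cfsg.Agent.H34.SelfCentV4

/-!
`C(t) ≅ 2² × A₅` and `N(B) ≅ A₄ × A₅`.
-/

set_option autoImplicit false
set_option linter.style.haveILetI false
set_option linter.unusedSectionVars false
set_option linter.unusedSimpArgs false
set_option synthInstance.maxSize 4000

namespace Cfsg.Agent.H43.JTwo

open Subgroup

variable {G : Type*} [Group G] [Finite G] {z : G} {Q : Subgroup G}

namespace LSet

variable {D : JSet z Q} {t a σ : G} {L : Subgroup G}

theorem h60 (S : LSet D t a σ L) : Nat.card L = 60 := (D.card_eq S).2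

theorem card_centT (S : LSet D t a σ L) : Nat.card ↥(centralizer ({t} : Set G)) = 240 := by
  rw [S.hcard, S.h60]

theorem bc (S : LSet D t a σ L) {b : G} (hb : b ∈ bGroup z t σ) {l : G} (hl : l ∈ L) : b * l = l * b :=
  S.bGroup_props.2.2.1 b hb l hl

theorem bsq (S : LSet D t a σ L) {b : G} (hb : b ∈ bGroup z t σ) : b * b = 1 :=
  S.cen_sq (mem_bGroup.mp hb).1 (mem_bGroup.mp hb).2.1

theorem bcomm (S : LSet D t a σ L) {b c : G} (hb : b ∈ bGroup z t σ) (hc : c ∈ bGroup z t σ) :
    b * c = c * b :=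
  S.cen_comm (mem_bGroup.mp hb).1 (mem_bGroup.mp hb).2.1 (mem_bGroup.mp hc).1 (mem_bGroup.mp hc).2.1

theorem decomp (S : LSet D t a σ L) {k : G} (hk : k * t = t * k) :
    ∃ l ∈ L, ∃ b ∈ bGroup z t σ, k = l * b := S.bGroup_props.2.1 k hk

theorem bL_disj (S : LSet D t a σ L) {b : G} (hb : b ∈ bGroup z t σ) (hbL : b ∈ L) : b = 1 :=
  S.bGroup_props.1 b hb hbL

/-- The centre of `L` is trivial. -/
theorem L_center (S : LSet D t a σ L) {l : G} (hl : l ∈ L) (h : ∀ m ∈ L, l * m = m * l) : l = 1 :=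
  S.bL_disj (mem_bGroup.mpr ⟨h z S.hzL, S.L_comm_t hl, h σ S.hσL⟩) hl

/-- `B` is the centre of `C(t)`. -/
theorem mem_B_iff (S : LSet D t a σ L) {x : G} :
    x ∈ bGroup z t σ ↔ x * t = t * x ∧ ∀ c : G, c * t = t * c → x * c = c * x := by
  constructor
  · intro hx
    refine ⟨(mem_bGroup.mp hx).2.1, fun c hc => ?_⟩
    obtain ⟨l, hl, b, hb, rfl⟩ := S.decomp hc
    exact Commute.mul_right (S.bc hx hl) (S.bcomm hx hb)
  · rintro ⟨hxt, hx⟩
    exact mem_bGroup.mpr ⟨hx z S.htc.symm, hxt, hx σ S.hσt⟩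

theorem B_not_conj (S : LSet D t a σ L) {b : G} (hb : b ∈ bGroup z t σ) (hb1 : b ≠ 1) : ¬ IsConj z b :=
  fun h => hb1 (S.bL_disj hb (S.ztype_mem h (mem_bGroup.mp hb).2.1))

theorem B_conj_t (S : LSet D t a σ L) {b : G} (hb : b ∈ bGroup z t σ) (hb1 : b ≠ 1) : IsConj t b :=
  D.conj_of_not S.ht S.t_ne_one S.t_not_conj (S.bsq hb) hb1 (S.B_not_conj hb hb1)

/-- All of `B#` have the same centraliser. -/
theorem cent_B (S : LSet D t a σ L) {b : G} (hb : b ∈ bGroup z t σ) (hb1 : b ≠ 1) :
    centralizer ({b} : Set G) = centralizer ({t} : Set G) := by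
  symm
  refine eq_of_le_of_card_ge (fun c hc => ?_) ?_
  · exact mem_centralizer_singleton_iff.mpr
      ((S.mem_B_iff.mp hb).2 c (mem_centralizer_singleton_iff.mp hc)).symm
  · obtain ⟨g, hg⟩ := isConj_iff.mp (S.B_conj_t hb hb1)
    have e : (centralizer ({t} : Set G)).map (MulAut.conj g).toMonoidHom = centralizer ({b} : Set G) := by
      ext y
      rw [mem_map_equiv, MulAut.conj_symm_apply, mem_centralizer_singleton_iff, mem_centralizer_singleton_iff,
        ← hg]
      constructor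
      · intro h
        calc y * (g * t * g⁻¹) = g * (g⁻¹ * y * g * t) * g⁻¹ := by group
          _ = g * (t * (g⁻¹ * y * g)) * g⁻¹ := by rw [h]
          _ = _ := by group
      · intro h
        calc g⁻¹ * y * g * t = g⁻¹ * (y * (g * t * g⁻¹)) * g := by group
          _ = g⁻¹ * (g * t * g⁻¹ * y) * g := by rw [h]
          _ = _ := by group
    rw [← e, ← Nat.card_congr ((centralizer ({t} : Set G)).equivMapOfInjective _
      (MulAut.conj g).injective).toEquiv]

theorem B_le_centralizer (S : LSet D t a σ L) {c : G} (hc : c ∈ centralizer ({t} : Set G)) :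
    c ∈ normalizer ((bGroup z t σ : Subgroup G) : Set G) := by
  refine mem_normalizer_iff.mpr fun x => ?_
  have key : ∀ b ∈ bGroup z t σ, c * b * c⁻¹ = b := fun b hb => by
    rw [← (S.mem_B_iff.mp hb).2 c (mem_centralizer_singleton_iff.mp hc), mul_inv_cancel_right]
  constructor
  · intro hx; rw [key x hx]; exact hx
  · intro hx
    have := key _ hx
    have e : c * x * c⁻¹ = x := mul_left_cancel (mul_right_cancel this)
    rwa [e] at hx

theorem card_normB (S : LSet D t a σ L) :
    Nat.card ↥(normalizer ((bGroup z t σ : Subgroup G) : Set G)) = 720 := by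
  classical
  haveI := Fintype.ofFinite G
  set B := bGroup z t σ with hB
  set N := normalizer (B : Set G) with hN
  obtain ⟨-, -, -, hB4, htB⟩ := S.bGroup_props
  have h := TSet.orbit_stab N t
  have hst : N ⊓ centralizer ({t} : Set G) = centralizer ({t} : Set G) :=
    inf_eq_right.mpr fun c hc => S.B_le_centralizer hc
  have him : (Finset.univ.image fun c : N => (c : G) * t * (c : G)⁻¹) =
      (Finset.univ.filter fun x => x ∈ B ∧ x ≠ 1) := by
    ext x
    simp only [Finset.mem_image, Finset.mem_univ, true_and, Finset.mem_filter]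
    constructor
    · rintro ⟨n, rfl⟩
      exact ⟨(mem_normalizer_iff.mp n.2 t).mp htB, fun e => S.t_ne_one (conj_eq_one_iff.mp e)⟩
    · rintro ⟨hx, hx1⟩
      obtain ⟨g, hg⟩ := isConj_iff.mp (S.B_conj_t hx hx1)
      have hcx := SetLike.ext_iff.mp (S.cent_B hx hx1)
      have tr : ∀ {p q : G}, p * q = q * p ↔ g * p * g⁻¹ * (g * q * g⁻¹) = g * q * g⁻¹ * (g * p * g⁻¹) := by
        intro p q
        rw [show g * p * g⁻¹ * (g * q * g⁻¹) = g * (p * q) * g⁻¹ by group,
          show g * q * g⁻¹ * (g * p * g⁻¹) = g * (q * p) * g⁻¹ by group]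
        exact ⟨fun e => by rw [e], fun e => mul_left_cancel (mul_right_cancel e)⟩
      have hcom : ∀ {p : G}, p * x = x * p ↔ p * t = t * p := fun {p} => by
        rw [← mem_centralizer_singleton_iff, ← mem_centralizer_singleton_iff]; exact hcx p
      refine ⟨⟨g, mem_normalizer_iff.mpr fun y => ?_⟩, hg⟩
      rw [S.mem_B_iff, S.mem_B_iff]
      constructor
      · rintro ⟨h1, h2⟩
        refine ⟨hcom.mp (by rw [← hg]; exact tr.mp h1), fun c hc => ?_⟩
        obtain ⟨d, rfl⟩ : ∃ d, g * d * g⁻¹ = c := ⟨g⁻¹ * c * g, by group⟩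
        exact tr.mp (h2 d (tr.mpr (by rw [hg]; exact hcom.mpr hc)))
      · rintro ⟨h1, h2⟩
        refine ⟨tr.mpr (by rw [hg]; exact hcom.mpr h1), fun c hc => tr.mpr (h2 _ (hcom.mp ?_))⟩
        rw [← hg]; exact tr.mp hc
  have h3 : (Finset.univ.filter fun x => x ∈ B ∧ x ≠ 1).card = 3 := by
    have e : (Finset.univ.filter fun x => x ∈ B ∧ x ≠ 1) = (Finset.univ.filter fun x => x ∈ B).erase 1 := by
      ext x; simp [and_comm]
    rw [e, Finset.card_erase_of_mem (by simp), ← Fintype.card_subtype,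
      ← Nat.card_eq_fintype_card, show Nat.card {x // x ∈ B} = 4 from hB4]
  rw [hst, him, h3, S.card_centT] at h
  omega

theorem L_elements (S : LSet D t a σ L) {l : G} (hl : l ∈ L) : l * l = 1 ∨ Odd (orderOf l) := by
  rcases Nat.even_or_odd (orderOf l) with hev | hodd
  · left
    obtain ⟨m, hm⟩ := hev
    set u := l ^ m with hu
    have huu : u * u = 1 := by rw [hu, ← pow_add, ← hm, pow_orderOf_eq_one]
    have hpos := orderOf_pos l
    have hu1 : u ≠ 1 := fun e => by
      have := Nat.le_of_dvd (by omega) (orderOf_dvd_of_pow_eq_one e)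
      omega
    have huL : u ∈ L := pow_mem hl m
    obtain ⟨hsq, -⟩ := D.centralizer_pair (S.L_ztype huL huu hu1) S.ht S.t_ne_one S.t_not_conj
      (S.L_comm_t huL)
    exact hsq l (Commute.pow_right (Commute.refl l) m) (S.L_comm_t hl)
  · exact Or.inr hodd

/-- `N(B)` normalises `L`. -/
theorem normB_L (S : LSet D t a σ L) {n : G} (hn : n ∈ normalizer ((bGroup z t σ : Subgroup G) : Set G)) :
    n ∈ normalizer (L : Set G) := by
  suffices ∀ m ∈ normalizer ((bGroup z t σ : Subgroup G) : Set G), ∀ l ∈ L, m * l * m⁻¹ ∈ L by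
    refine mem_normalizer_iff.mpr fun x => ⟨this n hn x, fun hx => ?_⟩
    have := this n⁻¹ (inv_mem hn) _ hx
    simpa [mul_assoc] using this
  intro m hm l hl
  obtain ⟨-, -, -, -, htB⟩ := S.bGroup_props
  -- the image centralises `t`
  have hmt : m * l * m⁻¹ * t = t * (m * l * m⁻¹) := by
    have h0 : m⁻¹ * t * m ∈ bGroup z t σ := by
      have := (mem_normalizer_iff.mp (inv_mem hm) t).mp htB
      simpa using this
    have := S.bc h0 hl
    calc m * l * m⁻¹ * t = m * (l * (m⁻¹ * t * m)) * m⁻¹ := by group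
      _ = m * ((m⁻¹ * t * m) * l) * m⁻¹ := by rw [this]
      _ = _ := by group
  rcases S.L_elements hl with hll | hodd
  · by_cases hl1 : l = 1
    · rw [hl1]; simp
    · exact S.ztype_mem ((S.L_ztype hl hll hl1).trans (isConj_iff.mpr ⟨m, rfl⟩)) hmt
  · obtain ⟨l', hl', b, hb, e⟩ := S.decomp hmt
    obtain ⟨j, hj⟩ := hodd
    have h1 : (l' * b) ^ (2 * j + 1) = 1 := by
      rw [← e, conj_pow, ← hj, pow_orderOf_eq_one]; group
    have hbj : b ^ (2 * j + 1) = b := by rw [pow_succ, pow_mul, pow_two, S.bsq hb, one_pow, one_mul]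
    rw [(show Commute l' b from (S.bc hb hl').symm).mul_pow, hbj] at h1
    have hb1 : b = 1 := S.bL_disj hb (by
      rw [eq_inv_of_mul_eq_one_right h1]; exact inv_mem (pow_mem hl' _))
    rw [e, hb1, mul_one]
    exact hl'

theorem card_L_equiv (S : LSet D t a σ L) : Nonempty (L ≃* alternatingGroup (Fin 5)) := by
  obtain ⟨ε⟩ := S.exists_equiv_four S.h60
  set φ : L →* Equiv.Perm (Fin 5) :=
    (ε.permCongrHom.toMonoidHom.comp (fourHom L)).comp (inclusion le_normalizer) with hφ
  have hinj : Function.Injective φ := by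
    rw [injective_iff_map_eq_one]
    intro x hx
    have := S.fourHom_injective S.h60 (l := inclusion le_normalizer x) x.2
      (ε.permCongrHom.injective (hx.trans (map_one _).symm))
    exact inclusion_injective le_normalizer (this.trans (map_one _).symm)
  have hr : φ.range = alternatingGroup (Fin 5) := by
    refine Equiv.Perm.eq_alternatingGroup_of_index_eq_two ?_
    have h := φ.range.card_mul_index
    rw [← Nat.card_congr (MonoidHom.ofInjective hinj).toEquiv, S.h60, Nat.card_perm,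
      Nat.card_eq_fintype_card, Fintype.card_fin] at h
    simp only [Nat.factorial] at h
    omega
  exact ⟨(MonoidHom.ofInjective hinj).trans (MulEquiv.subgroupCongr hr)⟩

/-- The complement to `L` in `N(B)`. -/
def kGroup (z t σ : G) (L : Subgroup G) : Subgroup G :=
  normalizer ((bGroup z t σ : Subgroup G) : Set G) ⊓ centralizer (L : Set G)

theorem k_props (S : LSet D t a σ L) :
    Nat.card (kGroup z t σ L) = 12 ∧
    (∀ k ∈ kGroup z t σ L, k ∈ L → k = 1) ∧
    (∀ k ∈ kGroup z t σ L, k * t = t * k → k ∈ bGroup z t σ) ∧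
    bGroup z t σ ≤ kGroup z t σ L ∧
    (∀ n ∈ normalizer ((bGroup z t σ : Subgroup G) : Set G), ∃ l ∈ L, ∃ k ∈ kGroup z t σ L, n = l * k) := by
  classical
  haveI := Fintype.ofFinite G
  set B := bGroup z t σ with hB
  set N := normalizer (B : Set G) with hN
  set K := kGroup z t σ L with hK
  obtain ⟨-, -, -, hB4, htB⟩ := S.bGroup_props
  have hKL : ∀ k ∈ K, k ∈ L → k = 1 := fun k hk hkL =>
    S.L_center hkL fun m hm => (mem_centralizer_iff.mp (mem_inf.mp hk).2 m hm).symm
  have hKt : ∀ k ∈ K, k * t = t * k → k ∈ B := by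
    intro k hk hkt
    obtain ⟨l, hl, b, hb, rfl⟩ := S.decomp hkt
    have hl1 : l = 1 := S.L_center hl fun m hm => by
      have h1 := mem_centralizer_iff.mp (mem_inf.mp hk).2 m hm
      have h2 := S.bc hb hm
      calc l * m = (l * b) * m * b⁻¹ := by rw [mul_assoc l b, h2]; group
        _ = m * (l * b) * b⁻¹ := by rw [← h1]
        _ = m * l := by group
    rw [hl1, one_mul]; exact hb
  have hBK : B ≤ K := fun b hb => mem_inf.mpr ⟨le_normalizer hb,
    mem_centralizer_iff.mpr fun l hl => (S.bc hb hl).symm⟩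
  have hLN : L ≤ N := fun l hl => S.B_le_centralizer (S.hLK hl)
  obtain ⟨ε⟩ := S.exists_equiv_four S.h60
  have hNL : N ≤ normalizer (L : Set G) := fun n hn => S.normB_L hn
  set φ : N →* Equiv.Perm (Fin 5) :=
    (ε.permCongrHom.toMonoidHom.comp (fourHom L)).comp (inclusion hNL) with hφ
  have hker : ∀ n : N, φ n = 1 ↔ (n : G) ∈ K := by
    intro n
    constructor
    · intro h
      refine mem_inf.mpr ⟨n.2, mem_centralizer_iff.mpr fun l hl => ?_⟩
      have hπ : fourHom L (inclusion hNL n) = 1 := ε.permCongrHom.injective (h.trans (map_one _).symm)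
      set l' : ↥(normalizer (L : Set G)) := ⟨l, le_normalizer hl⟩
      set n' := inclusion hNL n
      have hm : ((n' * l' * n'⁻¹ * l'⁻¹ : ↥(normalizer (L : Set G))) : G) ∈ L :=
        mul_mem ((mem_normalizer_iff.mp n'.2 l).mp hl) (inv_mem hl)
      have := S.fourHom_injective S.h60 hm (by
        rw [map_mul, map_mul, map_mul, map_inv, map_inv, hπ]; simp)
      have e : (n : G) * l * (n : G)⁻¹ * l⁻¹ = 1 := congrArg Subtype.val this
      calc l * n = l * n := rfl
        _ = ((n : G) * l * (n : G)⁻¹ * l⁻¹) * (l * n) := by rw [e, one_mul]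
        _ = _ := by group
    · intro h
      have : fourHom L (inclusion hNL n) = 1 := by
        apply Equiv.ext
        rintro ⟨F, x, hx, hxx, hx1, rfl⟩
        refine fourHom_fix.mpr fun y => ?_
        have hc := mem_centralizer_iff.mp (mem_inf.mp h).2
        show y ∈ L ⊓ centralizer {x} ↔ (n : G) * y * (n : G)⁻¹ ∈ L ⊓ centralizer {x}
        constructor
        · intro hy
          rw [← hc y (mem_inf.mp hy).1, mul_inv_cancel_right]; exact hy
        · intro hy
          have h2 := hc _ (mem_inf.mp hy).1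
          have e : (n : G) * y * (n : G)⁻¹ = y := by
            rw [inv_mul_cancel_right] at h2
            exact (mul_left_cancel h2).symm
          rwa [e] at hy
      rw [hφ]
      show ε.permCongrHom (fourHom L (inclusion hNL n)) = 1
      rw [this, map_one]
  have hkcard : Nat.card φ.ker = Nat.card K := Nat.card_congr
    { toFun := fun n => ⟨((n : N) : G), (hker _).mp n.2⟩
      invFun := fun k => ⟨⟨(k : G), (mem_inf.mp k.2).1⟩, (hker _).mpr k.2⟩
      left_inv := fun n => rfl
      right_inv := fun k => rfl }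
  have hsplit := φ.ker.card_mul_index
  rw [index_ker, hkcard, S.card_normB] at hsplit
  have hr : 60 ∣ Nat.card φ.range := by
    rw [← S.h60]
    refine card_dvd_of_injective ((φ.comp (inclusion hLN)).codRestrict φ.range fun l => ⟨_, rfl⟩) ?_
    rw [injective_iff_map_eq_one]
    intro l hl
    have h1 : φ (inclusion hLN l) = 1 := congrArg Subtype.val hl
    exact Subtype.ext (hKL _ ((hker _).mp h1) l.2)
  have hr2 : Nat.card φ.range ≤ 120 := by
    calc Nat.card φ.range ≤ Nat.card (Equiv.Perm (Fin 5)) :=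
          Nat.card_le_card_of_injective _ Subtype.val_injective
      _ = 120 := by rw [Nat.card_perm, Nat.card_eq_fintype_card, Fintype.card_fin]; rfl
  have hK4 : 4 ∣ Nat.card K := hB4 ▸ card_dvd_of_le hBK
  have hK12 : Nat.card K ≤ 12 := by
    have h := TSet.orbit_stab K t
    have h3 : (Finset.univ.image fun c : K => (c : G) * t * (c : G)⁻¹).card ≤ 3 := by
      refine (Finset.card_le_card (t := Finset.univ.filter fun x => x ∈ B ∧ x ≠ 1) fun x hx => ?_).trans ?_
      · obtain ⟨c, -, rfl⟩ := Finset.mem_image.mp hx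
        exact Finset.mem_filter.mpr ⟨Finset.mem_univ _, (mem_normalizer_iff.mp (mem_inf.mp c.2).1 t).mp htB,
          fun e => S.t_ne_one (conj_eq_one_iff.mp e)⟩
      · have e : (Finset.univ.filter fun x => x ∈ B ∧ x ≠ 1) = (Finset.univ.filter fun x => x ∈ B).erase 1 := by
          ext x; simp [and_comm]
        rw [e, Finset.card_erase_of_mem (by simp), ← Fintype.card_subtype,
          ← Nat.card_eq_fintype_card, show Nat.card {x // x ∈ B} = 4 from hB4]
    have h4 : Nat.card ↥(K ⊓ centralizer ({t} : Set G)) ≤ 4 := by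
      rw [← hB4]
      exact card_le_of_le fun x hx => hKt x (mem_inf.mp hx).1 (mem_centralizer_singleton_iff.mp (mem_inf.mp hx).2)
    have := Nat.mul_le_mul h3 h4
    omega
  have hboth : Nat.card K = 12 ∧ Nat.card φ.range = 60 := by
    obtain ⟨m, hm⟩ := hr
    rw [hm] at hsplit hr2
    have hm2 : m ≤ 2 := by omega
    interval_cases m <;> omega
  refine ⟨hboth.1, hKL, hKt, hBK, fun n hn => ?_⟩
  -- images of `L` exhaust the range
  have hLr : (φ.comp (inclusion hLN)).range = φ.range := by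
    refine eq_of_le_of_card_ge (fun x hx => ?_) ?_
    · obtain ⟨l, rfl⟩ := hx; exact ⟨_, rfl⟩
    · have hinj : Function.Injective (φ.comp (inclusion hLN)) := by
        rw [injective_iff_map_eq_one]
        intro l hl
        exact Subtype.ext (hKL _ ((hker _).mp hl) l.2)
      rw [hboth.2, ← Nat.card_congr (MonoidHom.ofInjective hinj).toEquiv, S.h60]
  obtain ⟨l, hl⟩ : φ ⟨n, hn⟩ ∈ (φ.comp (inclusion hLN)).range := hLr ▸ ⟨_, rfl⟩
  refine ⟨l, l.2, (l : G)⁻¹ * n, ?_, by group⟩
  have h1 : φ ((inclusion hLN l)⁻¹ * ⟨n, hn⟩) = 1 := by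
    rw [map_mul, map_inv, show φ (inclusion hLN l) = φ ⟨n, hn⟩ from hl, inv_mul_cancel]
  exact (hker _).mp h1

/-- `K ≅ A₄`. -/
theorem k_equiv (S : LSet D t a σ L) : Nonempty (kGroup z t σ L ≃* alternatingGroup (Fin 4)) := by
  obtain ⟨h12, -, hKt, hBK, -⟩ := S.k_props
  obtain ⟨-, -, -, hB4, htB⟩ := S.bGroup_props
  haveI : ((bGroup z t σ).subgroupOf (kGroup z t σ L)).Normal :=
    normal_subgroupOf_of_le_normalizer inf_le_left
  refine H34.equiv_alt_four ((bGroup z t σ).subgroupOf (kGroup z t σ L))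
    (by rw [Nat.card_congr (subgroupOfEquivOfLe hBK).toEquiv, hB4]) (fun g hg => ?_) h12
  exact hKt _ g.2 (congrArg Subtype.val (hg ⟨t, hBK htB⟩ htB))

theorem pCore_normal' {p : ℕ} {H : Type*} [Group H] : (Cfsg.pCore p H).Normal := by
  constructor
  intro n hn g
  have : (Cfsg.pCore p H).map (MulAut.conj g).toMonoidHom ≤ Cfsg.pCore p H := by
    rw [Cfsg.pCore, sSup_eq_iSup, Subgroup.map_iSup]
    refine iSup_le fun N => ?_
    rw [Subgroup.map_iSup]
    refine iSup_le fun hN => ?_
    refine le_trans ?_ (le_iSup₂_of_le N hN le_rfl)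
    have := hN.1
    exact fun x hx => by
      obtain ⟨a, ha, rfl⟩ := hx
      exact this.conj_mem a ha g
  exact this ⟨n, hn, rfl⟩

/-- `O₂(C(t)) = B`. -/
theorem pCore_eq (S : LSet D t a σ L) :
    (Cfsg.pCore 2 ↥(centralizer ({t} : Set G))).map (centralizer ({t} : Set G)).subtype = bGroup z t σ := by
  haveI : Fact (Nat.Prime 2) := ⟨Nat.prime_two⟩
  obtain ⟨-, -, -, hB4, htB⟩ := S.bGroup_props
  set C := centralizer ({t} : Set G) with hC
  set B := bGroup z t σ with hB
  have hBC : B ≤ C := fun b hb => mem_centralizer_singleton_iff.mpr (mem_bGroup.mp hb).2.1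
  have hBn : (B.subgroupOf C).Normal :=
    normal_subgroupOf_of_le_normalizer fun c hc => S.B_le_centralizer hc
  have hB2 : IsPGroup 2 (B.subgroupOf C) := IsPGroup.of_card (n := 2) (by
    rw [Nat.card_congr (subgroupOfEquivOfLe hBC).toEquiv, hB4]; norm_num)
  apply le_antisymm
  · have hp : IsPGroup 2 (Cfsg.pCore 2 ↥C) := H92.isPGroup_pCore 2
    set P := (Cfsg.pCore 2 ↥C).map C.subtype with hP
    have hPn : ∀ c ∈ C, ∀ x ∈ P, c * x * c⁻¹ ∈ P := by
      rintro c hc _ ⟨x, hx, rfl⟩
      haveI : (Cfsg.pCore 2 ↥C).Normal := pCore_normal'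
      exact ⟨⟨c, hc⟩ * x * ⟨c, hc⟩⁻¹, (inferInstance : (Cfsg.pCore 2 ↥C).Normal).conj_mem x hx _, rfl⟩
    have hP2 : IsPGroup 2 P := hp.map _
    intro x hx
    have hxt : x * t = t * x := mem_centralizer_singleton_iff.mp (map_subtype_le _ hx)
    obtain ⟨l, hl, b, hb, rfl⟩ := S.decomp hxt
    suffices l = 1 by rw [this, one_mul]; exact hb
    by_contra hl1
    have hlP : l ∈ P := by
      have hbP : b ∈ P := ⟨⟨b, hBC hb⟩, le_sSup (show B.subgroupOf C ∈ {N : Subgroup C | N.Normal ∧ IsPGroup 2 N}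
        from ⟨hBn, hB2⟩) hb, rfl⟩
      simpa [mul_assoc] using mul_mem hx (inv_mem hbP)
    -- an involution in `P ∩ L`
    obtain ⟨k, hk⟩ := IsPGroup.iff_orderOf.mp hP2 ⟨l, hlP⟩
    rw [orderOf_mk] at hk
    have hll : l * l = 1 := by
      rcases S.L_elements hl with h | h
      · exact h
      · exfalso
        rcases k with _ | k
        · exact hl1 (orderOf_eq_one_iff.mp (by rw [hk, pow_zero]))
        · rw [hk, pow_succ] at h; exact absurd h (by simp [Nat.even_mul, ← Nat.not_even_iff_odd])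
    have hzP : z ∈ P := by
      obtain ⟨m, hm, e⟩ := S.L_invol_conj hl hll hl1
      have := hPn m⁻¹ (inv_mem (S.hLK hm)) l hlP
      rwa [← e, show m⁻¹ * (m * z * m⁻¹) * m⁻¹⁻¹ = z by group] at this
    have h15 : 15 ≤ Nat.card ↥(P ⊓ L : Subgroup G) := by
      rcases S.card_L with ⟨h, -⟩ | ⟨-, h⟩
      · exact absurd h (by rw [S.h60]; norm_num)
      · rw [← h]
        refine Nat.card_le_card_of_injective (fun x => (⟨(x.1 : G), mem_inf.mpr ⟨?_, x.1.2⟩⟩ : (P ⊓ L : Subgroup G))) ?_
        · have hh := pow_orderOf_eq_one (x.1 : G)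
          rw [orderOf_coe, x.2, pow_two] at hh
          have hx1 : (x.1 : G) ≠ 1 := fun e => by
            have := x.2; rw [← orderOf_coe, e, orderOf_one] at this; omega
          obtain ⟨m, hm, e⟩ := S.L_invol_conj x.1.2 hh hx1
          rw [← e]; exact hPn m (S.hLK hm) z hzP
        · intro x y e
          exact Subtype.ext (Subtype.ext (congrArg (fun w : (P ⊓ L : Subgroup G) => (w : G)) e))
    obtain ⟨j, hj⟩ := IsPGroup.iff_card.mp (hP2.to_le (inf_le_left : P ⊓ L ≤ P))
    have hd : Nat.card ↥(P ⊓ L : Subgroup G) ∣ 60 := S.h60 ▸ card_dvd_of_le inf_le_right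
    rw [hj] at hd h15
    have hj5 : j < 3 := by
      by_contra hj5
      have : 2 ^ 3 ∣ 60 := (pow_dvd_pow 2 (not_lt.mp hj5)).trans hd
      norm_num at this
    interval_cases j <;> norm_num at h15
  · intro b hb
    exact ⟨⟨b, hBC hb⟩, le_sSup (show B.subgroupOf C ∈ {N : Subgroup C | N.Normal ∧ IsPGroup 2 N}
      from ⟨hBn, hB2⟩) hb, rfl⟩

/-- An internal direct product. -/
theorem prod_equiv {H M N : Subgroup G} (hH : H ≤ N) (hM : M ≤ N)
    (hc : ∀ h ∈ H, ∀ m ∈ M, h * m = m * h) (hdis : ∀ h ∈ H, h ∈ M → h = 1)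
    (hcov : ∀ n ∈ N, ∃ m ∈ M, ∃ h ∈ H, n = m * h) : Nonempty (N ≃* H × M) := by
  let f : H × M →* N :=
    { toFun := fun p => ⟨(p.1 : G) * p.2, mul_mem (hH p.1.2) (hM p.2.2)⟩
      map_one' := by ext; simp
      map_mul' := by
        rintro ⟨h₁, m₁⟩ ⟨h₂, m₂⟩
        apply Subtype.ext
        show (h₁ : G) * h₂ * ((m₁ : G) * m₂) = (h₁ : G) * m₁ * ((h₂ : G) * m₂)
        rw [mul_assoc, ← mul_assoc (h₂ : G), hc _ h₂.2 _ m₁.2]; group }
  have hf : Function.Bijective f := by
    constructor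
    · rw [injective_iff_map_eq_one]
      rintro ⟨h, m⟩ e
      have e' : (h : G) * m = 1 := congrArg Subtype.val e
      have hh : (h : G) = 1 := hdis _ h.2 (by rw [eq_inv_of_mul_eq_one_left e']; exact inv_mem m.2)
      rw [hh, one_mul] at e'
      exact Prod.ext (Subtype.ext hh) (Subtype.ext e')
    · rintro ⟨n, hn⟩
      obtain ⟨m, hm, h, hh, rfl⟩ := hcov n hn
      exact ⟨(⟨h, hh⟩, ⟨m, hm⟩), Subtype.ext (hc h hh m hm)⟩
  exact ⟨(MulEquiv.ofBijective f hf).symm⟩

theorem B_equiv (S : LSet D t a σ L) :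
    Nonempty (bGroup z t σ ≃* Multiplicative (ZMod 2) × Multiplicative (ZMod 2)) := by
  obtain ⟨-, -, -, hB4, -⟩ := S.bGroup_props
  haveI : IsKleinFour (bGroup z t σ) := ⟨hB4, by
    apply Nat.dvd_antisymm
    · exact Monoid.exponent_dvd_of_forall_pow_eq_one fun b => Subtype.ext (by
        push_cast; rw [pow_two]; exact S.bsq b.2)
    · obtain ⟨-, -, -, -, htB⟩ := S.bGroup_props
      have h := Monoid.order_dvd_exponent (⟨t, htB⟩ : bGroup z t σ)
      rwa [← orderOf_coe, orderOf_eq_prime (by rw [pow_two]; exact S.ht) S.t_ne_one] at h⟩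
  haveI : IsKleinFour (Multiplicative (ZMod 2) × Multiplicative (ZMod 2)) := ⟨by simp [Nat.card_prod], by
    apply Nat.dvd_antisymm
    · exact Monoid.exponent_dvd_of_forall_pow_eq_one (by decide)
    · have h := Monoid.order_dvd_exponent ((Multiplicative.ofAdd (1 : ZMod 2), 1) :
        Multiplicative (ZMod 2) × Multiplicative (ZMod 2))
      haveI : Fact (Nat.Prime 2) := ⟨Nat.prime_two⟩
      rwa [orderOf_eq_prime (p := 2) (by decide) (by decide)] at h⟩
  exact IsKleinFour.nonempty_mulEquiv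

theorem centT_equiv (S : LSet D t a σ L) :
    Nonempty (↥(centralizer ({t} : Set G)) ≃*
      (Multiplicative (ZMod 2) × Multiplicative (ZMod 2)) × alternatingGroup (Fin 5)) := by
  obtain ⟨eB⟩ := S.B_equiv
  obtain ⟨eL⟩ := S.card_L_equiv
  obtain ⟨e⟩ := prod_equiv (H := bGroup z t σ) (M := L)
    (fun b hb => mem_centralizer_singleton_iff.mpr (mem_bGroup.mp hb).2.1) S.hLK
    (fun b hb l hl => S.bc hb hl) (fun b hb hl => S.bL_disj hb hl)
    (fun n hn => S.decomp (mem_centralizer_singleton_iff.mp hn))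
  exact ⟨e.trans (eB.prodCongr eL)⟩

theorem normB_equiv (S : LSet D t a σ L) :
    Nonempty (↥(normalizer ((bGroup z t σ : Subgroup G) : Set G)) ≃*
      alternatingGroup (Fin 4) × alternatingGroup (Fin 5)) := by
  obtain ⟨eK⟩ := S.k_equiv
  obtain ⟨eL⟩ := S.card_L_equiv
  obtain ⟨-, hKL, -, -, hcov⟩ := S.k_props
  obtain ⟨e⟩ := prod_equiv (H := kGroup z t σ L) (M := L) inf_le_left
    (fun l hl => S.B_le_centralizer (S.hLK hl))
    (fun k hk l hl => (mem_centralizer_iff.mp (mem_inf.mp hk).2 l hl).symm) hKL hcov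
  exact ⟨e.trans (eK.prodCongr eL)⟩

end LSet

theorem cen_map (g t : G) : (centralizer ({t} : Set G)).map (MulAut.conj g).toMonoidHom =
    centralizer ({g * t * g⁻¹} : Set G) := by
  ext y
  rw [mem_map_equiv, MulAut.conj_symm_apply, mem_centralizer_singleton_iff, mem_centralizer_singleton_iff]
  constructor
  · intro h
    calc y * (g * t * g⁻¹) = g * (g⁻¹ * y * g * t) * g⁻¹ := by group
      _ = g * (t * (g⁻¹ * y * g)) * g⁻¹ := by rw [h]
      _ = _ := by group
  · intro h
    calc g⁻¹ * y * g * t = g⁻¹ * (y * (g * t * g⁻¹)) * g := by group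
      _ = g⁻¹ * (g * t * g⁻¹ * y) * g := by rw [h]
      _ = _ := by group

theorem centT_conj {t : G} (g : G) {X : Type*} [Group X]
    (h : Nonempty (↥(centralizer ({t} : Set G)) ≃* X)) :
    Nonempty (↥(centralizer ({g * t * g⁻¹} : Set G)) ≃* X) := by
  obtain ⟨e⟩ := h
  exact ⟨((MulEquiv.subgroupCongr (cen_map g t).symm).trans
    ((centralizer ({t} : Set G)).equivMapOfInjective _ (MulAut.conj g).injective).symm).trans e⟩

theorem normB_conj {t : G} (g : G) {X : Type*} [Group X]
    (h : Nonempty (↥(normalizer ((((Cfsg.pCore 2 ↥(centralizer ({t} : Set G))).map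
      (centralizer ({t} : Set G)).subtype : Subgroup G)) : Set G)) ≃* X)) :
    Nonempty (↥(normalizer ((((Cfsg.pCore 2 ↥(centralizer ({g * t * g⁻¹} : Set G))).map
      (centralizer ({g * t * g⁻¹} : Set G)).subtype : Subgroup G)) : Set G)) ≃* X) := by
  obtain ⟨e⟩ := h
  set C := centralizer ({t} : Set G) with hC
  set C' := centralizer ({g * t * g⁻¹} : Set G) with hC'
  set φ : ↥C ≃* ↥C' := (C.equivMapOfInjective _ (MulAut.conj g).injective).trans
    (MulEquiv.subgroupCongr (cen_map g t)) with hφ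
  have hcore : (Cfsg.pCore 2 ↥C).map φ.toMonoidHom = Cfsg.pCore 2 ↥C' := by
    have key : ∀ {A B : Type _} [Group A] [Group B] (f : A ≃* B),
        (Cfsg.pCore 2 A).map f.toMonoidHom ≤ Cfsg.pCore 2 B := by
      intro A B _ _ f
      rw [map_le_iff_le_comap]
      refine sSup_le fun N hN => ?_
      rw [← map_le_iff_le_comap]
      exact le_sSup ⟨hN.1.map _ f.surjective, hN.2.map _⟩
    refine le_antisymm (key φ) fun x hx => ?_
    refine ⟨φ.symm x, key φ.symm ⟨x, hx, rfl⟩, φ.apply_symm_apply x⟩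
  have hmap : (((Cfsg.pCore 2 ↥C).map C.subtype).map (MulAut.conj g).toMonoidHom) =
      (Cfsg.pCore 2 ↥C').map C'.subtype := by
    rw [← hcore, map_map, map_map]; rfl
  have hn : (normalizer (((Cfsg.pCore 2 ↥C).map C.subtype : Subgroup G) : Set G)).map
      (MulAut.conj g).toMonoidHom =
      normalizer (((Cfsg.pCore 2 ↥C').map C'.subtype : Subgroup G) : Set G) := by
    rw [← hmap]
    exact map_equiv_normalizer_eq _ (MulAut.conj g)
  exact ⟨((MulEquiv.subgroupCongr hn.symm).trans
    ((normalizer (((Cfsg.pCore 2 ↥C).map C.subtype : Subgroup G) : Set G)).equivMapOfInjective _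
      (MulAut.conj g).injective).symm).trans e⟩

end Cfsg.Agent.H43.JTwo
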