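import Cfsg.Agent.H92.OrthH1Four
import Cfsg.Agent.Orthogonal.POmega

/-!
The group `Ω⁻₄(2)` has sixty elements: it permutes the five singular points faithfully and evenly.
-/

set_option autoImplicit false
set_option synthInstance.maxHeartbeats 400000
set_option synthInstance.maxSize 4000
set_option maxRecDepth 20000
set_option linter.style.haveILetI false

namespace Cfsg.Agent.H43.JTwo

open Cfsg.Agent.H92.OrthH1Four Cfsg.Agent.Orthogonal

/-- The singular points. -/
abbrev SP : Type := {v : V4 // q v = 0 ∧ v ≠ 0}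

/-- The action on singular points. -/
noncomputable def spPerm : O q →* Equiv.Perm SP where
  toFun g := ((g : V4 ≃ₗ[ZMod 2] V4).toEquiv).subtypeEquiv fun v => by
    show q v = 0 ∧ v ≠ 0 ↔ q ((g : V4 ≃ₗ[ZMod 2] V4) v) = 0 ∧ (g : V4 ≃ₗ[ZMod 2] V4) v ≠ 0
    rw [O.map_app, Ne, Ne, LinearEquiv.map_eq_zero_iff]
  map_one' := by ext v; rfl
  map_mul' g h := by ext v; rfl

theorem spPerm_app (g : O q) (v : SP) :
    ((spPerm g v : SP) : V4) = (g : V4 ≃ₗ[ZMod 2] V4) v := rfl

theorem spPerm_injective : Function.Injective spPerm := by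
  intro g h e
  refine O.ext_app fun x => ?_
  have hv : ∀ v : V4, q v = 0 → v ≠ 0 →
      (g : V4 ≃ₗ[ZMod 2] V4) v = (h : V4 ≃ₗ[ZMod 2] V4) v := fun v h0 h1 => by
    have := DFunLike.congr_fun e ⟨v, h0, h1⟩
    exact congrArg Subtype.val this
  have hz : ∀ v : V4, q v = 0 → (g : V4 ≃ₗ[ZMod 2] V4) v = (h : V4 ≃ₗ[ZMod 2] V4) v := fun v h0 => by
    by_cases h1 : v = 0
    · rw [h1, map_zero, map_zero]
    · exact hv v h0 h1
  obtain ⟨a, b, c, d, ha, hb, hc, hd, rfl⟩ :=
    (by decide : ∀ x : V4, ∃ a b c d : V4, q a = 0 ∧ q b = 0 ∧ q c = 0 ∧ q d = 0 ∧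
      x = a + b + c + d) x
  simp only [map_add, hz a ha, hz b hb, hz c hc, hz d hd]

theorem card_sp : Fintype.card SP = 5 := by decide

theorem spPerm_even {g : O q} (hg : g ∈ commutator (O q)) : spPerm g ∈ alternatingGroup SP := by
  have h : commutator (O q) ≤ (alternatingGroup SP).comap spPerm := by
    rw [commutator_def, Subgroup.commutator_le]
    intro a _ b _
    rw [Subgroup.mem_comap, Equiv.Perm.mem_alternatingGroup, map_commutatorElement,
      commutatorElement_def, map_mul, map_mul, map_mul, map_inv, map_inv, mul_comm (Equiv.Perm.sign _)]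
    group
  exact h hg

theorem card_commutator_four : Nat.card ↥(commutator (O q)) = 60 := by
  classical
  haveI : Finite (O q) := Finite.of_injective spPerm spPerm_injective
  refine Nat.dvd_antisymm ?_ ?_
  · have hA : Nat.card ↥(alternatingGroup SP) = 60 := by
      haveI : Nontrivial SP := Fintype.one_lt_card_iff_nontrivial.mp (by rw [card_sp]; norm_num)
      have := two_mul_card_alternatingGroup (α := SP)
      rw [Fintype.card_perm, card_sp] at this
      rw [Nat.card_eq_fintype_card]
      simp only [Nat.factorial] at this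
      omega
    rw [← hA]
    have hinj : Function.Injective
        ((spPerm.comp (commutator (O q)).subtype).codRestrict (alternatingGroup SP)
          fun g => spPerm_even g.2) := fun a b e =>
      Subtype.ext (spPerm_injective (congrArg Subtype.val e))
    exact Subgroup.card_dvd_of_injective _ hinj
  · set a : ↥(commutator (O q)) := ⟨oA, oA_mem⟩
    set t : ↥(commutator (O q)) := ⟨oT, oT_mem⟩
    set s : ↥(commutator (O q)) := ⟨oS, oS_mem⟩
    have ha1 : a ≠ 1 := fun e => by
      have := congrArg (fun g : ↥(commutator (O q)) => ((g : O q) : V4 ≃ₗ[ZMod 2] V4) (vec 1 0 0 0)) e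
      exact absurd this (by show fA (vec 1 0 0 0) ≠ vec 1 0 0 0; decide)
    have ha5 : orderOf a = 5 := by
      haveI : Fact (Nat.Prime 5) := ⟨by norm_num⟩
      refine orderOf_eq_prime (Subtype.ext (O.ext_app fun x => ?_)) ha1
      show fA (fA (fA (fA (fA x)))) = x
      revert x; decide
    have has1 : a * s ≠ 1 := fun e => by
      have := congrArg (fun g : ↥(commutator (O q)) => ((g : O q) : V4 ≃ₗ[ZMod 2] V4) (vec 1 0 0 0)) e
      exact absurd this (by show fA (fS (vec 1 0 0 0)) ≠ vec 1 0 0 0; decide)
    have has3 : orderOf (a * s) = 3 := by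
      haveI : Fact (Nat.Prime 3) := ⟨by norm_num⟩
      refine orderOf_eq_prime (Subtype.ext (O.ext_app fun x => ?_)) has1
      show fA (fS (fA (fS (fA (fS x))))) = x
      revert x; decide
    have htt : t * t = 1 := Subtype.ext (O.ext_app fun x => by
      show fT (fT x) = x
      revert x; decide)
    have hss : s * s = 1 := Subtype.ext (O.ext_app fun x => by
      show fS (fS x) = x
      revert x; decide)
    have hts : s * t = t * s := Subtype.ext (O.ext_app fun x => by
      show fS (fT x) = fT (fS x)
      revert x; decide)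
    have h5 := orderOf_dvd_natCard a
    have h3 := orderOf_dvd_natCard (a * s)
    rw [ha5] at h5
    rw [has3] at h3
    have h4 : 4 ∣ Nat.card ↥(commutator (O q)) := by
      have hne : t ≠ 1 ∧ s ≠ 1 ∧ s ≠ t := by
        refine ⟨fun e => ?_, fun e => ?_, fun e => ?_⟩
        · have := congrArg (fun g : ↥(commutator (O q)) => ((g : O q) : V4 ≃ₗ[ZMod 2] V4) (vec 0 1 0 0)) e
          exact absurd this (by show fT (vec 0 1 0 0) ≠ vec 0 1 0 0; decide)
        · have := congrArg (fun g : ↥(commutator (O q)) => ((g : O q) : V4 ≃ₗ[ZMod 2] V4) (vec 0 1 0 0)) e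
          exact absurd this (by show fS (vec 0 1 0 0) ≠ vec 0 1 0 0; decide)
        · have := congrArg (fun g : ↥(commutator (O q)) => ((g : O q) : V4 ≃ₗ[ZMod 2] V4) (vec 0 1 0 0)) e
          exact absurd this (by show fS (vec 0 1 0 0) ≠ fT (vec 0 1 0 0); decide)
      let Z := Subgroup.zpowers t
      have hZ : Nat.card Z = 2 := by
        rw [Nat.card_zpowers]
        exact orderOf_eq_prime (by rw [pow_two]; exact htt) hne.1
      have hZs : Nat.card (Subgroup.zpowers s) = 2 := by
        rw [Nat.card_zpowers]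
        exact orderOf_eq_prime (by rw [pow_two]; exact hss) hne.2.1
      have hdis : Z ⊓ Subgroup.zpowers s = ⊥ := by
        rw [Subgroup.eq_bot_iff_forall]
        rintro x ⟨hx1, hx2⟩
        by_contra hx
        have e1 : x = t := by
          obtain ⟨k, rfl⟩ := Subgroup.mem_zpowers_iff.mp hx1
          rcases Int.even_or_odd k with ⟨m, rfl⟩ | ⟨m, rfl⟩
          · exact absurd (by rw [zpow_add, ← (Commute.refl t).mul_zpow, htt, one_zpow]) hx
          · rw [zpow_add, zpow_one, zpow_mul, zpow_two, htt, one_zpow, one_mul]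
        have e2 : x = s := by
          obtain ⟨k, rfl⟩ := Subgroup.mem_zpowers_iff.mp hx2
          rcases Int.even_or_odd k with ⟨m, rfl⟩ | ⟨m, rfl⟩
          · exact absurd (by rw [zpow_add, ← (Commute.refl s).mul_zpow, hss, one_zpow]) hx
          · rw [zpow_add, zpow_one, zpow_mul, zpow_two, hss, one_zpow, one_mul]
        exact hne.2.2 (e2.symm.trans e1)
      let φ : Z × Subgroup.zpowers s →* ↥(commutator (O q)) :=
        { toFun := fun p => (p.1 : ↥(commutator (O q))) * p.2
          map_one' := by simp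
          map_mul' := by
            rintro ⟨a₁, b₁⟩ ⟨a₂, b₂⟩
            simp only [Prod.mk_mul_mk, Subgroup.coe_mul]
            have : (a₂ : ↥(commutator (O q))) * b₁ = b₁ * a₂ := by
              obtain ⟨i, hi⟩ := Subgroup.mem_zpowers_iff.mp a₂.2
              obtain ⟨j, hj⟩ := Subgroup.mem_zpowers_iff.mp b₁.2
              rw [← hi, ← hj]
              exact ((show Commute t s from hts.symm).zpow_zpow i j).eq
            rw [mul_assoc, mul_assoc, ← mul_assoc (a₂ : ↥(commutator (O q))), this, mul_assoc] }
      have hφ : Function.Injective φ := by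
        rw [injective_iff_map_eq_one]
        rintro ⟨x, y⟩ e
        change (x : ↥(commutator (O q))) * y = 1 at e
        have hx : (x : ↥(commutator (O q))) ∈ (Z ⊓ Subgroup.zpowers s : Subgroup ↥(commutator (O q))) := by
          refine Subgroup.mem_inf.mpr ⟨x.2, ?_⟩
          rw [eq_inv_of_mul_eq_one_left e]
          exact (Subgroup.zpowers s).inv_mem y.2
        rw [hdis, Subgroup.mem_bot] at hx
        rw [hx, one_mul] at e
        exact Prod.ext (Subtype.ext hx) (Subtype.ext e)
      have := Subgroup.card_dvd_of_injective φ hφ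
      rwa [Nat.card_prod, hZ, hZs] at this
    exact Nat.Coprime.mul_dvd_of_dvd_of_dvd (by norm_num : Nat.Coprime 12 5)
      (Nat.Coprime.mul_dvd_of_dvd_of_dvd (by norm_num : Nat.Coprime 4 3) h4 h3) h5

theorem card_omega_four_minus :
    Nat.card ↥(Cfsg.Omega (ZMod 2) (Cfsg.quadFormMinus 1 (ZMod 2) 1 1)) = 60 := by
  rw [← card_commutator_four, ← formMinus_coe]
  exact Nat.card_congr (omegaEquiv q).toEquiv

end Cfsg.Agent.H43.JTwo
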