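import Cfsg.Agent.H43.JTwo.LFacts
import Cfsg.Agent.S0213

/-!
The order of a group of Hall–Janko type, by the Thompson order formula.
-/

set_option autoImplicit false
set_option linter.style.haveILetI false
set_option linter.unusedSectionVars false
set_option linter.unusedSimpArgs false
set_option synthInstance.maxSize 4000

namespace Cfsg.Agent.H43.JTwo

open Subgroup

variable {G : Type*} [Group G] [Finite G] {z : G} {Q : Subgroup G}

theorem commute_of_mem_zpowers_prod {x y w : G} (hxx : x * x = 1) (hyy : y * y = 1) (hww : w * w = 1)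
    (hw : w ∈ zpowers (x * y)) : x * w = w * x ∧ y * w = w * y := by
  obtain ⟨k, hk⟩ := mem_zpowers_iff.mp hw
  have hxi : x⁻¹ = x := inv_eq_of_mul_eq_one_left hxx
  have hyi : y⁻¹ = y := inv_eq_of_mul_eq_one_left hyy
  have hwi : w⁻¹ = w := inv_eq_of_mul_eq_one_left hww
  have e1 : x * (x * y) * x⁻¹ = (x * y)⁻¹ := by
    rw [← mul_assoc, hxx, one_mul, hxi, mul_inv_rev, hxi, hyi]
  have h1 : x * w * x⁻¹ = w := by
    conv_rhs => rw [← hwi, ← hk, ← inv_zpow, ← e1, conj_zpow, hk]
  have h2 : x * w = w * x := mul_inv_eq_iff_eq_mul.mp h1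
  refine ⟨h2, ?_⟩
  have hxyw : x * y * w = w * (x * y) := by
    rw [← hk]; exact ((Commute.refl (x * y)).zpow_right k).eq
  calc y * w = x⁻¹ * (x * y * w) := by group
    _ = x⁻¹ * (w * (x * y)) := by rw [hxyw]
    _ = x⁻¹ * (w * x) * y := by group
    _ = x⁻¹ * (x * w) * y := by rw [h2]
    _ = _ := by group

open scoped Classical in
/-- The number of pairs attached to `z`. -/
theorem card_pairs_z (D : JSet z Q) {t : G} (ht : t * t = 1) (htc : t * z = z * t) (htQ : t ∉ Q) :
    Nat.card {p : G × G // IsConj z p.1 ∧ IsConj t p.2 ∧ z ∈ zpowers (p.1 * p.2)} = 960 := by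
  classical
  haveI := Fintype.ofFinite G
  have htz : ¬ IsConj z t := D.not_conj_of_notMem ht htc htQ
  have ht1 : t ≠ 1 := fun e => htQ (e ▸ one_mem Q)
  set C := centralizer ({z} : Set G)
  set T : Finset G := Finset.univ.image fun c : C => (c : G) * t * (c : G)⁻¹ with hT
  have hT120 : T.card = 120 := by
    have h := TSet.orbit_stab C t
    rw [D.base.cardC, (D.centralizer_pair_C ht htc htQ).2, ← hT] at h
    omega
  have memT : ∀ y : G, y ∈ T ↔ (y * y = 1 ∧ y * z = z * y ∧ y ∉ Q) := by
    intro y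
    constructor
    · intro hy
      obtain ⟨⟨c, hc⟩, -, rfl⟩ := Finset.mem_image.mp hy
      have hc' := mem_centralizer_singleton_iff.mp hc
      have h2 : c * t * c⁻¹ * (c * t * c⁻¹) = 1 := by
        rw [show c * t * c⁻¹ * (c * t * c⁻¹) = c * (t * t) * c⁻¹ by group, ht]; group
      have hcz : c * t * c⁻¹ * z = z * (c * t * c⁻¹) :=
        Commute.mul_left (Commute.mul_left hc' htc) (Commute.inv_left hc')
      exact ⟨h2, hcz, D.notMem_of_not_conj h2 (fun e => ht1 (conj_eq_one_iff.mp e)) hcz
        fun h => htz (h.trans (isConj_iff.mpr ⟨c, rfl⟩).symm)⟩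
    · rintro ⟨h1, h2, h3⟩
      obtain ⟨c, hc, e⟩ := D.conj_in_C ht htc htQ h1 h2 h3
      exact Finset.mem_image.mpr ⟨⟨c, mem_centralizer_singleton_iff.mpr hc⟩, Finset.mem_univ _, e⟩
  set P : Finset (G × G) := Finset.univ.filter fun p =>
    IsConj z p.1 ∧ IsConj t p.2 ∧ z ∈ zpowers (p.1 * p.2) with hP
  have hcard : Nat.card {p : G × G // IsConj z p.1 ∧ IsConj t p.2 ∧ z ∈ zpowers (p.1 * p.2)} = P.card := by
    rw [Nat.card_eq_fintype_card, Fintype.card_subtype]
  have sq_of_conj : ∀ {u x : G}, u * u = 1 → IsConj u x → x * x = 1 := by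
    intro u x hu h
    obtain ⟨g, rfl⟩ := isConj_iff.mp h
    rw [show g * u * g⁻¹ * (g * u * g⁻¹) = g * (u * u) * g⁻¹ by group, hu]; group
  have hmaps : ∀ p ∈ P, p.2 ∈ T := by
    intro p hp
    obtain ⟨-, h1, h2, h3⟩ := Finset.mem_filter.mp hp
    have hy := sq_of_conj ht h2
    obtain ⟨-, hyz⟩ := commute_of_mem_zpowers_prod (sq_of_conj D.base.zz h1) hy D.base.zz h3
    refine (memT _).mpr ⟨hy, hyz, D.notMem_of_not_conj hy ?_ hyz fun h => htz (h.trans h2.symm)⟩
    intro e
    obtain ⟨g, hg⟩ := isConj_iff.mp h2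
    exact ht1 (conj_eq_one_iff.mp (hg.trans e))
  rw [hcard, Finset.card_eq_sum_card_fiberwise hmaps]
  have fib : ∀ y ∈ T, (P.filter fun p => p.2 = y).card = 8 := by
    intro y hy
    obtain ⟨hyy, hyz, hyQ⟩ := (memT y).mp hy
    obtain ⟨i, hi, hiu⟩ := Coord.inv5_fix _ (D.pm_inv5 hyy hyz hyQ)
    have hconj : IsConj t y := by
      obtain ⟨c, -, e⟩ := Finset.mem_image.mp hy
      exact isConj_iff.mpr ⟨c, e⟩
    let f : Fin 5 × Fin 2 → G × G := fun p => (z ^ (p.2 : ℕ) * D.s p.1, y)
    have himg : (P.filter fun p => p.2 = y) =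
        (((Finset.univ.erase i) ×ˢ (Finset.univ : Finset (Fin 2))).image f) := by
      ext ⟨x, y'⟩
      constructor
      · intro hm
        obtain ⟨hp, e⟩ := Finset.mem_filter.mp hm
        obtain ⟨-, h1, -, h3⟩ := Finset.mem_filter.mp hp
        simp only at e h1 h3
        subst e
        have hxx := sq_of_conj D.base.zz h1
        obtain ⟨hxz, -⟩ := commute_of_mem_zpowers_prod hxx hyy D.base.zz h3
        have hx1 : x ≠ 1 := fun e => by
          obtain ⟨g, hg⟩ := isConj_iff.mp h1
          exact D.base.z_ne_one (conj_eq_one_iff.mp (hg.trans e))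
        have hxQ := (D.conj_iff hxx hx1 hxz).mp h1
        -- `x` does not commute with `y`
        have hnc : x * y' ≠ y' * x := by
          intro hc
          have h2 : x * y' * (x * y') = 1 := by
            rw [show x * y' * (x * y') = x * (y' * x) * y' by group, ← hc,
              show x * (x * y') * y' = (x * x) * (y' * y') by group, hxx, hyy, one_mul]
          obtain ⟨k, hk⟩ := mem_zpowers_iff.mp h3
          rcases Int.even_or_odd k with ⟨m, rfl⟩ | ⟨m, rfl⟩
          · rw [zpow_add, ← (Commute.refl _).mul_zpow, h2, one_zpow] at hk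
            exact D.base.z_ne_one hk.symm
          · rw [zpow_add, zpow_one, zpow_mul, zpow_two, h2, one_zpow, one_mul] at hk
            exact hyQ (by rw [show y' = x⁻¹ * (x * y') by group, hk]; exact mul_mem (inv_mem hxQ) D.base.hzQ)
        rcases D.invol_cases hxQ hxx with r | r | ⟨j, r⟩
        · exact absurd r hx1
        · exact absurd (r ▸ hyz.symm : x * y' = y' * x) hnc
        · have hji : j ≠ i := by
            rintro rfl
            apply hnc
            have hc := (D.commute_iff_t hyy hyz hyQ hi (D.mem j)).mpr (by simp)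
            rcases r with rfl | rfl
            · exact hc.symm
            · exact Commute.mul_left hyz.symm hc.symm
          rcases r with rfl | rfl
          · exact Finset.mem_image.mpr ⟨(j, 0), by simp [hji], by simp [f]⟩
          · exact Finset.mem_image.mpr ⟨(j, 1), by simp [hji], by simp [f]⟩
      · intro hm
        obtain ⟨⟨j, b⟩, hjb, e⟩ := Finset.mem_image.mp hm
        have hji : j ≠ i := (Finset.mem_erase.mp (Finset.mem_product.mp hjb).1).1
        obtain ⟨rfl, rfl⟩ := Prod.mk.injEq _ _ _ _ ▸ e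
        have hzb : z ^ (b : ℕ) ∈ Q := pow_mem D.base.hzQ _
        set x := z ^ (b : ℕ) * D.s j with hx
        have hxQ : x ∈ Q := mul_mem hzb (D.mem j)
        have hbx : D.beta x = D.beta (D.s j) := by
          fin_cases b
          · simp [hx]
          · simp only [hx]; rw [pow_one, D.beta_zmul (D.mem j)]
        have hxx : x * x = 1 := by
          rw [D.sq_iff hxQ, hbx, ← D.sq_iff (D.mem j)]; exact D.ss j
        have hx1 : x ≠ 1 := fun e => (D.s_ne j).1 (by
          rcases D.eq_of_beta_zero (D.mem j) (by rw [← hbx, e, D.beta_one]) with r | r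
          · exact r
          · exact absurd r (D.s_ne j).2)
        refine Finset.mem_filter.mpr ⟨Finset.mem_filter.mpr ⟨Finset.mem_univ _,
          D.isConj_of_invol hxQ hxx hx1, hconj, ?_⟩, rfl⟩
        set w := y * x * y⁻¹ with hw
        have hwQ : w ∈ Q := D.base.norm y hyz x hxQ
        have hne : x * w ≠ w * x := by
          intro e
          have hb : ∀ k, D.beta w k = D.beta (D.s j) (D.pm y k) := fun k => by
            rw [← hbx]; exact D.beta_conj_invol hyy hyz hxQ k
          rw [D.commute_iff hxQ hwQ, hbx] at e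
          simp only [hb, D.beta_s] at e
          have key : ∀ τ : Equiv.Perm (Fin 5), IsInv5 τ → ∀ j, τ j ≠ j →
              ∑ k, Coord.sv j k * Coord.sv j (τ k) ≠ 0 := by
            unfold Coord.sv; decide +kernel
          exact key _ (D.pm_inv5 hyy hyz hyQ) j (fun h => hji (hiu j h)) e
        have h2 : x * w = z * (w * x) := (D.base.noncomm_iff hxQ hwQ).mp hne
        have hww : w * w = 1 := by
          rw [hw, show y * x * y⁻¹ * (y * x * y⁻¹) = y * (x * x) * y⁻¹ by group, hxx]; group
        have hxy2 : x * y * (x * y) = x * w := by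
          rw [hw, inv_eq_of_mul_eq_one_left hyy]; group
        refine mem_zpowers_iff.mpr ⟨4, ?_⟩
        calc (x * y) ^ (4 : ℤ) = (x * y * (x * y)) * (x * y * (x * y)) := by
              rw [show (4 : ℤ) = ((2 * 2 : ℕ) : ℤ) from rfl, zpow_natCast, pow_mul, pow_two, pow_two]
          _ = x * w * (x * w) := by rw [hxy2]
          _ = z * (w * x) * (x * w) := by conv_lhs => arg 1; rw [h2]
          _ = z := by
            rw [mul_assoc, mul_assoc w, ← mul_assoc x x, hxx, one_mul, hww, mul_one]
    rw [himg, Finset.card_image_of_injOn]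
    · simp [Finset.card_product]
    · rintro ⟨j, b⟩ - ⟨j', b'⟩ - e
      have e' : z ^ (b : ℕ) * D.s j = z ^ (b' : ℕ) * D.s j' := congrArg Prod.fst e
      have hjj : j' = j := D.s_inj (by
        fin_cases b <;> fin_cases b' <;> simp at e' <;> rw [e']
        · exact Or.inl rfl
        · exact Or.inr (D.base.mulZ_inv _).symm
        · exact Or.inr rfl
        · exact Or.inl rfl)
      subst hjj
      have := mul_right_cancel e'
      have hz1 := D.base.z_ne_one
      fin_cases b <;> fin_cases b' <;> simp [hz1, hz1.symm] at this ⊢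
  rw [Finset.sum_congr rfl fib, Finset.sum_const, hT120, smul_eq_mul]

namespace LSet

variable {D : JSet z Q} {t a σ : G} {L : Subgroup G}

open scoped Classical in
/-- The number of pairs attached to `t`. -/
theorem card_pairs_t (S : LSet D t a σ L) :
    Nat.card {p : G × G // IsConj z p.1 ∧ IsConj t p.2 ∧ t ∈ zpowers (p.1 * p.2)} =
      Nat.card {x : L // orderOf x = 2} * (Nat.card {x : L // orderOf x = 2} - 2) := by
  classical
  haveI := Fintype.ofFinite G
  obtain ⟨hBL, hBcov, hBc, hB4, htB⟩ := S.bGroup_props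
  set I : Finset G := Finset.univ.filter fun x => x ∈ L ∧ x * x = 1 ∧ x ≠ 1 with hI
  have hn : Nat.card {x : L // orderOf x = 2} = I.card := by
    rw [← Nat.card_eq_finsetCard]
    exact Nat.card_congr
      { toFun := fun x => ⟨(x.1 : G), Finset.mem_filter.mpr ⟨Finset.mem_univ _, x.1.2, by
          have h := pow_orderOf_eq_one (x.1 : G)
          rw [orderOf_coe, x.2, pow_two] at h; exact h, fun e => by
          have h := x.2; rw [← orderOf_coe, e, orderOf_one] at h; omega⟩⟩
        invFun := fun x => ⟨⟨(x : G), (Finset.mem_filter.mp x.2).2.1⟩, by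
          rw [← orderOf_coe]
          exact orderOf_eq_prime (by rw [pow_two]; exact (Finset.mem_filter.mp x.2).2.2.1)
            (Finset.mem_filter.mp x.2).2.2.2⟩
        left_inv := fun x => rfl
        right_inv := fun x => rfl }
  set P : Finset (G × G) := Finset.univ.filter fun p =>
    IsConj z p.1 ∧ IsConj t p.2 ∧ t ∈ zpowers (p.1 * p.2) with hP
  have hcard : Nat.card {p : G × G // IsConj z p.1 ∧ IsConj t p.2 ∧ t ∈ zpowers (p.1 * p.2)} = P.card := by
    rw [Nat.card_eq_fintype_card, Fintype.card_subtype]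
  set R : Finset (G × G) := (I ×ˢ I).filter fun p => p.1 = p.2 ∨ p.1 * p.2 ≠ p.2 * p.1 with hR
  have htzn := S.t_not_conj
  have sq_of_conj : ∀ {u x : G}, u * u = 1 → IsConj u x → x * x = 1 := by
    intro u x hu h
    obtain ⟨g, rfl⟩ := isConj_iff.mp h
    rw [show g * u * g⁻¹ * (g * u * g⁻¹) = g * (u * u) * g⁻¹ by group, hu]; group
  have ne_of_conj : ∀ {u x : G}, u ≠ 1 → IsConj u x → x ≠ 1 := by
    intro u x hu h e
    obtain ⟨g, hg⟩ := isConj_iff.mp h
    exact hu (conj_eq_one_iff.mp (hg.trans e))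
  -- products of involutions of `L`
  have hodd : ∀ x ∈ I, ∀ l ∈ I, x * l ≠ l * x → Odd (orderOf (x * l)) := by
    intro x hx l hl hne
    obtain ⟨-, hxL, hxx, -⟩ := Finset.mem_filter.mp hx
    obtain ⟨-, hlL, hll, -⟩ := Finset.mem_filter.mp hl
    by_contra hev
    rw [Nat.not_odd_iff_even] at hev
    obtain ⟨m, hm⟩ := hev
    set u := (x * l) ^ m with hu
    have hpos := orderOf_pos (x * l)
    have huu : u * u = 1 := by rw [hu, ← pow_add, ← hm, pow_orderOf_eq_one]
    have hu1 : u ≠ 1 := fun e => by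
      have := Nat.le_of_dvd (by omega) (orderOf_dvd_of_pow_eq_one e)
      omega
    have huL : u ∈ L := pow_mem (mul_mem hxL hlL) m
    obtain ⟨hxu, hlu⟩ := commute_of_mem_zpowers_prod hxx hll huu
      (mem_zpowers_iff.mpr ⟨m, by rw [zpow_natCast]⟩)
    obtain ⟨hsq, -⟩ := D.centralizer_pair (S.L_ztype huL huu hu1) S.ht S.t_ne_one S.t_not_conj
      (S.L_comm_t huL)
    have h := hsq (x * l) (Commute.mul_left hxu hlu) (Commute.mul_left (S.L_comm_t hxL) (S.L_comm_t hlL))
    exact hne (calc x * l = (x * l)⁻¹ := (inv_eq_of_mul_eq_one_left h).symm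
      _ = l * x := by rw [mul_inv_rev, inv_eq_of_mul_eq_one_left hxx, inv_eq_of_mul_eq_one_left hll])
  have hPR : P.card = R.card := by
    refine (Finset.card_bij (fun p _ => (p.1, p.2 * t)) ?_ ?_ ?_).trans rfl
    · intro p hp
      obtain ⟨-, h1, h2, h3⟩ := Finset.mem_filter.mp hp
      have hxx := sq_of_conj D.base.zz h1
      have hyy := sq_of_conj S.ht h2
      obtain ⟨hxt, hyt⟩ := commute_of_mem_zpowers_prod hxx hyy S.ht h3
      have hxL := S.ztype_mem h1 hxt
      have hx1 := ne_of_conj D.base.z_ne_one h1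
      obtain ⟨l, hl, b, hb, hy⟩ := hBcov _ hyt
      have hlb : l * b = b * l := (hBc b hb l hl).symm
      have hbb : b * b = 1 := S.cen_sq (mem_bGroup.mp hb).1 (mem_bGroup.mp hb).2.1
      have hll : l * l = 1 := by
        rw [hy, show l * b * (l * b) = l * (b * l) * b by group, ← hlb,
          show l * (l * b) * b = l * l * (b * b) by group, hbb, mul_one] at hyy
        exact hyy
      obtain ⟨k, hk⟩ := mem_zpowers_iff.mp h3
      have hxb : p.1 * b = b * p.1 := (hBc b hb p.1 hxL).symm
      rw [hy, ← mul_assoc] at hk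
      have hk' : (p.1 * l) ^ k * b ^ k = t := by
        rw [← (Commute.mul_left hxb hlb : Commute (p.1 * l) b).mul_zpow, hk]
      have hmem : (p.1 * l) ^ k = 1 ∧ b ^ k = t := by
        have e : (p.1 * l) ^ k = t * (b ^ k)⁻¹ := eq_mul_inv_of_mul_eq hk'
        have h0 : t * (b ^ k)⁻¹ = 1 := hBL _ (mul_mem htB (inv_mem (zpow_mem hb k)))
          (e ▸ zpow_mem (mul_mem hxL hl) k)
        exact ⟨e.trans h0, (mul_inv_eq_one.mp h0).symm⟩
      have hkodd : Odd k := by
        by_contra hk2
        rw [Int.not_odd_iff_even] at hk2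
        obtain ⟨j, rfl⟩ := hk2
        have e := hmem.2
        rw [zpow_add, ← (Commute.refl b).mul_zpow, hbb, one_zpow] at e
        exact S.t_ne_one e.symm
      have hbt : b = t := by
        obtain ⟨j, rfl⟩ := hkodd
        have e := hmem.2
        rwa [zpow_add, zpow_one, zpow_mul, zpow_two, hbb, one_zpow, one_mul] at e
      subst hbt
      have hlm : p.2 * b = l := by rw [hy, mul_assoc, hbb, mul_one]
      show (p.1, p.2 * b) ∈ R
      rw [hlm]
      have hmI : p.1 ∈ I := Finset.mem_filter.mpr ⟨Finset.mem_univ _, hxL, hxx, hx1⟩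
      have hl1 : l ≠ 1 := by
        intro e
        have h0 := hmem.1
        obtain ⟨j, rfl⟩ := hkodd
        rw [e, mul_one, zpow_add, zpow_one, zpow_mul, zpow_two, hxx, one_zpow, one_mul] at h0
        exact hx1 h0
      refine Finset.mem_filter.mpr ⟨Finset.mem_product.mpr ⟨hmI,
        Finset.mem_filter.mpr ⟨Finset.mem_univ _, hl, hll, hl1⟩⟩, ?_⟩
      by_cases hxl : p.1 = l
      · exact Or.inl hxl
      · refine Or.inr fun hc => ?_
        have h0 := hmem.1
        have hpp : p.1 * l * (p.1 * l) = 1 := by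
          rw [show p.1 * l * (p.1 * l) = p.1 * (l * p.1) * l by group, ← hc,
            show p.1 * (p.1 * l) * l = p.1 * p.1 * (l * l) by group, hxx, hll, mul_one]
        obtain ⟨j, rfl⟩ := hkodd
        rw [zpow_add, zpow_one, zpow_mul, zpow_two, hpp, one_zpow, one_mul] at h0
        exact hxl (by rw [eq_inv_of_mul_eq_one_left h0, inv_eq_of_mul_eq_one_left hll])
    · intro p _ q _ e
      obtain ⟨e1, e2⟩ := Prod.mk.injEq _ _ _ _ ▸ e
      exact Prod.ext e1 (mul_right_cancel e2)
    · rintro ⟨x, l⟩ hr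
      obtain ⟨hm, hor⟩ := Finset.mem_filter.mp hr
      obtain ⟨hx, hl⟩ := Finset.mem_product.mp hm
      obtain ⟨-, hxL, hxx, hx1⟩ := Finset.mem_filter.mp hx
      obtain ⟨-, hlL, hll, hl1⟩ := Finset.mem_filter.mp hl
      have hlt := S.L_comm_t hlL
      have hy2 : l * t * (l * t) = 1 := by
        rw [show l * t * (l * t) = l * (t * l) * t by group, ← hlt,
          show l * (l * t) * t = l * l * (t * t) by group, hll, S.ht, mul_one]
      have hy1 : l * t ≠ 1 := fun e => htzn (S.L_ztype (by
        rw [eq_inv_of_mul_eq_one_right e]; exact inv_mem hlL) S.ht S.t_ne_one)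
      have hnz : ¬ IsConj z (l * t) := fun h => htzn (S.L_ztype (by
        have := S.ztype_mem h (Commute.mul_left hlt rfl)
        simpa using mul_mem (inv_mem hlL) this) S.ht S.t_ne_one)
      refine ⟨(x, l * t), Finset.mem_filter.mpr ⟨Finset.mem_univ _, S.L_ztype hxL hxx hx1,
        D.conj_of_not S.ht S.t_ne_one htzn hy2 hy1 hnz, ?_⟩, ?_⟩
      · have hodd' : Odd (orderOf (x * l)) := by
          by_cases hxl : x = l
          · rw [hxl, hll, orderOf_one]; exact odd_one
          · exact hodd x hx l hl (hor.resolve_left hxl)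
        refine mem_zpowers_iff.mpr ⟨(orderOf (x * l) : ℤ), ?_⟩
        rw [zpow_natCast, show x * (l * t) = (x * l) * t by rw [mul_assoc],
          (Commute.mul_left (S.L_comm_t hxL) hlt : Commute (x * l) t).mul_pow, pow_orderOf_eq_one,
          one_mul]
        obtain ⟨j, hj⟩ := hodd'
        rw [hj, pow_succ, pow_mul, pow_two, S.ht, one_pow, one_mul]
      · show (x, l * t * t) = (x, l)
        rw [mul_assoc, S.ht, mul_one]
  rw [hcard, hPR, hn]
  have fib : ∀ x ∈ I, (R.filter fun p => p.1 = x).card = I.card - 2 := by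
    intro x hx
    obtain ⟨-, hxL, hxx, hx1⟩ := Finset.mem_filter.mp hx
    obtain ⟨g, hg, hgx⟩ := S.L_invol_conj hxL hxx hx1
    set J := I.filter fun l => x = l ∨ x * l ≠ l * x with hJ
    have e1 : (R.filter fun p => p.1 = x) = J.image fun l => (x, l) := by
      ext ⟨u, l⟩
      simp only [hR, hJ, Finset.mem_filter, Finset.mem_product, Finset.mem_image, Prod.mk.injEq]
      constructor
      · rintro ⟨⟨⟨-, h1⟩, h2⟩, rfl⟩
        exact ⟨l, ⟨h1, h2⟩, rfl, rfl⟩
      · rintro ⟨m, ⟨h1, h2⟩, rfl, rfl⟩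
        exact ⟨⟨⟨hx, h1⟩, h2⟩, rfl⟩
    rw [e1, Finset.card_image_of_injective _ (fun u v e => (Prod.mk.injEq _ _ _ _ ▸ e).2)]
    have hK : (I.filter fun l => ¬ (x = l ∨ x * l ≠ l * x)).card = 2 := by
      have hsub : I.filter (fun l => ¬ (x = l ∨ x * l ≠ l * x)) =
          (({z, a, z * a} : Finset G).image fun w => g * w * g⁻¹).erase x := by
        ext l
        simp only [Finset.mem_filter, Finset.mem_erase, Finset.mem_image, not_or, not_not]
        constructor
        · rintro ⟨hl, hne, hc⟩
          obtain ⟨-, hlL, hll, hl1⟩ := Finset.mem_filter.mp hl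
          refine ⟨fun e => hne e.symm, g⁻¹ * l * g, ?_, by group⟩
          have hz : g⁻¹ * l * g * z = z * (g⁻¹ * l * g) := by
            calc g⁻¹ * l * g * z = g⁻¹ * (l * (g * z * g⁻¹)) * g := by group
              _ = g⁻¹ * ((g * z * g⁻¹) * l) * g := by rw [hgx, hc]
              _ = _ := by group
          rcases S.inL_cases (mul_mem (mul_mem (inv_mem hg) hlL) hg) hz with e | e | e | e
          · exact absurd (by
              calc l = g * (g⁻¹ * l * g) * g⁻¹ := by group
                _ = 1 := by rw [e]; group) hl1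
          all_goals rw [e]; simp
        · rintro ⟨hne, w, hw, rfl⟩
          simp only [Finset.mem_insert, Finset.mem_singleton] at hw
          have hwL : w ∈ L := by
            rcases hw with rfl | rfl | rfl
            exacts [S.hzL, S.haL, mul_mem S.hzL S.haL]
          have hwz : w * z = z * w ∧ w * w = 1 ∧ w ≠ 1 := by
            rcases hw with rfl | rfl | rfl
            exacts [⟨rfl, D.base.zz, D.base.z_ne_one⟩, ⟨S.az, S.aa, S.a_ne.1⟩,
              ⟨S.za_E.1, S.za_sq, S.za_ne.1⟩]
          refine ⟨Finset.mem_filter.mpr ⟨Finset.mem_univ _, mul_mem (mul_mem hg hwL) (inv_mem hg), ?_,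
            fun e => hwz.2.2 (conj_eq_one_iff.mp e)⟩, fun e => hne e.symm, ?_⟩
          · rw [show g * w * g⁻¹ * (g * w * g⁻¹) = g * (w * w) * g⁻¹ by group, hwz.2.1]; group
          · rw [← hgx]
            calc g * z * g⁻¹ * (g * w * g⁻¹) = g * (z * w) * g⁻¹ := by group
              _ = g * (w * z) * g⁻¹ := by rw [hwz.1]
              _ = _ := by group
      rw [hsub, Finset.card_erase_of_mem (Finset.mem_image.mpr ⟨z, by simp, hgx⟩),
        Finset.card_image_of_injective _ (fun u v e => mul_left_cancel (mul_right_cancel e))]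
      have h1 := S.za_ne
      have h2 := S.a_ne
      simp [h1.2.1.symm, h1.2.2.symm, h2.2.symm]
    have := Finset.card_filter_add_card_filter_not (s := I) (fun l => x = l ∨ x * l ≠ l * x)
    rw [← hJ, hK] at this
    omega
  have hmaps : ∀ p ∈ R, p.1 ∈ I := fun p hp => (Finset.mem_product.mp (Finset.mem_filter.mp hp).1).1
  rw [Finset.card_eq_sum_card_fiberwise hmaps, Finset.sum_congr rfl fib, Finset.sum_const, smul_eq_mul]

end LSet

/-- The order of `G`. -/
theorem JSet.card_eq (D : JSet z Q) {t a σ : G} {L : Subgroup G} (S : LSet D t a σ L) :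
    Nat.card G = 604800 ∧ Nat.card L = 60 := by
  classical
  haveI := Fintype.ofFinite G
  have ht2 : orderOf t = 2 := orderOf_eq_prime (by rw [pow_two]; exact S.ht) S.t_ne_one
  have hall : ∀ u : G, orderOf u = 2 → IsConj z u ∨ IsConj t u := by
    intro u hu
    by_cases h : IsConj z u
    · exact Or.inl h
    · exact Or.inr (D.conj_of_not S.ht S.t_ne_one S.t_not_conj
        (by rw [← pow_two, ← hu, pow_orderOf_eq_one])
        (fun e => by rw [e, orderOf_one] at hu; omega) h)
  have hF := Cfsg.Agent.S0213.result z t D.base.hzo ht2 S.t_not_conj hall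
  rw [card_pairs_z D S.ht S.htc S.htQ, S.card_pairs_t, D.base.cardC, S.hcard] at hF
  rcases S.card_L with ⟨h1, h2⟩ | ⟨h1, h2⟩
  swap
  · rw [h1, h2] at hF; exact ⟨by omega, h1⟩
  exfalso
  rw [h1, h2] at hF
  set C := centralizer ({z} : Set G) with hC
  have h27 : (Finset.univ.image fun c : (⊤ : Subgroup G) => (c : G) * z * (c : G)⁻¹).card = 27 := by
    have h := TSet.orbit_stab (⊤ : Subgroup G) z
    rw [top_inf_eq, D.base.cardC, card_top] at h
    omega
  obtain ⟨w, hwz, hwnc⟩ : ∃ w, IsConj z w ∧ w * z ≠ z * w := by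
    by_contra hne
    push Not at hne
    have hsub : (Finset.univ.image fun c : (⊤ : Subgroup G) => (c : G) * z * (c : G)⁻¹) ⊆
        insert z ((Finset.univ : Finset (Fin 5 × Fin 2)).image fun p => z ^ (p.2 : ℕ) * D.s p.1) := by
      intro x hx
      obtain ⟨c, -, rfl⟩ := Finset.mem_image.mp hx
      have hc : IsConj z ((c : G) * z * (c : G)⁻¹) := isConj_iff.mpr ⟨c, rfl⟩
      have hxx : (c : G) * z * (c : G)⁻¹ * ((c : G) * z * (c : G)⁻¹) = 1 := by
        rw [show (c : G) * z * (c : G)⁻¹ * ((c : G) * z * (c : G)⁻¹) = c * (z * z) * (c : G)⁻¹ by group,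
          D.base.zz]; group
      have hx1 : (c : G) * z * (c : G)⁻¹ ≠ 1 := fun e => D.base.z_ne_one (conj_eq_one_iff.mp e)
      have hxQ := (D.conj_iff hxx hx1 (hne _ hc)).mp hc
      rcases D.invol_cases hxQ hxx with r | r | ⟨j, r | r⟩
      · exact absurd r hx1
      · exact Finset.mem_insert.mpr (Or.inl r)
      · exact Finset.mem_insert.mpr (Or.inr (Finset.mem_image.mpr ⟨(j, 0), Finset.mem_univ _, by simp [r]⟩))
      · exact Finset.mem_insert.mpr (Or.inr (Finset.mem_image.mpr ⟨(j, 1), Finset.mem_univ _, by simp [r]⟩))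
    have := (Finset.card_le_card hsub).trans ((Finset.card_insert_le _ _).trans
      (Nat.succ_le_succ Finset.card_image_le))
    rw [h27] at this
    simp at this
  set K := C ⊓ centralizer ({w} : Set G) with hK
  have hK72 : 72 ≤ Nat.card K := by
    have h := TSet.orbit_stab C w
    rw [D.base.cardC, ← hK] at h
    have hle : (Finset.univ.image fun c : C => (c : G) * w * (c : G)⁻¹).card ≤ 27 := by
      rw [← h27]
      refine Finset.card_le_card fun x hx => ?_
      obtain ⟨c, -, rfl⟩ := Finset.mem_image.mp hx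
      obtain ⟨g, hg⟩ := isConj_iff.mp hwz
      exact Finset.mem_image.mpr ⟨⟨(c : G) * g, mem_top _⟩, Finset.mem_univ _, by rw [← hg]; group⟩
    have := Nat.mul_le_mul_right (Nat.card K) hle
    omega
  have mK : ∀ {k : G}, k ∈ K → k * z = z * k ∧ k * w = w * k := fun {k} hk =>
    ⟨mem_centralizer_singleton_iff.mp (mem_inf.mp hk).1, mem_centralizer_singleton_iff.mp (mem_inf.mp hk).2⟩
  have hKQ : ∀ q ∈ K, q ∈ Q → q * q = 1 ∧ q ≠ z := by
    intro q hq hqQ
    have hz : z ∉ K := fun h => hwnc (mK h).2.symm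
    refine ⟨?_, fun e => hz (e ▸ hq)⟩
    rcases D.base.sq q hqQ with e | e
    · exact e
    · exact absurd (e ▸ mul_mem hq hq) hz
  have huniq : ∀ q ∈ K, q ∈ Q → q ≠ 1 → ∀ r ∈ K, r ∈ Q → r ≠ 1 → r = q := by
    intro q hq hqQ hq1 r hr hrQ hr1
    obtain ⟨hqq, hqz⟩ := hKQ q hq hqQ
    obtain ⟨hrr, hrz⟩ := hKQ r hr hrQ
    obtain ⟨hmm, hmz⟩ := hKQ _ (mul_mem hq hr) (mul_mem hqQ hrQ)
    rcases D.invol_cases hqQ hqq with e | e | ⟨i, hi⟩
    · exact absurd e hq1
    · exact absurd e hqz
    rcases D.invol_cases hrQ hrr with e | e | ⟨j, hj⟩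
    · exact absurd e hr1
    · exact absurd e hrz
    have hbq : D.beta q = Coord.sv i := by
      rcases hi with rfl | rfl
      · exact D.beta_s i
      · rw [D.beta_zmul (D.mem i), D.beta_s]
    have hbr : D.beta r = Coord.sv j := by
      rcases hj with rfl | rfl
      · exact D.beta_s j
      · rw [D.beta_zmul (D.mem j), D.beta_s]
    have hq0 := (D.sq_iff (mul_mem hqQ hrQ)).mp hmm
    rw [D.beta_mul hqQ hrQ, hbq, hbr] at hq0
    have key : ∀ i j : Fin 5, qval (Coord.sv i + Coord.sv j) = 0 → i = j := by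
      unfold Coord.sv; decide +kernel
    have := key i j hq0
    subst this
    rcases D.eq_of_beta_eq hqQ hrQ (hbq.trans hbr.symm) with e | e
    · exact e
    · exfalso
      apply hmz
      rw [e, ← mul_assoc, D.base.zc hqQ, mul_assoc, hqq, mul_one]
  set f : K →* Equiv.Perm (Fin 5) := D.perm.comp (inclusion inf_le_left) with hf
  have hfapp : ∀ k : K, f k = D.pm (k : G) := fun k => D.perm_eq_pm _
  have hker : ∀ k : K, k ∈ f.ker ↔ (k : G) ∈ Q := fun k => by
    rw [MonoidHom.mem_ker, hfapp]
    exact ⟨D.mem_of_pm_eq_one (mK k.2).1, D.pm_of_mem⟩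
  have hsplit := f.ker.card_mul_index
  rw [index_ker] at hsplit
  by_cases hex : ∃ q ∈ K, q ∈ Q ∧ q ≠ 1
  · obtain ⟨q, hq, hqQ, hq1⟩ := hex
    obtain ⟨hqq, hqz⟩ := hKQ q hq hqQ
    rcases D.invol_cases hqQ hqq with e | e | ⟨i, hi⟩
    · exact hq1 e
    · exact hqz e
    have hfix : ∀ k : K, f k i = i := by
      intro k
      have hkq := huniq q hq hqQ hq1 _ (mul_mem (mul_mem k.2 hq) (inv_mem k.2))
        (D.base.norm _ (mK k.2).1 q hqQ) (fun e => hq1 (conj_eq_one_iff.mp e))
      rw [hfapp, D.pm_apply (mK k.2).1]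
      refine D.act_eq (mK k.2).1 ?_
      rcases hi with rfl | rfl
      · exact Or.inl hkq
      · refine Or.inl ?_
        have hkz : (k : G) * z * (k : G)⁻¹ = z := by rw [(mK k.2).1, mul_inv_cancel_right]
        rw [show (k : G) * (z * D.s i) * (k : G)⁻¹ = ((k : G) * z * (k : G)⁻¹) * ((k : G) * D.s i * (k : G)⁻¹) by group,
          hkz] at hkq
        exact mul_left_cancel hkq
    have hr : Nat.card f.range ≤ 24 := by
      have h1 : ∀ i : Fin 5, (Finset.univ.filter fun σ : Equiv.Perm (Fin 5) => σ i = i).card = 24 := by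
        decide +kernel
      rw [← h1 i, Nat.card_eq_fintype_card, ← Fintype.card_coe]
      refine Fintype.card_le_of_injective (fun σ => ⟨σ.1, Finset.mem_filter.mpr ⟨Finset.mem_univ _, ?_⟩⟩)
        fun u v e => Subtype.ext (congrArg (fun w : Finset.filter (fun σ : Equiv.Perm (Fin 5) => σ i = i) Finset.univ => w.1) e)
      obtain ⟨k, hk⟩ := σ.2
      rw [← hk]; exact hfix k
    have hk2 : Nat.card f.ker ≤ 2 := by
      calc Nat.card f.ker ≤ Nat.card (Fin 2) := Nat.card_le_card_of_injective
            (fun k : f.ker => if ((k : K) : G) = 1 then (0 : Fin 2) else 1) (by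
              intro u v e
              apply Subtype.ext; apply Subtype.ext
              by_cases hu : ((u : K) : G) = 1 <;> by_cases hv : ((v : K) : G) = 1 <;>
                simp [hu, hv] at e ⊢
              first
                | exact huniq _ (v : K).2 ((hker _).mp v.2) hv _ (u : K).2 ((hker _).mp u.2) hu
                | exact Subtype.ext (Subtype.ext (huniq _ (v : K).2 ((hker _).mp v.2) hv _ (u : K).2 ((hker _).mp u.2) hu)))
        _ = 2 := Nat.card_fin 2
    have := Nat.mul_le_mul hk2 hr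
    omega
  · push Not at hex
    have hk1 : f.ker = ⊥ := (eq_bot_iff_forall _).mpr fun k hk => Subtype.ext (hex _ k.2 ((hker k).mp hk))
    rw [hk1, card_bot, one_mul] at hsplit
    have hr : Nat.card f.range ≤ 60 := by
      rw [← show Nat.card (alternatingGroup (Fin 5)) = 60 by
        rw [← D.perm_range]
        have h1 := D.perm.ker.card_mul_index
        rw [index_ker, D.perm_ker, Nat.card_congr (subgroupOfEquivOfLe D.base.le).toEquiv, D.base.card,
          D.base.cardC] at h1
        omega]
      refine card_le_of_le ?_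
      rintro _ ⟨k, rfl⟩
      rw [← D.perm_range]
      exact ⟨_, rfl⟩
    omega

end Cfsg.Agent.H43.JTwo
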