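import Cfsg.Agent.H43.JTwo.Beta

/-!
The action of `C` on the five points: kernel `Q`, image the alternating group.
-/

set_option autoImplicit false
set_option linter.style.haveILetI false
set_option linter.unusedSectionVars false
set_option linter.unusedSimpArgs false

namespace Cfsg.Agent.H43.JTwo

open Subgroup

variable {G : Type*} [Group G] [Finite G]

namespace Coord

variable {z : G} {Q : Subgroup G} (D : Coord z Q)

theorem exists_act {c : G} (hc : c * z = z * c) (i : Fin 5) :
    ∃ j, c * D.s i * c⁻¹ = D.s j ∨ c * D.s i * c⁻¹ = z * D.s j := by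
  have hz' : c * z * c⁻¹ = z := by rw [hc, mul_inv_cancel_right]
  rcases D.invol_cases (D.base.norm c hc _ (D.mem i))
    (by rw [show c * D.s i * c⁻¹ * (c * D.s i * c⁻¹) = c * (D.s i * D.s i) * c⁻¹ by group, D.ss i]; group)
    with e | e | ⟨j, e⟩
  · exact absurd (conj_eq_one_iff.mp e) (D.s_ne i).1
  · refine absurd ?_ (D.s_ne i).2
    exact (MulAut.conj c).injective (e.trans hz'.symm)
  · exact ⟨j, e⟩

open scoped Classical in
/-- The point to which `c` sends `i`. -/
noncomputable def act (c : G) (i : Fin 5) : Fin 5 :=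
  if hc : c * z = z * c then (D.exists_act hc i).choose else i

theorem act_spec {c : G} (hc : c * z = z * c) (i : Fin 5) :
    c * D.s i * c⁻¹ = D.s (D.act c i) ∨ c * D.s i * c⁻¹ = z * D.s (D.act c i) := by
  rw [act, dif_pos hc]; exact (D.exists_act hc i).choose_spec

theorem act_eq {c : G} (hc : c * z = z * c) {i j : Fin 5}
    (h : c * D.s i * c⁻¹ = D.s j ∨ c * D.s i * c⁻¹ = z * D.s j) : D.act c i = j := by
  rcases D.act_spec hc i with e | e <;> rcases h with e' | e' <;> apply D.s_inj
  · exact Or.inl (e.symm.trans e')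
  · exact Or.inr (e.symm.trans e')
  · refine Or.inr ?_
    rw [← e', e, D.base.mulZ_inv]
  · exact Or.inl (mul_left_cancel (e.symm.trans e'))

theorem act_mul {c d : G} (hc : c * z = z * c) (hd : d * z = z * d) (i : Fin 5) :
    D.act (c * d) i = D.act c (D.act d i) := by
  apply D.act_eq (Commute.mul_left hc hd)
  have e0 : c * d * D.s i * (c * d)⁻¹ = c * (d * D.s i * d⁻¹) * c⁻¹ := by group
  have ez : ∀ x : G, c * (z * x) * c⁻¹ = z * (c * x * c⁻¹) := fun x => by
    rw [← mul_assoc, hc]; group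
  rw [e0]
  rcases D.act_spec hd i with e | e <;> rw [e]
  · exact D.act_spec hc _
  · rw [ez]
    rcases D.act_spec hc (D.act d i) with e' | e' <;> rw [e']
    · exact Or.inr rfl
    · exact Or.inl (D.base.mulZ_inv _)

theorem act_one (i : Fin 5) : D.act 1 i = i := D.act_eq (by simp) (Or.inl (by simp))

/-- The permutation induced by an element of `C`. -/
noncomputable def perm : ↥(centralizer ({z} : Set G)) →* Equiv.Perm (Fin 5) where
  toFun c :=
    { toFun := D.act c
      invFun := D.act (c : G)⁻¹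
      left_inv := fun i => by
        have hc : (c : G) * z = z * c := mem_centralizer_singleton_iff.mp c.2
        rw [← D.act_mul (Commute.inv_left hc) hc, inv_mul_cancel, D.act_one]
      right_inv := fun i => by
        have hc : (c : G) * z = z * c := mem_centralizer_singleton_iff.mp c.2
        rw [← D.act_mul hc (Commute.inv_left hc), mul_inv_cancel, D.act_one] }
  map_one' := Equiv.ext fun i => D.act_one i
  map_mul' c d := Equiv.ext fun i =>
    D.act_mul (mem_centralizer_singleton_iff.mp c.2) (mem_centralizer_singleton_iff.mp d.2) i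

open scoped Classical in
/-- The permutation, as a function on `G`. -/
noncomputable def pm (c : G) : Equiv.Perm (Fin 5) :=
  if hc : c ∈ centralizer ({z} : Set G) then D.perm ⟨c, hc⟩ else 1

theorem perm_eq_pm (c : ↥(centralizer ({z} : Set G))) : D.perm c = D.pm c := by
  rw [pm, dif_pos c.2]

theorem pm_apply {c : G} (hc : c * z = z * c) (i : Fin 5) : D.pm c i = D.act c i := by
  rw [pm, dif_pos (mem_centralizer_singleton_iff.mpr hc)]; rfl

theorem pm_spec {c : G} (hc : c * z = z * c) (i : Fin 5) :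
    c * D.s i * c⁻¹ = D.s (D.pm c i) ∨ c * D.s i * c⁻¹ = z * D.s (D.pm c i) := by
  rw [D.pm_apply hc]; exact D.act_spec hc i

theorem pm_mul {c d : G} (hc : c * z = z * c) (hd : d * z = z * d) :
    D.pm (c * d) = D.pm c * D.pm d := Equiv.ext fun i => by
  rw [Equiv.Perm.mul_apply, D.pm_apply hd, D.pm_apply hc, D.pm_apply (Commute.mul_left hc hd),
    D.act_mul hc hd]

theorem pm_one : D.pm 1 = 1 := Equiv.ext fun i => by
  rw [D.pm_apply (by simp), D.act_one]; rfl

theorem pm_inv {c : G} (hc : c * z = z * c) : D.pm c⁻¹ = (D.pm c)⁻¹ := by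
  refine eq_inv_of_mul_eq_one_left ?_
  rw [← D.pm_mul (Commute.inv_left hc) hc, inv_mul_cancel, D.pm_one]

theorem pm_pow {c : G} (hc : c * z = z * c) (n : ℕ) : D.pm (c ^ n) = (D.pm c) ^ n := by
  induction n with
  | zero => simp [D.pm_one]
  | succ n ih => rw [pow_succ, pow_succ, D.pm_mul (Commute.pow_left hc n) hc, ih]

/-- Equivariance of the coordinates. -/
theorem beta_conj {c : G} (hc : c * z = z * c) {q : G} (hq : q ∈ Q) (i : Fin 5) :
    D.beta (c * q * c⁻¹) (D.pm c i) = D.beta q i := by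
  have key : ∀ x : G, eps (c * q * c⁻¹) (c * x * c⁻¹) = eps q x := by
    intro x
    classical
    unfold eps
    refine if_congr ?_ rfl rfl
    rw [show c * q * c⁻¹ * (c * x * c⁻¹) = c * (q * x) * c⁻¹ by group,
      show c * x * c⁻¹ * (c * q * c⁻¹) = c * (x * q) * c⁻¹ by group]
    simp
  show eps _ (D.s (D.pm c i)) = eps q (D.s i)
  have hm := D.base.norm c hc q hq
  rcases D.pm_spec hc i with e | e
  · rw [← e, key]
  · rw [← key (D.s i), e, D.eps_mul_right D.base.hzQ (D.mem _) hm,
      eps_comm _ z, D.eps_z hm, zero_add]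

theorem pm_of_mem {q : G} (hq : q ∈ Q) : D.pm q = 1 := Equiv.ext fun i => by
  rw [D.pm_apply (D.base.zc hq)]
  refine D.act_eq (D.base.zc hq) ?_
  rcases D.base.comm q hq (D.s i) (D.mem i) with e | e
  · exact Or.inl (mul_inv_eq_iff_eq_mul.mpr e)
  · exact Or.inr (mul_inv_eq_iff_eq_mul.mpr (by rw [e, mul_assoc]; rfl))

theorem mem_of_pm_eq_one {c : G} (hc : c * z = z * c) (h : D.pm c = 1) : c ∈ Q := by
  have h0 : ∀ i, c * D.s i = D.s i * c ∨ c * D.s i = z * (D.s i * c) := fun i => by
    rcases D.pm_spec hc i with e | e <;> rw [h] at e <;>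
      simp only [Equiv.Perm.coe_one, id_eq] at e <;> rw [mul_inv_eq_iff_eq_mul] at e
    · exact Or.inl e
    · exact Or.inr (e.trans (mul_assoc _ _ _))
  -- `x ↦ eps c x` is additive on `Q`
  have hall : ∀ q ∈ Q, c * q = q * c ∨ c * q = z * (q * c) := by
    intro q hq
    refine D.induct (fun q => c * q = q * c ∨ c * q = z * (q * c)) h0 (Or.inl hc) (Or.inl (by simp))
      (fun a ha b hb h1 h2 => ?_) hq
    have za : a * z = z * a := D.base.zc ha
    rcases h1 with e1 | e1 <;> rcases h2 with e2 | e2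
    · exact Or.inl (by rw [← mul_assoc, e1, mul_assoc, e2, mul_assoc])
    · exact Or.inr (by rw [← mul_assoc, e1, mul_assoc, e2, ← mul_assoc a z, za]; simp [mul_assoc])
    · exact Or.inr (by rw [← mul_assoc, e1]; simp [mul_assoc, e2])
    · refine Or.inl ?_
      rw [← mul_assoc, e1, mul_assoc z, mul_assoc a c, e2, ← mul_assoc a z, za]
      simp [mul_assoc, D.base.mulZ_inv]
  have hone : ∀ {x : G}, c * x = z * (x * c) → eps c x = 1 := fun {x} e =>
    eps_one_iff.mpr fun e' => D.base.zmul_ne _ (e.symm.trans e')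
  have hadd : ∀ a ∈ Q, ∀ b ∈ Q, eps c (a * b) = eps c a + eps c b := by
    intro a ha b hb
    have za : a * z = z * a := D.base.zc ha
    rcases hall a ha with e1 | e1 <;> rcases hall b hb with e2 | e2
    · rw [eps_zero_iff.mpr e1, eps_zero_iff.mpr e2, add_zero, eps_zero_iff, ← mul_assoc, e1, mul_assoc,
        e2, mul_assoc]
    · rw [eps_zero_iff.mpr e1, hone e2, zero_add, eps_one_iff,
        ← mul_assoc, e1, mul_assoc, e2, ← mul_assoc a z, za, mul_assoc z, ← mul_assoc a b c]
      exact D.base.zmul_ne _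
    · rw [hone e1, eps_zero_iff.mpr e2, add_zero, eps_one_iff,
        ← mul_assoc, e1, mul_assoc, mul_assoc a c, e2, ← mul_assoc a b c]
      exact D.base.zmul_ne _
    · rw [hone e1, hone e2,
        show (1 : ZMod 2) + 1 = 0 by decide, eps_zero_iff, ← mul_assoc, e1, mul_assoc z, mul_assoc a c,
        e2, ← mul_assoc a z, za]
      simp [mul_assoc, D.base.mulZ_inv]
  set v : Fin 5 → ZMod 2 := fun i => eps c (D.s i) with hv
  have heven : Even5 v := by
    have e : eps c (D.s 0 * D.s 1 * D.s 2 * D.s 3 * D.s 4) = ∑ i, v i := by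
      have m := D.mem
      rw [hadd _ (mul_mem (mul_mem (mul_mem (m 0) (m 1)) (m 2)) (m 3)) _ (m 4),
        hadd _ (mul_mem (mul_mem (m 0) (m 1)) (m 2)) _ (m 3), hadd _ (mul_mem (m 0) (m 1)) _ (m 2),
        hadd _ (m 0) _ (m 1), Fin.sum_univ_five]
    unfold Even5
    rw [← e, eps_zero_iff]
    rcases D.prod with r | r <;> rw [r]
    · simp
    · exact hc
  obtain ⟨q, hq, hbq⟩ := D.exists_beta heven
  have key : ∀ i, (q⁻¹ * c) * D.s i = D.s i * (q⁻¹ * c) := by
    intro i
    have hq1 : eps q⁻¹ (D.s i) = v i := by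
      have := congrFun (D.beta_inv hq) i
      rw [hbq] at this
      exact this
    rcases h0 i with e | e
    · have : q⁻¹ * D.s i = D.s i * q⁻¹ := by
        rw [← eps_zero_iff, hq1]; exact eps_zero_iff.mpr e
      rw [mul_assoc, e, ← mul_assoc, this, mul_assoc]
    · have : q⁻¹ * D.s i = z * (D.s i * q⁻¹) := by
        refine (D.base.noncomm_iff (inv_mem hq) (D.mem i)).mp ?_
        rw [← eps_one_iff, hq1]; exact hone e
      rw [mul_assoc, e, ← mul_assoc, D.base.zc (inv_mem hq), mul_assoc, ← mul_assoc q⁻¹, this]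
      simp [mul_assoc, D.base.mulZ_inv]
  have hc' : q⁻¹ * c * z = z * (q⁻¹ * c) := Commute.mul_left (D.base.zc (inv_mem hq)) hc
  have hle : closure (insert z (Set.range D.s)) ≤ centralizer ({q⁻¹ * c} : Set G) := by
    rw [closure_le]
    rintro x (rfl | ⟨i, rfl⟩)
    · exact mem_centralizer_singleton_iff.mpr hc'.symm
    · exact mem_centralizer_singleton_iff.mpr (key i).symm
  have := D.base.cQ (q⁻¹ * c) fun r hr => mem_centralizer_singleton_iff.mp (hle (D.gen r hr))
  have hcQ : q⁻¹ * c ∈ Q := by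
    rcases this with e | e <;> rw [e]
    · exact one_mem _
    · exact D.base.hzQ
  simpa using mul_mem hq hcQ

theorem perm_ker : D.perm.ker = Q.subgroupOf (centralizer ({z} : Set G)) := by
  ext ⟨c, hc⟩
  rw [MonoidHom.mem_ker, mem_subgroupOf, perm_eq_pm]
  exact ⟨D.mem_of_pm_eq_one (mem_centralizer_singleton_iff.mp hc), fun h => D.pm_of_mem h⟩

theorem perm_range : D.perm.range = alternatingGroup (Fin 5) := by
  refine Equiv.Perm.eq_alternatingGroup_of_index_eq_two ?_
  have h1 : Nat.card D.perm.range = 60 := by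
    have h1 := D.perm.ker.card_mul_index
    rw [Subgroup.index_ker, D.perm_ker,
      Nat.card_congr (subgroupOfEquivOfLe D.base.le).toEquiv, D.base.card, D.base.cardC] at h1
    omega
  have h2 := D.perm.range.card_mul_index
  rw [h1, Nat.card_perm, Nat.card_eq_fintype_card, Fintype.card_fin] at h2
  simp only [Nat.factorial] at h2
  omega

theorem pm_even {c : G} (hc : c * z = z * c) : Equiv.Perm.sign (D.pm c) = 1 := by
  rw [← Equiv.Perm.mem_alternatingGroup, ← D.perm_range]
  exact ⟨⟨c, mem_centralizer_singleton_iff.mpr hc⟩, D.perm_eq_pm _⟩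

theorem exists_pm {σ : Equiv.Perm (Fin 5)} (h : Equiv.Perm.sign σ = 1) :
    ∃ c : G, c * z = z * c ∧ D.pm c = σ := by
  rw [← Equiv.Perm.mem_alternatingGroup, ← D.perm_range] at h
  obtain ⟨⟨c, hc⟩, e⟩ := h
  exact ⟨c, mem_centralizer_singleton_iff.mp hc, by rw [← e, perm_eq_pm]⟩

theorem pm_eq_iff {c d : G} (hc : c * z = z * c) (hd : d * z = z * d) :
    D.pm c = D.pm d ↔ c⁻¹ * d ∈ Q := by
  constructor
  · intro h
    refine D.mem_of_pm_eq_one (Commute.mul_left (Commute.inv_left hc) hd) ?_
    rw [D.pm_mul (Commute.inv_left hc) hd, D.pm_inv hc, h, inv_mul_cancel]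
  · intro h
    have := D.pm_of_mem h
    rw [D.pm_mul (Commute.inv_left hc) hd, D.pm_inv hc] at this
    exact inv_mul_eq_one.mp this

end Coord

end Cfsg.Agent.H43.JTwo
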