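import Mathlib

/-!
The quotient of the centraliser of an element of odd order by the group it generates.
-/

set_option autoImplicit false
set_option linter.style.haveILetI false
set_option linter.unusedSectionVars false

namespace Cfsg.Agent.H43.JTwo

open Subgroup

variable {G : Type*} [Group G] [Finite G]

theorem comm_of_mem_zpowers {x w c : G} (hw : w ∈ zpowers x) (hc : c * x = x * c) : c * w = w * c := by
  obtain ⟨k, rfl⟩ := mem_zpowers_iff.mp hw
  exact (Commute.zpow_right hc k).eq

instance zpowers_subgroupOf_normal (x : G) :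
    ((zpowers x).subgroupOf (centralizer ({x} : Set G))).Normal := by
  refine ⟨fun w hw c => ?_⟩
  rw [mem_subgroupOf] at hw ⊢
  push_cast
  rw [comm_of_mem_zpowers hw (mem_centralizer_singleton_iff.mp c.2), mul_inv_cancel_right]
  exact hw

/-- `C(x) / ⟨x⟩`. -/
abbrev CQ (x : G) : Type _ :=
  ↥(centralizer ({x} : Set G)) ⧸ (zpowers x).subgroupOf (centralizer ({x} : Set G))

/-- The class of an element commuting with `x`. -/
def qm (x : G) {c : G} (hc : c * x = x * c) : CQ x :=
  QuotientGroup.mk ⟨c, mem_centralizer_singleton_iff.mpr hc⟩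

theorem qm_surj (x : G) (v : CQ x) : ∃ (c : G) (hc : c * x = x * c), qm x hc = v := by
  obtain ⟨⟨c, hc⟩, rfl⟩ := QuotientGroup.mk_surjective v
  exact ⟨c, mem_centralizer_singleton_iff.mp hc, rfl⟩

theorem qm_mul {x c d : G} (hc : c * x = x * c) (hd : d * x = x * d) :
    qm x hc * qm x hd = qm x (c := c * d) (Commute.mul_left hc hd) := rfl

theorem qm_inv {x c : G} (hc : c * x = x * c) :
    (qm x hc)⁻¹ = qm x (c := c⁻¹) (Commute.inv_left hc) := rfl

theorem qm_congr {x c d : G} (hc : c * x = x * c) (hd : d * x = x * d) (h : c = d) :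
    qm x hc = qm x hd := by subst h; rfl

theorem qm_eq {x c d : G} (hc : c * x = x * c) (hd : d * x = x * d) :
    qm x hc = qm x hd ↔ c⁻¹ * d ∈ zpowers x := by
  unfold qm
  rw [QuotientGroup.eq, mem_subgroupOf]
  rfl

theorem qm_eq_one {x c : G} (hc : c * x = x * c) : qm x hc = 1 ↔ c ∈ zpowers x := by
  unfold qm
  rw [QuotientGroup.eq_one_iff, mem_subgroupOf]

theorem card_cq (x : G) :
    Nat.card ↥(centralizer ({x} : Set G)) = orderOf x * Nat.card (CQ x) := by
  rw [card_eq_card_quotient_mul_card_subgroup ((zpowers x).subgroupOf (centralizer ({x} : Set G))),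
    mul_comm]
  congr 1
  rw [Nat.card_congr (subgroupOfEquivOfLe ?_).toEquiv, Nat.card_zpowers]
  rw [zpowers_le]
  exact mem_centralizer_singleton_iff.mpr rfl

theorem eq_one_of_invol {x u : G} (hodd : Odd (orderOf x)) (hu : u ∈ zpowers x) (huu : u * u = 1) :
    u = 1 := by
  have h1 : orderOf u ∣ orderOf x := orderOf_dvd_of_mem_zpowers hu
  have h2 : orderOf u ∣ 2 := orderOf_dvd_of_pow_eq_one (by rw [pow_two]; exact huu)
  exact orderOf_eq_one_iff.mp (Nat.eq_one_of_dvd_coprimes (Nat.coprime_two_left.mpr hodd) h2 h1)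

theorem eq_of_qm_invol {x u v : G} (hodd : Odd (orderOf x)) (hu : u * x = x * u) (hv : v * x = x * v)
    (huu : u * u = 1) (hvv : v * v = 1) (h : qm x hu = qm x hv) : u = v := by
  have hw := (qm_eq hu hv).mp h
  have hc := comm_of_mem_zpowers hw hu
  have hui : u⁻¹ = u := inv_eq_of_mul_eq_one_left huu
  have h1 : (u⁻¹ * v) * (u⁻¹ * v) = 1 := by
    rw [hui] at hc ⊢
    rw [← mul_assoc u u v, huu, one_mul] at hc
    have hvu : v * u = u * v := by
      calc v * u = u * v * u * u := by rw [← hc]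
        _ = u * v := by rw [mul_assoc, huu, mul_one]
    calc u * v * (u * v) = u * (v * u) * v := by group
      _ = u * u * (v * v) := by rw [hvu]; group
      _ = 1 := by rw [huu, hvv, one_mul]
  have := eq_one_of_invol hodd hw h1
  exact inv_mul_eq_one.mp this

theorem conj_invol_eq {x u c : G} (hodd : Odd (orderOf x)) (hu : u * x = x * u) (huu : u * u = 1)
    (hc : c * x = x * c) (h : qm x hc * qm x hu = qm x hu * qm x hc) : c * u = u * c := by
  have hv : c * u * c⁻¹ * x = x * (c * u * c⁻¹) := Commute.mul_left (Commute.mul_left hc hu) (Commute.inv_left hc)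
  have hvv : c * u * c⁻¹ * (c * u * c⁻¹) = 1 := by
    rw [show c * u * c⁻¹ * (c * u * c⁻¹) = c * (u * u) * c⁻¹ by group, huu]; group
  have e : qm x hv = qm x hu := by
    calc qm x hv = qm x hc * qm x hu * (qm x hc)⁻¹ := rfl
      _ = qm x hu := by rw [h, mul_inv_cancel_right]
  exact mul_inv_eq_iff_eq_mul.mp (eq_of_qm_invol hodd hv hu hvv huu e)

/-- An element mapping to an involution has an involution in its class. -/
theorem exists_invol_lift {x : G} (hodd : Odd (orderOf x)) {v : CQ x} (hv : v * v = 1) (hv1 : v ≠ 1) :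
    ∃ (u : G) (hu : u * x = x * u), u * u = 1 ∧ u ≠ 1 ∧ qm x hu = v := by
  obtain ⟨c, hc, rfl⟩ := qm_surj x v
  rw [qm_mul] at hv
  replace hv := (qm_eq_one _).mp hv
  obtain ⟨k, hk⟩ := hodd
  have hord : (c * c) ^ (2 * k + 1) = 1 := by
    rw [← hk]
    exact orderOf_dvd_iff_pow_eq_one.mp (orderOf_dvd_of_mem_zpowers hv)
  refine ⟨c ^ (2 * k + 1), Commute.pow_left hc _, ?_, ?_, ?_⟩
  · rw [← (Commute.refl c).mul_pow, hord]
  · intro e
    apply hv1
    rw [qm_eq_one]
    have h2 : c = (c ^ (2 * k + 1)) * ((c * c) ^ k)⁻¹ := by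
      rw [eq_mul_inv_iff_mul_eq, ← pow_two, ← pow_mul, pow_succ']
    rw [h2, e, one_mul]
    exact inv_mem (pow_mem hv k)
  · refine (qm_eq (Commute.pow_left hc _) hc).mpr ?_
    have h2 : (c ^ (2 * k + 1))⁻¹ * c = ((c * c) ^ k)⁻¹ := by
      rw [← pow_two, ← pow_mul, pow_succ', mul_inv_rev, inv_mul_cancel_right]
    rw [h2]
    exact inv_mem (pow_mem hv k)

/-- The centraliser of the class of an involution is the image of a complement to `⟨x⟩` in the
centraliser. -/
theorem cent_equiv {x u : G} (hodd : Odd (orderOf x)) (hu : u * x = x * u) (huu : u * u = 1)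
    {H : Subgroup G} (hH : ∀ c ∈ H, c * x = x * c ∧ c * u = u * c)
    (hdis : ∀ c ∈ H, c ∈ zpowers x → c = 1)
    (hcov : ∀ c : G, c * x = x * c → c * u = u * c → ∃ w ∈ zpowers x, ∃ d ∈ H, c = w * d) :
    Nonempty (H ≃* ↥(centralizer ({qm x hu} : Set (CQ x)))) := by
  let f : H →* ↥(centralizer ({qm x hu} : Set (CQ x))) :=
    { toFun := fun d => ⟨qm x (hH d d.2).1, mem_centralizer_singleton_iff.mpr (by
        rw [qm_mul, qm_mul]; exact qm_congr _ _ (hH d d.2).2)⟩
      map_one' := Subtype.ext ((qm_eq_one (c := ((1 : H) : G)) (hH _ (1 : H).2).1).mpr (one_mem _))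
      map_mul' := fun d e => Subtype.ext rfl }
  have hf : Function.Bijective f := by
    constructor
    · rw [injective_iff_map_eq_one]
      intro d hd
      exact Subtype.ext (hdis d d.2 ((qm_eq_one (hH d d.2).1).mp (congrArg Subtype.val hd)))
    · rintro ⟨v, hv⟩
      obtain ⟨c, hc, rfl⟩ := qm_surj x v
      have hcu := conj_invol_eq hodd hu huu hc (mem_centralizer_singleton_iff.mp hv)
      obtain ⟨w, hw, d, hd, rfl⟩ := hcov c hc hcu
      refine ⟨⟨d, hd⟩, Subtype.ext ?_⟩
      show qm x (hH d hd).1 = qm x hc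
      refine (qm_eq _ _).mpr ?_
      have e : d⁻¹ * (w * d) = w := by
        rw [comm_of_mem_zpowers hw (hH d hd).1 |>.symm, inv_mul_cancel_left]
      rwa [e]
  exact ⟨MulEquiv.ofBijective f hf⟩

end Cfsg.Agent.H43.JTwo
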