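import Cfsg.Agent.H92.LargeSimple
import Cfsg.Agent.H92.Extra
import Cfsg.Agent.H92.ExtraIso
import Cfsg.Agent.H43.JTwo.OmegaFour

/-!
Groups of Hall–Janko type: basic facts about the extraspecial core `Q` of order 32.
-/

set_option autoImplicit false
set_option linter.style.haveILetI false
set_option linter.unusedSectionVars false

namespace Cfsg.Agent.H43.JTwo

open Subgroup

variable {G : Type*} [Group G] [Finite G]

/-- The working hypotheses: `C = C(z)`, `Q` normal in `C` with `|Q| = 32`, `|C| = 1920`. -/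
structure Setup (z : G) (Q : Subgroup G) : Prop where
  hzo : orderOf z = 2
  card : Nat.card Q = 32
  le : Q ≤ centralizer ({z} : Set G)
  hzQ : z ∈ Q
  cQ : ∀ c : G, (∀ q ∈ Q, q * c = c * q) → c = 1 ∨ c = z
  norm : ∀ c : G, c * z = z * c → ∀ q ∈ Q, c * q * c⁻¹ ∈ Q
  sq : ∀ q ∈ Q, q * q = 1 ∨ q * q = z
  comm : ∀ q ∈ Q, ∀ r ∈ Q, q * r = r * q ∨ q * r = z * (r * q)
  cardC : Nat.card (centralizer ({z} : Set G)) = 1920
  inv : ∃ q ∈ Q, q * q = 1 ∧ q ≠ 1 ∧ q ≠ z

theorem setup_of {z : G} (hz : orderOf z = 2) (Q : Subgroup (centralizer ({z} : Set G)))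
    [Q.Normal] (hF : Cfsg.generalizedFittingSubgroup (centralizer ({z} : Set G)) = Q)
    (hQ : Cfsg.IsExtraspecial 2 Q) (hcard : Nat.card Q = 2 ^ 5)
    (e : (centralizer ({z} : Set G)) ⧸ Q ≃*
      Cfsg.Omega (ZMod 2) (Cfsg.quadFormMinus 1 (ZMod 2) 1 1))
    (hnwc : ∃ g : G, (∃ hq : g * z * g⁻¹ ∈ centralizer ({z} : Set G),
      (⟨g * z * g⁻¹, hq⟩ : centralizer ({z} : Set G)) ∈ Q) ∧ g * z * g⁻¹ ≠ z) :
    Setup z (Q.map (centralizer ({z} : Set G)).subtype) := by
  set Q0 := Q.map (centralizer ({z} : Set G)).subtype with hQ0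
  have hle : Q0 ≤ centralizer ({z} : Set G) := map_subtype_le Q
  obtain ⟨hzZ, hcen, hconj, -⟩ := H92.centralizer_setting hle (by rw [hF])
  have he : Cfsg.IsExtraspecial 2 Q0 :=
    H92.isExtraspecial_of_mulEquiv
      (Q.equivMapOfInjective _ (centralizer ({z} : Set G)).subtype_injective) hQ
  have hz1 : z ≠ 1 := fun h => by rw [h, orderOf_one] at hz; omega
  have h01 : ∀ x ∈ (center Q0).map Q0.subtype, x = 1 ∨ x = z := fun x hx =>
    H92.eq_one_or_center he hzZ hz1 hx
  refine ⟨hz, ?_, hle, H92.center_map_le hzZ, fun c hc => h01 c ?_,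
    fun c hc q hq => hconj q hq c (mem_centralizer_singleton_iff.mpr hc),
    fun q hq => h01 _ (H92.sq_mem_center_map he hq), fun q hq r hr => ?_, ?_, ?_⟩
  · rw [hQ0, ← Nat.card_congr (Q.equivMapOfInjective _
      (centralizer ({z} : Set G)).subtype_injective).toEquiv, hcard]; norm_num
  · rw [← hcen]; exact mem_centralizer_iff.mpr hc
  · rcases h01 _ (H92.commutator_mem_center_map he hq hr) with h | h
    · left
      calc q * r = (q * r * q⁻¹ * r⁻¹) * (r * q) := by group
        _ = r * q := by rw [h, one_mul]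
    · right
      calc q * r = (q * r * q⁻¹ * r⁻¹) * (r * q) := by group
        _ = _ := by rw [h]
  · have h60 : Q.index = 60 := by
      rw [index_eq_card, Nat.card_congr e.toEquiv, card_omega_four_minus]
    rw [← Q.card_mul_index, hcard, h60]; norm_num
  · obtain ⟨g, ⟨hq, hm⟩, hne⟩ := hnwc
    have hzz : z * z = 1 := by rw [← pow_two, ← hz, pow_orderOf_eq_one]
    refine ⟨g * z * g⁻¹, ⟨⟨g * z * g⁻¹, hq⟩, hm, rfl⟩, ?_, fun e => hz1 (conj_eq_one_iff.mp e), hne⟩
    rw [show g * z * g⁻¹ * (g * z * g⁻¹) = g * (z * z) * g⁻¹ by group, hzz]; group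

namespace Setup

variable {z : G} {Q : Subgroup G}

theorem z_ne_one (h : Setup z Q) : z ≠ 1 := fun e => by
  have := h.hzo; rw [e, orderOf_one] at this; omega

theorem zz (h : Setup z Q) : z * z = 1 := by
  have := pow_orderOf_eq_one z; rwa [h.hzo, pow_two] at this

theorem z_inv (h : Setup z Q) : z⁻¹ = z := inv_eq_of_mul_eq_one_left h.zz

theorem mulZ_inv (h : Setup z Q) (x : G) : z * (z * x) = x := by rw [← mul_assoc, h.zz, one_mul]

theorem zc (h : Setup z Q) {q : G} (hq : q ∈ Q) : q * z = z * q :=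
  mem_centralizer_singleton_iff.mp (h.le hq)

theorem zmul_ne (h : Setup z Q) (x : G) : z * x ≠ x := fun e => h.z_ne_one (mul_eq_right.mp e)

theorem noncomm_iff (h : Setup z Q) {q r : G} (hq : q ∈ Q) (hr : r ∈ Q) :
    q * r ≠ r * q ↔ q * r = z * (r * q) := by
  refine ⟨fun hn => (h.comm q hq r hr).resolve_left hn, fun e e' => ?_⟩
  exact h.zmul_ne (r * q) (e.symm.trans e')

/-- An element of order prime to two fixing `x` modulo `⟨z⟩` fixes it. -/
theorem commute_of_mod (h : Setup z Q) {f x : G} {n : ℕ} (hn : Odd n) (hf : f ^ n = 1)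
    (hfz : f * z = z * f) (hx : f * x * f⁻¹ = x ∨ f * x * f⁻¹ = z * x) : f * x = x * f := by
  rcases hx with e | e
  · exact mul_inv_eq_iff_eq_mul.mp e
  · exfalso
    have key : ∀ k : ℕ, f ^ k * x * (f ^ k)⁻¹ = z ^ k * x := by
      intro k
      induction k with
      | zero => simp
      | succ k ih =>
        rw [pow_succ' f, show f * f ^ k * x * (f * f ^ k)⁻¹ = f * (f ^ k * x * (f ^ k)⁻¹) * f⁻¹ by group,
          ih]
        have hzk : f * z ^ k = z ^ k * f := (Commute.pow_right hfz k).eq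
        calc f * (z ^ k * x) * f⁻¹ = (f * z ^ k) * x * f⁻¹ := by group
          _ = z ^ k * (f * x * f⁻¹) := by rw [hzk]; group
          _ = z ^ (k + 1) * x := by rw [e, pow_succ, mul_assoc]
    obtain ⟨m, rfl⟩ := hn
    have := key (2 * m + 1)
    rw [hf, pow_succ, pow_mul, pow_two, h.zz, one_pow, one_mul] at this
    simp only [one_mul, inv_one, mul_one] at this
    exact h.zmul_ne x this.symm

/-- An element of order five of `C` centralises only `⟨z⟩` in `Q`, and leaves no other proper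
subgroup containing `z` invariant. -/
theorem five_invariant (h : Setup z Q) {f : G} (hf : orderOf f = 5) (hfz : f * z = z * f)
    {U : Subgroup G} (hU : U ≤ Q) (hzU : z ∈ U) (hinv : ∀ u ∈ U, f * u * f⁻¹ ∈ U)
    (hne : ∃ u ∈ U, u ≠ 1 ∧ u ≠ z) : U = Q := by
  haveI : Fact (Nat.Prime 5) := ⟨by norm_num⟩
  -- fixed points of `f` on a subgroup
  have key : ∀ W : Subgroup G, W ≤ Q → (∀ u ∈ W, f * u * f⁻¹ ∈ W) →
      Nat.card W % 5 = Nat.card (W ⊓ centralizer ({f} : Set G) : Subgroup G) % 5 := by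
    intro W hW hWinv
    have hWn : ∀ k : zpowers f, ∀ u ∈ W, (k : G) * u * (k : G)⁻¹ ∈ W := by
      intro k u hu
      obtain ⟨j, hj⟩ := mem_zpowers_iff.mp k.2
      rw [← hj]
      have hfn : f ∈ normalizer (W : Set G) := by
        refine mem_normalizer_iff.mpr fun a => ⟨fun ha => hWinv a ha, fun ha => ?_⟩
        have h5 : ∀ n : ℕ, ∀ b ∈ W, f ^ n * b * (f ^ n)⁻¹ ∈ W := by
          intro n b hb
          induction n with
          | zero => simpa using hb
          | succ n ih =>
            rw [pow_succ' f, show f * f ^ n * b * (f * f ^ n)⁻¹ = f * (f ^ n * b * (f ^ n)⁻¹) * f⁻¹ by group]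
            exact hWinv _ ih
        have := h5 4 _ ha
        rw [show f ^ 4 * (f * a * f⁻¹) * (f ^ 4)⁻¹ = f ^ 5 * a * (f ^ 5)⁻¹ by group,
          ← hf, pow_orderOf_eq_one] at this
        simpa using this
      exact (mem_normalizer_iff.mp (zpow_mem hfn j) u).mp hu
    letI : MulAction (zpowers f) W :=
      { smul := fun k u => ⟨(k : G) * u * (k : G)⁻¹, hWn k u u.2⟩
        one_smul := fun u => Subtype.ext (show ((1 : zpowers f) : G) * u * ((1 : zpowers f) : G)⁻¹ = u by simp)
        mul_smul := fun k l u => Subtype.ext (show ((k * l : zpowers f) : G) * u * ((k * l : zpowers f) : G)⁻¹ =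
          (k : G) * ((l : G) * u * (l : G)⁻¹) * (k : G)⁻¹ by rw [Subgroup.coe_mul]; group) }
    have hp : IsPGroup 5 (zpowers f) := IsPGroup.of_card (n := 1) (by rw [Nat.card_zpowers, hf, pow_one])
    have hm := hp.card_modEq_card_fixedPoints W
    refine hm.trans (congrArg (· % 5) (Nat.card_congr
      { toFun := fun u => ⟨(u.1 : G), u.1.2, mem_centralizer_singleton_iff.mpr
          (mul_inv_eq_iff_eq_mul.mp (congrArg Subtype.val (u.2 ⟨f, mem_zpowers f⟩))).symm⟩
        invFun := fun u => ⟨⟨(u : G), u.2.1⟩, fun k => Subtype.ext (by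
          show (k : G) * u * (k : G)⁻¹ = u
          obtain ⟨j, hj⟩ := mem_zpowers_iff.mp k.2
          rw [← hj, mul_inv_eq_iff_eq_mul]
          exact ((show Commute f u from (mem_centralizer_singleton_iff.mp u.2.2).symm).zpow_left j).eq)⟩
        left_inv := fun u => rfl
        right_inv := fun u => rfl }))
  have two : ∀ W : Subgroup G, W ≤ Q → z ∈ W →
      Nat.card W = 2 ∨ Nat.card W = 4 ∨ Nat.card W = 8 ∨ Nat.card W = 16 ∨ Nat.card W = 32 := by
    intro W hW hzW
    have hd : Nat.card W ∣ 2 ^ 5 := by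
      rw [show (2 : ℕ) ^ 5 = Nat.card Q by rw [h.card]; norm_num]
      exact card_dvd_of_le hW
    obtain ⟨k, hk, e⟩ := (Nat.dvd_prime_pow Nat.prime_two).mp hd
    have : 2 ≤ Nat.card W := by
      haveI : Nontrivial W := ⟨⟨⟨z, hzW⟩, 1, fun e => h.z_ne_one (congrArg Subtype.val e)⟩⟩
      exact Finite.one_lt_card
    interval_cases k <;> omega
  have eqQ : ∀ W : Subgroup G, W ≤ Q → Nat.card W = 32 → W = Q := fun W hW e =>
    eq_of_le_of_card_ge hW (by rw [e, h.card])
  have pair : ∀ W : Subgroup G, Nat.card W = 2 → z ∈ W → ∀ u ∈ W, u = 1 ∨ u = z := by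
    intro W e hzW u hu
    by_cases h1 : u = 1
    · exact Or.inl h1
    · exact Or.inr (H92.eq_of_mem_of_card_two e hu h1 hzW h.z_ne_one)
  have hfix : Nat.card (Q ⊓ centralizer ({f} : Set G) : Subgroup G) = 2 := by
    have := key Q le_rfl (fun u hu => h.norm f hfz u hu)
    rw [h.card] at this
    have hz' : z ∈ Q ⊓ centralizer ({f} : Set G) :=
      mem_inf.mpr ⟨h.hzQ, mem_centralizer_singleton_iff.mpr hfz.symm⟩
    rcases two _ inf_le_left hz' with e | e | e | e | e <;> try omega
    exfalso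
    have hall := eqQ _ inf_le_left e
    rcases h.cQ f (fun q hq => mem_centralizer_singleton_iff.mp (hall.ge hq).2) with e' | e'
    · rw [e', orderOf_one] at hf; omega
    · rw [e', h.hzo] at hf; omega
  have hUc : Nat.card (U ⊓ centralizer ({f} : Set G) : Subgroup G) = 2 := by
    have hz' : z ∈ U ⊓ centralizer ({f} : Set G) :=
      mem_inf.mpr ⟨hzU, mem_centralizer_singleton_iff.mpr hfz.symm⟩
    have := card_dvd_of_le (inf_le_inf_right (centralizer ({f} : Set G)) hU)
    rw [hfix] at this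
    rcases two _ (inf_le_left.trans hU) hz' with e | e | e | e | e <;>
      have := Nat.le_of_dvd (by norm_num) this <;> omega
  have hm := key U hU hinv
  rw [hUc] at hm
  obtain ⟨u, hu, hu1, huz⟩ := hne
  rcases two U hU hzU with e | e | e | e | e
  · rcases pair U e hzU u hu with r | r
    · exact absurd r hu1
    · exact absurd r huz
  all_goals first | exact eqQ U hU e | omega

end Setup

end Cfsg.Agent.H43.JTwo
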