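import Cfsg.Agent.H43.JTwo.ThreeB

/-!
The Sylow 7-normaliser.
-/

set_option autoImplicit false
set_option linter.style.haveILetI false
set_option linter.unusedSectionVars false
set_option linter.unusedSimpArgs false
set_option synthInstance.maxSize 4000

namespace Cfsg.Agent.H43.JTwo

open Subgroup

variable {G : Type*} [Group G] [Finite G] {z : G} {Q : Subgroup G}

namespace JSet

theorem card_D (D : JSet z Q) (P : Sylow 7 G) : Nat.card (P : Subgroup G) = 7 := by
  haveI : Fact (Nat.Prime 7) := ⟨by norm_num⟩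
  obtain ⟨t, a, σ, L, ρ, R, Z⟩ := D.exists_zthree
  rw [sylow_card_of (k := 1) (m := 86400) (by rw [Z.hG]; norm_num) (by norm_num) P, pow_one]

/-- No prime below five divides the order of the centraliser of a Sylow 7-subgroup. -/
theorem not_dvd_centD (D : JSet z Q) (P : Sylow 7 G) :
    ¬ 2 ∣ Nat.card ↥(centralizer ((P : Subgroup G) : Set G)) ∧
    ¬ 3 ∣ Nat.card ↥(centralizer ((P : Subgroup G) : Set G)) := by
  haveI : Fact (Nat.Prime 2) := ⟨by norm_num⟩
  haveI : Fact (Nat.Prime 3) := ⟨by norm_num⟩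
  obtain ⟨t, a, σ, L, ρ, R, Z⟩ := D.exists_zthree
  have key : ∀ {u v : G}, u ∈ centralizer ((P : Subgroup G) : Set G) → IsConj u v →
      7 ∣ Nat.card ↥(centralizer ({v} : Set G)) := by
    intro u v hu h
    obtain ⟨g, rfl⟩ := isConj_iff.mp h
    rw [card_cen_conj, ← D.card_D P]
    exact card_dvd_of_le fun p hp => mem_centralizer_singleton_iff.mpr (mem_centralizer_iff.mp hu p hp)
  constructor
  · intro hd
    obtain ⟨⟨u, hu⟩, ho⟩ := exists_prime_orderOf_dvd_card' 2 hd
    rw [orderOf_mk] at ho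
    have huu : u * u = 1 := by rw [← pow_two, ← ho, pow_orderOf_eq_one]
    have hu1 : u ≠ 1 := fun e => by rw [e, orderOf_one] at ho; omega
    by_cases hz : IsConj z u
    · have h := key hu hz.symm
      rw [D.base.cardC] at h
      norm_num at h
    · have h := key hu (D.conj_of_not Z.ht Z.toSigmaSet.t_ne_one Z.toSigmaSet.t_not_conj huu hu1 hz).symm
      rw [Z.hcard, Z.h60] at h
      norm_num at h
  · intro hd
    obtain ⟨⟨u, hu⟩, ho⟩ := exists_prime_orderOf_dvd_card' 3 hd
    rw [orderOf_mk] at ho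
    rcases Z.three_classes ho with h | h
    · have h' := key hu h
      rw [Z.card_cen] at h'
      norm_num at h'
    · have h' := key hu h
      rcases Z.toLSet.card_cen_sigma with e | e <;> rw [e] at h' <;> norm_num at h'

/-- A Sylow 7-subgroup is self-centralising with normaliser a non-abelian group of order 42. -/
theorem seven (D : JSet z Q) (P : Sylow 7 G) :
    centralizer ((P : Subgroup G) : Set G) = P ∧
    Nat.card ↥(normalizer ((P : Subgroup G) : Set G)) = 42 ∧
    ¬ IsMulCommutative ↥(normalizer ((P : Subgroup G) : Set G)) := by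
  classical
  haveI : Fact (Nat.Prime 7) := ⟨by norm_num⟩
  obtain ⟨t, a, σ, L, ρ, R, Z⟩ := D.exists_zthree
  have hP := D.card_D P
  set C := centralizer ((P : Subgroup G) : Set G) with hC
  set N := normalizer ((P : Subgroup G) : Set G) with hN
  haveI : IsCyclic (P : Subgroup G) := isCyclic_of_prime_card hP
  have hPC : (P : Subgroup G) ≤ C := fun p hp => mem_centralizer_iff.mpr fun q hq => by
    obtain ⟨g, hg⟩ := IsCyclic.exists_generator (α := (P : Subgroup G))
    obtain ⟨i, hi⟩ := mem_zpowers_iff.mp (hg ⟨p, hp⟩)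
    obtain ⟨j, hj⟩ := mem_zpowers_iff.mp (hg ⟨q, hq⟩)
    exact congrArg Subtype.val (show (⟨q, hq⟩ : (P : Subgroup G)) * ⟨p, hp⟩ = ⟨p, hp⟩ * ⟨q, hq⟩ by
      rw [← hi, ← hj, ← zpow_add, ← zpow_add, add_comm])
  have hCN : C ≤ N := centralizer_le_normalizer _
  have he : (C.subgroupOf N).index ∣ 6 := by
    rw [show C.subgroupOf N = (normalizerMonoidHom (P : Subgroup G)).ker from
      (normalizerMonoidHom_ker _).symm, index_ker]
    refine (card_subgroup_dvd_card _).trans ?_
    rw [IsCyclic.card_mulAut, hP, Nat.totient_prime (by norm_num)]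
  have hsplit : Nat.card N = Nat.card C * (C.subgroupOf N).index := by
    rw [← Nat.card_congr (subgroupOfEquivOfLe hCN).toEquiv, card_mul_index]
  obtain ⟨h2, h3⟩ := D.not_dvd_centD P
  have hmod := card_sylow_modEq_one 7 G
  rw [Sylow.card_eq_index_normalizer P] at hmod
  have hmod' : N.index % 7 = 1 := hmod
  have hGs := N.card_mul_index
  rw [Z.hG, hsplit] at hGs
  have h7 : 7 ∣ Nat.card C := hP ▸ card_dvd_of_le hPC
  have hdG : Nat.card C ∣ 604800 := Z.hG ▸ card_subgroup_dvd_card C
  have h175 : Nat.card C ∣ 175 := by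
    have hcop : Nat.Coprime (Nat.card C) (2 ^ 7 * 3 ^ 3) := Nat.Coprime.mul_right
      (Nat.Coprime.pow_right _ ((Nat.Prime.coprime_iff_not_dvd (by norm_num)).mpr h2).symm)
      (Nat.Coprime.pow_right _ ((Nat.Prime.coprime_iff_not_dvd (by norm_num)).mpr h3).symm)
    exact hcop.dvd_of_dvd_mul_left (by norm_num; exact hdG)
  have hmem : Nat.card C ∈ Nat.divisors 175 := Nat.mem_divisors.mpr ⟨h175, by norm_num⟩
  have hidx : (C.subgroupOf N).index ∈ Nat.divisors 6 := Nat.mem_divisors.mpr ⟨he, by norm_num⟩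
  rw [show Nat.divisors 175 = {1, 5, 7, 25, 35, 175} by decide +kernel] at hmem
  rw [show Nat.divisors 6 = {1, 2, 3, 6} by decide +kernel] at hidx
  simp only [Finset.mem_insert, Finset.mem_singleton] at hmem hidx
  have hres : Nat.card C = 7 ∧ (C.subgroupOf N).index = 6 := by
    rcases hmem with e | e | e | e | e | e <;> rcases hidx with i | i | i | i <;>
      rw [e] at hGs h7 ⊢ <;> rw [i] at hGs ⊢ <;> omega
  have hCP : C = P := (eq_of_le_of_card_ge hPC (by rw [hres.1, hP])).symm
  refine ⟨hCP, by rw [hsplit, hres.1, hres.2], fun hcm => ?_⟩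
  have hle : N ≤ C := fun n hn => mem_centralizer_iff.mpr fun q hq =>
    congrArg Subtype.val (hcm.is_comm.comm ⟨q, le_normalizer hq⟩ (⟨n, hn⟩ : N))
  have h1 : (C.subgroupOf N).index = 1 := index_eq_one.mpr (subgroupOf_eq_top.mpr hle)
  rw [hres.2] at h1
  norm_num at h1

end JSet

end Cfsg.Agent.H43.JTwo
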