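import Cfsg.Agent.H43.JTwo.NormB
import Cfsg.Agent.H43.JTwo.Quot
import Cfsg.Agent.H65.DihedralFusion
import Cfsg.Agent.S0497

/-!
The centraliser of an element of order three of `C`: order 1080, image `A₆`.
-/

set_option autoImplicit false
set_option linter.style.haveILetI false
set_option linter.unusedSectionVars false
set_option linter.unusedSimpArgs false
set_option synthInstance.maxSize 4000

namespace Cfsg.Agent.H43.JTwo

open Subgroup

/-- A three-cycle of five letters with its two fixed points. -/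
def IsThree5 (g : Equiv.Perm (Fin 5)) : Prop := g ≠ 1 ∧ g ^ 3 = 1 ∧ Equiv.Perm.sign g = 1

instance (g : Equiv.Perm (Fin 5)) : Decidable (IsThree5 g) := by unfold IsThree5; infer_instance

theorem three5_fix : ∀ g : Equiv.Perm (Fin 5), IsThree5 g →
    ∃ p q, p ≠ q ∧ g p = p ∧ g q = q ∧ ∀ j, g j = j → j = p ∨ j = q := by decide +kernel

theorem three5_cen : ∀ g : Equiv.Perm (Fin 5), IsThree5 g → ∀ h : Equiv.Perm (Fin 5),
    Equiv.Perm.sign h = 1 → h * g = g * h → h = 1 ∨ h = g ∨ h = g * g := by decide +kernel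

theorem three5_vec : ∀ g : Equiv.Perm (Fin 5), IsThree5 g → ∀ p q, p ≠ q → g p = p → g q = q →
    ∀ v : Fin 5 → ZMod 2, Even5 v → (∀ j, v (g j) = v j) →
      v = 0 ∨ v = Coord.sv p ∨ v = Coord.sv q ∨ v = Coord.sv p + Coord.sv q := by
  unfold Coord.sv; decide +kernel

/-- A fixed point stabiliser of `A₅` has no element inverting a three-cycle. -/
theorem three5_noinv : ∀ g : Equiv.Perm (Fin 5), IsThree5 g → ∀ p, g p = p →
    ∀ h : Equiv.Perm (Fin 5), Equiv.Perm.sign h = 1 → h p = p → h * g * h⁻¹ ≠ g⁻¹ := by decide +kernel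

theorem d8_cases : ∀ d : DihedralGroup 4, d * d = 1 →
    d = 1 ∨ d = .r 2 ∨ d = .sr 0 ∨ d = .sr 1 ∨ d = .sr 2 ∨ d = .sr 3 := by decide

theorem d8_sq : ∀ d : DihedralGroup 4, d * d = 1 ∨ d * d = .r 2 := by decide

variable {G : Type*} [Group G] [Finite G] {z : G} {Q : Subgroup G}

/-- Inclusion of a dihedral group of order eight. -/
theorem exists_d8 {u w : G} (hu : u * u = 1) (hw : w ^ 4 = 1) (huw : u * w * u = w⁻¹) :
    ∃ φ : DihedralGroup 4 →* G, φ (.r 1) = w ∧ φ (.sr 0) = u ∧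
      (∀ i, φ (.r i) = w ^ i.val) ∧ ∀ i, φ (.sr i) = u * w ^ i.val := by
  have hpow : ∀ i j : ZMod 4, w ^ i.val * w ^ j.val = w ^ (i + j).val := by
    intro i j
    rw [← pow_add, ZMod.val_add, pow_eq_pow_mod (i.val + j.val) hw]
  have huwn : ∀ n : ℕ, w ^ n * u = u * (w ^ n)⁻¹ := by
    intro n
    have h1 : u * w ^ n * u = (w ^ n)⁻¹ := by
      have hui : u⁻¹ = u := inv_eq_of_mul_eq_one_left hu
      have : (u * w * u⁻¹) ^ n = u * w ^ n * u⁻¹ := conj_pow
      rw [hui, huw, inv_pow] at this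
      exact this.symm
    rw [← h1]; simp [← mul_assoc, hu]
  have hneg : ∀ i : ZMod 4, (w ^ i.val)⁻¹ = w ^ (-i).val := fun i =>
    inv_eq_of_mul_eq_one_right (by rw [hpow, add_neg_cancel]; simp)
  let f : DihedralGroup 4 → G := fun d => match d with
    | .r i => w ^ i.val
    | .sr i => u * w ^ i.val
  refine ⟨MonoidHom.mk' f ?_, ?_, ?_, fun i => rfl, fun i => rfl⟩
  · intro a b
    rcases a with i | i <;> rcases b with j | j
    · show w ^ (i + j).val = w ^ i.val * w ^ j.val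
      rw [hpow]
    · show u * w ^ (j - i).val = w ^ i.val * (u * w ^ j.val)
      rw [← mul_assoc, huwn, mul_assoc, hneg, hpow]
      congr 2
      rw [neg_add_eq_sub]
    · show u * w ^ (i + j).val = u * w ^ i.val * w ^ j.val
      rw [mul_assoc, hpow]
    · show w ^ (j - i).val = u * w ^ i.val * (u * w ^ j.val)
      rw [mul_assoc, ← mul_assoc (w ^ i.val), huwn, ← mul_assoc, ← mul_assoc, hu, one_mul, hneg, hpow]
      congr 2
      rw [neg_add_eq_sub]
  · show w ^ (1 : ZMod 4).val = w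
    rw [show (1 : ZMod 4).val = 1 from rfl, pow_one]
  · show u * w ^ (0 : ZMod 4).val = u
    simp

/-- An element of order three of `C` with the two involutions `a`, `b` of `Q` it centralises and
the inclusion of `C_Q(x)`. -/
structure RSet (D : JSet z Q) (x a b : G) (φ : DihedralGroup 4 →* G) : Prop where
  hx : orderOf x = 3
  hxc : x * z = z * x
  pts : ∃ p q, p ≠ q ∧ D.s p = a ∧ D.s q = b ∧ D.pm x p = p ∧ D.pm x q = q
  inj : Function.Injective φ
  hr : φ (.r 2) = z
  hs0 : φ (.sr 0) = a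
  hs1 : φ (.sr 1) = b
  hs2 : φ (.sr 2) = z * a
  hs3 : φ (.sr 3) = z * b
  comm : ∀ d, φ d * x = x * φ d
  mem : ∀ d, φ d ∈ Q
  cov : ∀ c : G, c * x = x * c → c * z = z * c → ∃ w ∈ zpowers x, ∃ d, c = w * φ d

theorem JSet.exists_rset (D : JSet z Q) {x : G} (hx : orderOf x = 3) (hxc : x * z = z * x) :
    ∃ a b φ, RSet D x a b φ := by
  have hb := D.base
  have hxQ : x ∉ Q := by
    intro h
    have := Q.orderOf_dvd_natCard h
    rw [hx, hb.card] at this
    norm_num at this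
  have hx3 : x ^ 3 = 1 := hx ▸ pow_orderOf_eq_one x
  have hτ : IsThree5 (D.pm x) := ⟨fun e => hxQ (D.mem_of_pm_eq_one hxc e),
    by rw [← D.pm_pow hxc, hx3, D.pm_one], D.pm_even hxc⟩
  obtain ⟨p, q, hpq, hp, hq, honly⟩ := three5_fix _ hτ
  have hcs : ∀ i, D.pm x i = i → x * D.s i = D.s i * x := by
    intro i hi
    refine hb.commute_of_mod (n := 3) ⟨1, rfl⟩ hx3 hxc ?_
    have := D.pm_spec hxc i
    rwa [hi] at this
  set a := D.s p with ha
  set b := D.s q with hb'
  have hab : b * a = z * (a * b) := D.noncomm p q hpq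
  set w := a * b with hw
  have haa : a * a = 1 := D.ss p
  have hbb : b * b = 1 := D.ss q
  have hww : w * w = z := by
    rw [hw, show a * b * (a * b) = a * (b * a) * b by group, hab, ← mul_assoc a z, hb.zc (D.mem p),
      show z * a * (a * b) * b = z * (a * a) * (b * b) by group, haa, hbb, mul_one, mul_one]
  have hwinv : a * w * a = w⁻¹ := by
    rw [hw, mul_inv_rev, inv_eq_of_mul_eq_one_left hbb, inv_eq_of_mul_eq_one_left haa, ← mul_assoc a a,
      haa, one_mul]
  obtain ⟨φ, hφ1, hφ0, hφr, hφs⟩ := exists_d8 haa (show w ^ 4 = 1 by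
    rw [show 4 = 2 * 2 from rfl, pow_mul, pow_two, pow_two, hww, hb.zz]) hwinv
  have hφz : φ (.r 2) = z := by
    rw [hφr, show (2 : ZMod 4).val = 2 from rfl, pow_two, hww]
  have hs1 : φ (.sr 1) = b := by
    rw [hφs, show (1 : ZMod 4).val = 1 from rfl, pow_one, hw, ← mul_assoc, haa, one_mul]
  have hs2 : φ (.sr 2) = z * a := by
    rw [hφs, show (2 : ZMod 4).val = 2 from rfl, pow_two, hww, hb.zc (D.mem p)]
  have hs3 : φ (.sr 3) = z * b := by
    rw [hφs, show (3 : ZMod 4).val = 3 from rfl, pow_succ, pow_two, hww, ← mul_assoc, hb.zc (D.mem p),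
      mul_assoc, hw, ← mul_assoc a a, haa, one_mul]
  have hmemQ : ∀ d, φ d ∈ Q := by
    rintro (i | i)
    · rw [hφr]; exact pow_mem (mul_mem (D.mem p) (D.mem q)) _
    · rw [hφs]; exact mul_mem (D.mem p) (pow_mem (mul_mem (D.mem p) (D.mem q)) _)
  have hwx : w * x = x * w := Commute.mul_left (hcs p hp).symm (hcs q hq).symm
  have hcomm : ∀ d, φ d * x = x * φ d := by
    rintro (i | i)
    · rw [hφr]; exact Commute.pow_left hwx _
    · rw [hφs]; exact Commute.mul_left (hcs p hp).symm (Commute.pow_left hwx _)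
  refine ⟨a, b, φ, hx, hxc, ⟨p, q, hpq, rfl, rfl, hp, hq⟩, ?_, hφz, hφ0, hs1, hs2, hs3, hcomm, hmemQ, ?_⟩
  · rw [injective_iff_map_eq_one]
    have hne : z ≠ 1 := hb.z_ne_one
    intro d hd
    have hdd := congrArg (fun g => g * g) hd
    simp only [← map_mul, mul_one] at hdd
    rcases d8_sq d with e | e
    · rcases d8_cases d e with r | r | r | r | r | r <;> subst r
      · rfl
      · exact absurd (hφz.symm.trans hd) hne
      · exact absurd (hφ0.symm.trans hd) (D.s_ne p).1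
      · exact absurd (hs1.symm.trans hd) (D.s_ne q).1
      · exact absurd (hs2.symm.trans hd) fun e => (D.s_ne p).2
          ((eq_inv_of_mul_eq_one_right e).trans hb.z_inv)
      · exact absurd (hs3.symm.trans hd) fun e => (D.s_ne q).2
          ((eq_inv_of_mul_eq_one_right e).trans hb.z_inv)
    · rw [e, hφz] at hdd
      exact absurd hdd hne
  · intro c hc hcz
    obtain ⟨k, hk⟩ : ∃ k : ℕ, D.pm c = D.pm (x ^ k) := by
      rcases three5_cen _ hτ _ (D.pm_even hcz) (by rw [← D.pm_mul hcz hxc, hc, D.pm_mul hxc hcz])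
        with e | e | e
      · exact ⟨0, by rw [e, pow_zero, D.pm_one]⟩
      · exact ⟨1, by rw [e, pow_one]⟩
      · exact ⟨2, by rw [e, pow_two, D.pm_mul hxc hxc]⟩
    have hkz : x ^ k * z = z * x ^ k := Commute.pow_left hxc k
    refine ⟨x ^ k, npow_mem_zpowers x k, ?_⟩
    set r := (x ^ k)⁻¹ * c with hrd
    have hrz : r * z = z * r := Commute.mul_left (Commute.inv_left hkz) hcz
    have hrQ : r ∈ Q := D.mem_of_pm_eq_one hrz (by
      rw [hrd, D.pm_mul (Commute.inv_left hkz) hcz, D.pm_inv hkz, hk, inv_mul_cancel])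
    have hrx : r * x = x * r :=
      Commute.mul_left (Commute.inv_left (Commute.pow_left (Commute.refl x) k)) hc
    have hinv : ∀ j, D.beta r (D.pm x j) = D.beta r j := fun j => by
      have := D.beta_conj hxc hrQ j
      rwa [← hrx, mul_inv_cancel_right] at this
    have hmem : ∃ d, D.beta r = D.beta (φ d) := by
      rcases three5_vec _ hτ p q hpq hp hq _ (D.beta_even hrQ) hinv with e | e | e | e
      · exact ⟨1, by rw [e, map_one, D.beta_one]⟩
      · exact ⟨.sr 0, by rw [e, hφ0, ha, D.beta_s]⟩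
      · exact ⟨.sr 1, by rw [e, hs1, hb', D.beta_s]⟩
      · exact ⟨.r 1, by rw [e, hφ1, hw, D.beta_mul (D.mem p) (D.mem q), D.beta_s, D.beta_s]⟩
    obtain ⟨d, hd⟩ := hmem
    rcases D.eq_of_beta_eq (hmemQ d) hrQ hd.symm with e | e
    · exact ⟨d, by rw [← e, hrd, mul_inv_cancel_left]⟩
    · exact ⟨.r 2 * d, by rw [map_mul, hφz, ← e, hrd, mul_inv_cancel_left]⟩

namespace RSet

variable {D : JSet z Q} {x a b : G} {φ : DihedralGroup 4 →* G}

theorem x_ne_one (R : RSet D x a b φ) : x ≠ 1 := fun e => by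
  have := R.hx; rw [e, orderOf_one] at this; omega

theorem odd_order (R : RSet D x a b φ) : Odd (orderOf x) := by rw [R.hx]; decide

theorem disj (R : RSet D x a b φ) {d : DihedralGroup 4} (h : φ d ∈ zpowers x) : φ d = 1 := by
  have h1 : orderOf (φ d) ∣ 3 := R.hx ▸ orderOf_dvd_of_mem_zpowers h
  have h2 : orderOf (φ d) ∣ 8 := by
    refine (orderOf_map_dvd φ d).trans ?_
    have : (8 : ℕ) = Fintype.card (DihedralGroup 4) := by rw [DihedralGroup.card]
    rw [this]; exact orderOf_dvd_card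
  exact orderOf_eq_one_iff.mp (Nat.eq_one_of_dvd_coprimes (by norm_num) h1 h2)

theorem card_zx (R : RSet D x a b φ) :
    Nat.card ↥(centralizer ({z} : Set G) ⊓ centralizer ({x} : Set G)) = 24 := by
  let f : zpowers x × DihedralGroup 4 → ↥(centralizer ({z} : Set G) ⊓ centralizer ({x} : Set G)) :=
    fun p => ⟨(p.1 : G) * φ p.2, mem_inf.mpr
      ⟨mem_centralizer_singleton_iff.mpr (Commute.mul_left
        (comm_of_mem_zpowers p.1.2 R.hxc.symm).symm (D.base.zc (R.mem p.2))),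
      mem_centralizer_singleton_iff.mpr (Commute.mul_left
        (comm_of_mem_zpowers p.1.2 rfl).symm (R.comm p.2))⟩⟩
  have hf : Function.Bijective f := by
    constructor
    · rintro ⟨v, d⟩ ⟨v', d'⟩ e
      have e' : (v : G) * φ d = (v' : G) * φ d' := congrArg Subtype.val e
      have hm : φ (d * d'⁻¹) ∈ zpowers x := by
        rw [map_mul, map_inv, show φ d * (φ d')⁻¹ = (v : G)⁻¹ * v' from by
          rw [eq_inv_mul_iff_mul_eq, ← mul_assoc, e', mul_inv_cancel_right]]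
        exact mul_mem (inv_mem v.2) v'.2
      have hd : d = d' := mul_inv_eq_one.mp (R.inj ((R.disj hm).trans (map_one φ).symm))
      subst hd
      exact Prod.ext (Subtype.ext (mul_right_cancel e')) rfl
    · rintro ⟨c, hc⟩
      obtain ⟨v, hv, d, rfl⟩ := R.cov c (mem_centralizer_singleton_iff.mp (mem_inf.mp hc).2)
        (mem_centralizer_singleton_iff.mp (mem_inf.mp hc).1)
      exact ⟨(⟨v, hv⟩, d), Subtype.ext rfl⟩
  rw [← Nat.card_congr (Equiv.ofBijective f hf), Nat.card_prod, Nat.card_zpowers, R.hx,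
    Nat.card_eq_fintype_card, DihedralGroup.card]

/-- `z` and `a` are conjugate in `C(x)`. -/
theorem fuse_za (R : RSet D x a b φ) : ∃ c : G, c * x = x * c ∧ c * z * c⁻¹ = z * a := by
  classical
  haveI : Fact (Nat.Prime 3) := ⟨by norm_num⟩
  have hb := D.base
  obtain ⟨p, q, hpq, hap, hbq, hp, hq⟩ := R.pts
  have hτ3 : x ^ 3 = 1 := R.hx ▸ pow_orderOf_eq_one x
  have hxQ : x ∉ Q := by
    intro h
    have := Q.orderOf_dvd_natCard h
    rw [R.hx, hb.card] at this
    norm_num at this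
  have hτ : IsThree5 (D.pm x) := ⟨fun e => hxQ (D.mem_of_pm_eq_one R.hxc e),
    by rw [← D.pm_pow R.hxc, hτ3, D.pm_one], D.pm_even R.hxc⟩
  -- a swap of `z` and `a`
  obtain ⟨t, htt, htz, htQ⟩ := D.exists_t
  obtain ⟨g, hg⟩ := isConj_iff.mp (D.conj p)
  have haQ : a ∈ Q := hap ▸ D.mem p
  obtain ⟨t', hta⟩ : ∃ t' : G, TSet D t' a := by
    have hexists : ∀ p : Fin 5, ∃ σ : Equiv.Perm (Fin 5), IsInv5 σ ∧ σ p = p := by decide +kernel
    obtain ⟨g0, hg0, hgc⟩ := hexists p
    obtain ⟨u, hu, huc, huQ, hup⟩ := D.exists_lift hg0 htt htz htQ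
    exact ⟨u, hu, huc, huQ, p, hap, by rw [hup]; exact hgc⟩
  obtain ⟨g', hg', hP⟩ := hta.pair_setting
  obtain ⟨k, hk1, hk2⟩ := hP.exists_swap
  rw [hg'] at hk1 hk2
  -- `k` acts on `M = C(z) ∩ C(a)`
  set M := centralizer ({z} : Set G) ⊓ centralizer ({a} : Set G) with hM
  have mM : ∀ {c : G}, c ∈ M ↔ c * z = z * c ∧ c * a = a * c := fun {c} => by
    rw [hM, mem_inf, mem_centralizer_singleton_iff, mem_centralizer_singleton_iff]
  have hax : a * x = x * a := R.hs0 ▸ R.comm _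
  have hxM : x ∈ M := mM.mpr ⟨R.hxc, hax.symm⟩
  have h9 : ¬ 9 ∣ Nat.card M := by
    intro h
    have h1 : 9 ∣ 1920 := h.trans (hb.cardC ▸ card_dvd_of_le inf_le_left)
    norm_num at h1
  have hxcard : Nat.card ((zpowers x).subgroupOf M) = 3 := by
    rw [Nat.card_congr (subgroupOfEquivOfLe (zpowers_le.mpr hxM)).toEquiv, Nat.card_zpowers, R.hx]
  have hidx : ¬ 3 ∣ ((zpowers x).subgroupOf M).index := by
    intro h
    apply h9
    rw [← ((zpowers x).subgroupOf M).card_mul_index, hxcard]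
    obtain ⟨m, hm⟩ := h
    exact ⟨m, by rw [hm]; ring⟩
  have hkx : k * x * k⁻¹ ∈ M := by
    refine mM.mpr ⟨?_, ?_⟩
    · rw [← hk2]
      calc k * x * k⁻¹ * (k * a * k⁻¹) = k * (x * a) * k⁻¹ := by group
        _ = k * (a * x) * k⁻¹ := by rw [hax]
        _ = _ := by group
    · rw [← hk1]
      calc k * x * k⁻¹ * (k * z * k⁻¹) = k * (x * z) * k⁻¹ := by group
        _ = k * (z * x) * k⁻¹ := by rw [R.hxc]
        _ = _ := by group
  have hp3 : IsPGroup 3 ((zpowers x).subgroupOf M) := IsPGroup.of_card (n := 1) (by rw [hxcard]; norm_num)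
  have hy : IsPGroup 3 (zpowers (⟨k * x * k⁻¹, hkx⟩ : M)) := IsPGroup.of_card (n := 1) (by
    rw [Nat.card_zpowers, ← orderOf_coe, pow_one]
    exact (MulEquiv.orderOf_eq (MulAut.conj k) x).trans R.hx)
  obtain ⟨T, hT⟩ := hy.exists_le_sylow
  obtain ⟨h, hh⟩ := MulAction.exists_smul_eq M T (hp3.toSylow hidx)
  have hmem : (h : G) * (k * x * k⁻¹) * (h : G)⁻¹ ∈ zpowers x := by
    have : h * ⟨k * x * k⁻¹, hkx⟩ * h⁻¹ ∈ ((h • T : Sylow 3 M) : Subgroup M) := by
      rw [Sylow.coe_subgroup_smul, mem_pointwise_smul_iff_inv_smul_mem, MulAut.smul_def]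
      simp only [← map_inv, MulAut.conj_apply, inv_inv]
      convert hT (mem_zpowers _) using 1
      group
    rw [hh] at this
    exact this
  set m := (h : G) * k with hm
  obtain ⟨hhz, hha⟩ := mM.mp h.2
  have hm1 : m * z * m⁻¹ = a := by
    rw [hm, show (h : G) * k * z * ((h : G) * k)⁻¹ = (h : G) * (k * z * k⁻¹) * (h : G)⁻¹ by group, hk1,
      hha, mul_inv_cancel_right]
  have hm2 : m * a * m⁻¹ = z := by
    rw [hm, show (h : G) * k * a * ((h : G) * k)⁻¹ = (h : G) * (k * a * k⁻¹) * (h : G)⁻¹ by group, hk2,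
      hhz, mul_inv_cancel_right]
  have hm3 : m * (z * a) * m⁻¹ = z * a := by
    rw [show m * (z * a) * m⁻¹ = (m * z * m⁻¹) * (m * a * m⁻¹) by group, hm1, hm2, hb.zc haQ]
  have hmx : m * x * m⁻¹ ∈ zpowers x := by
    rw [hm, show (h : G) * k * x * ((h : G) * k)⁻¹ = (h : G) * (k * x * k⁻¹) * (h : G)⁻¹ by group]
    exact hmem
  have hcases : m * x * m⁻¹ = x ∨ m * x * m⁻¹ = x⁻¹ := by
    obtain ⟨j, hj⟩ := mem_zpowers_iff.mp hmx
    have h3 : (x : G) ^ (3 : ℤ) = 1 := by rw [show (3 : ℤ) = ((3 : ℕ) : ℤ) from rfl, zpow_natCast, hτ3]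
    have hj3 : x ^ j = x ^ (j % 3) := by
      conv_lhs => rw [← Int.mul_ediv_add_emod j 3, zpow_add, zpow_mul, h3, one_zpow, one_mul]
    rw [hj3] at hj
    have h0 := Int.emod_nonneg j (show (3 : ℤ) ≠ 0 by norm_num)
    have h2 := Int.emod_lt_of_pos j (show (0 : ℤ) < 3 by norm_num)
    interval_cases hjm : j % 3
    · rw [zpow_zero] at hj
      exact absurd (conj_eq_one_iff.mp hj.symm) R.x_ne_one
    · left; rw [← hj, zpow_one]
    · right
      rw [← hj]
      refine eq_inv_of_mul_eq_one_left ?_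
      rw [show x ^ (2 : ℤ) * x = x ^ (3 : ℤ) by group, h3]
  -- `b` swaps `a` and `z a`
  have hbx : b * x = x * b := R.hs1 ▸ R.comm _
  have hbQ : b ∈ Q := hbq ▸ D.mem q
  have hba : b * a * b⁻¹ = z * a := by
    rw [mul_inv_eq_iff_eq_mul, ← hap, ← hbq, mul_assoc]
    exact D.noncomm p q hpq
  rcases hcases with e | e
  · refine ⟨b * m, Commute.mul_left hbx (mul_inv_eq_iff_eq_mul.mp e), ?_⟩
    rw [show b * m * z * (b * m)⁻¹ = b * (m * z * m⁻¹) * b⁻¹ by group, hm1, hba]
  · refine ⟨m * b * m, ?_, ?_⟩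
    · refine mul_inv_eq_iff_eq_mul.mp ?_
      rw [show m * b * m * x * (m * b * m)⁻¹ = m * (b * (m * x * m⁻¹) * b⁻¹) * m⁻¹ by group, e,
        show b * x⁻¹ * b⁻¹ = x⁻¹ by rw [mul_inv_eq_iff_eq_mul]; exact (show Commute b x from hbx).inv_right.eq,
        ← conj_inv, e, inv_inv]
    · rw [show m * b * m * z * (m * b * m)⁻¹ = m * (b * (m * z * m⁻¹) * b⁻¹) * m⁻¹ by group, hm1, hba, hm3]

end RSet

end Cfsg.Agent.H43.JTwo
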