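import Cfsg.Agent.H43.JTwo.Five
import Cfsg.Agent.H65.OrderThreeSixty
import Cfsg.Agent.H49.OrderFourth

/-!
The Sylow 3-structure.
-/

set_option autoImplicit false
set_option linter.style.haveILetI false
set_option linter.unusedSectionVars false
set_option linter.unusedSimpArgs false
set_option synthInstance.maxSize 4000

namespace Cfsg.Agent.H43.JTwo

open Subgroup
open scoped commutatorElement

/-- Representatives of the elements of order three of `A₆`, with an involution they cycle. -/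
theorem six_four_reps :
    (∃ v : Equiv.Perm (Fin 6), Equiv.Perm.sign v = 1 ∧ v * v = 1 ∧ v ≠ 1 ∧
      c[0, 1, 2] * v * (c[0, 1, 2])⁻¹ ≠ v ∧
      v * (c[0, 1, 2] * v * (c[0, 1, 2])⁻¹) = (c[0, 1, 2] * v * (c[0, 1, 2])⁻¹) * v ∧
      c[0, 1, 2] * (c[0, 1, 2] * v * (c[0, 1, 2])⁻¹) * (c[0, 1, 2])⁻¹ =
        v * (c[0, 1, 2] * v * (c[0, 1, 2])⁻¹)) ∧
    (∃ v : Equiv.Perm (Fin 6), Equiv.Perm.sign v = 1 ∧ v * v = 1 ∧ v ≠ 1 ∧
      (c[0, 1, 2] * c[3, 4, 5]) * v * (c[0, 1, 2] * c[3, 4, 5])⁻¹ ≠ v ∧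
      v * ((c[0, 1, 2] * c[3, 4, 5]) * v * (c[0, 1, 2] * c[3, 4, 5])⁻¹) =
        ((c[0, 1, 2] * c[3, 4, 5]) * v * (c[0, 1, 2] * c[3, 4, 5])⁻¹) * v ∧
      (c[0, 1, 2] * c[3, 4, 5]) * ((c[0, 1, 2] * c[3, 4, 5]) * v * (c[0, 1, 2] * c[3, 4, 5])⁻¹) *
        (c[0, 1, 2] * c[3, 4, 5])⁻¹ =
        v * ((c[0, 1, 2] * c[3, 4, 5]) * v * (c[0, 1, 2] * c[3, 4, 5])⁻¹)) :=
  ⟨⟨Equiv.swap 0 1 * Equiv.swap 2 3, by decide +kernel⟩,
   ⟨Equiv.swap 0 3 * Equiv.swap 1 4, by decide +kernel⟩⟩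

/-- An element of order three of `A₆` cycles the involutions of a four-group. -/
theorem six_four (x : Equiv.Perm (Fin 6)) (hx : orderOf x = 3) :
    ∃ v : Equiv.Perm (Fin 6), Equiv.Perm.sign v = 1 ∧ v * v = 1 ∧ v ≠ 1 ∧ x * v * x⁻¹ ≠ v ∧
      v * (x * v * x⁻¹) = (x * v * x⁻¹) * v ∧ x * (x * v * x⁻¹) * x⁻¹ = v * (x * v * x⁻¹) := by
  have hp : (orderOf x).Prime := by rw [hx]; norm_num
  obtain ⟨n, hn⟩ := Equiv.Perm.cycleType_prime_order hp
  have hs := x.sum_cycleType_le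
  rw [hn, Multiset.sum_replicate, hx, smul_eq_mul, Fintype.card_fin] at hs
  have tr : ∀ {c : Equiv.Perm (Fin 6)}, IsConj c x →
      (∃ v : Equiv.Perm (Fin 6), Equiv.Perm.sign v = 1 ∧ v * v = 1 ∧ v ≠ 1 ∧ c * v * c⁻¹ ≠ v ∧
        v * (c * v * c⁻¹) = (c * v * c⁻¹) * v ∧ c * (c * v * c⁻¹) * c⁻¹ = v * (c * v * c⁻¹)) →
      ∃ v : Equiv.Perm (Fin 6), Equiv.Perm.sign v = 1 ∧ v * v = 1 ∧ v ≠ 1 ∧ x * v * x⁻¹ ≠ v ∧
        v * (x * v * x⁻¹) = (x * v * x⁻¹) * v ∧ x * (x * v * x⁻¹) * x⁻¹ = v * (x * v * x⁻¹) := by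
    intro c hc ⟨v, h1, h2, h3, h4, h5, h6⟩
    obtain ⟨g, rfl⟩ := isConj_iff.mp hc
    refine ⟨g * v * g⁻¹, ?_, ?_, ?_, ?_, ?_, ?_⟩
    · simp [h1, mul_comm (Equiv.Perm.sign g)]
    · calc g * v * g⁻¹ * (g * v * g⁻¹) = g * (v * v) * g⁻¹ := by group
        _ = 1 := by rw [h2]; group
    · exact fun e => h3 (conj_eq_one_iff.mp e)
    · intro e
      apply h4
      calc c * v * c⁻¹ = g⁻¹ * (g * c * g⁻¹ * (g * v * g⁻¹) * (g * c * g⁻¹)⁻¹) * g := by group
        _ = v := by rw [e]; group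
    · calc g * v * g⁻¹ * (g * c * g⁻¹ * (g * v * g⁻¹) * (g * c * g⁻¹)⁻¹)
            = g * (v * (c * v * c⁻¹)) * g⁻¹ := by group
        _ = g * ((c * v * c⁻¹) * v) * g⁻¹ := by rw [h5]
        _ = _ := by group
    · calc g * c * g⁻¹ * (g * c * g⁻¹ * (g * v * g⁻¹) * (g * c * g⁻¹)⁻¹) * (g * c * g⁻¹)⁻¹
            = g * (c * (c * v * c⁻¹) * c⁻¹) * g⁻¹ := by group
        _ = g * (v * (c * v * c⁻¹)) * g⁻¹ := by rw [h6]
        _ = _ := by group
  rcases (show n = 0 ∨ n = 1 by omega) with rfl | rfl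
  · refine tr (Equiv.Perm.isConj_iff_cycleType_eq.mpr ?_) six_four_reps.1
    rw [hn, hx]; decide +kernel
  · refine tr (Equiv.Perm.isConj_iff_cycleType_eq.mpr ?_) six_four_reps.2
    rw [hn, hx]; decide +kernel

theorem inv5_move : ∀ i j : Fin 5, ∃ τ : Equiv.Perm (Fin 5), IsInv5 τ ∧ τ i = j := by
  decide +kernel

variable {G : Type*} [Group G] [Finite G] {z : G} {Q : Subgroup G}

theorem sq_of_isConj {u x : G} (hu : u * u = 1) (h : IsConj u x) : x * x = 1 := by
  obtain ⟨g, rfl⟩ := isConj_iff.mp h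
  rw [show g * u * g⁻¹ * (g * u * g⁻¹) = g * (u * u) * g⁻¹ by group, hu]; group

theorem ne_one_of_isConj {u x : G} (hu : u ≠ 1) (h : IsConj u x) : x ≠ 1 := by
  obtain ⟨g, rfl⟩ := isConj_iff.mp h
  exact fun e => hu (conj_eq_one_iff.mp e)

theorem conj_cancel {g x y : G} (h : g * x * g⁻¹ = g * y * g⁻¹) : x = y :=
  mul_left_cancel (mul_right_cancel h)

namespace JSet

theorem exists_rho (D : JSet z Q) : ∃ ρ : G, orderOf ρ = 3 ∧ ρ * z = z * ρ := by
  haveI : Fact (Nat.Prime 3) := ⟨by norm_num⟩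
  obtain ⟨⟨ρ, hρ⟩, ho⟩ := exists_prime_orderOf_dvd_card' (G := centralizer ({z} : Set G)) 3
    (by rw [D.base.cardC]; norm_num)
  rw [orderOf_mk] at ho
  exact ⟨ρ, ho, mem_centralizer_singleton_iff.mp hρ⟩

/-- Any `s_i` is carried to `a` or `za` by an element of `C`. -/
theorem exists_move (D : JSet z Q) {t : G} (ht : t * t = 1) (htc : t * z = z * t) (htQ : t ∉ Q)
    (i j : Fin 5) : ∃ u : G, u * z = z * u ∧ (u * D.s i * u⁻¹ = D.s j ∨ u * D.s i * u⁻¹ = z * D.s j) := by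
  obtain ⟨τ, hτ, hij⟩ := inv5_move i j
  obtain ⟨u, -, huz, -, hpm⟩ := D.exists_lift hτ ht htc htQ
  refine ⟨u, huz, ?_⟩
  have h := D.act_spec huz i
  rw [← D.pm_apply huz, hpm, hij] at h
  exact h

end JSet

namespace LSet

variable {D : JSet z Q} {t a σ : G} {L : Subgroup G}

theorem card_cen_sigma (S : LSet D t a σ L) :
    Nat.card ↥(centralizer ({σ} : Set G)) = 36 ∨ Nat.card ↥(centralizer ({σ} : Set G)) = 180 := by
  rw [card_cq, S.hσ]
  rcases S.card_cq_cases S.hσL (Or.inl S.hσ) with h | h <;> rw [h] <;> norm_num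

theorem sigma_real (S : LSet D t a σ L) : IsConj σ σ⁻¹ := by
  obtain ⟨l, -, -, hl⟩ := (S.L_facts S.hσL (Or.inl S.hσ)).2.2
  exact isConj_iff.mpr ⟨l, hl⟩

end LSet

/-- The data for the Sylow 3-structure: `ρ` in `C` and a Sylow subgroup centralising it. -/
structure ZThree (D : JSet z Q) (t a σ : G) (L : Subgroup G) (ρ : G) (P : Sylow 3 G) : Prop
    extends LSet D t a σ L where
  hρ : orderOf ρ = 3
  hρz : ρ * z = z * ρ
  hρP : ρ ∈ (P : Subgroup G)
  P_le : (P : Subgroup G) ≤ centralizer ({ρ} : Set G)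

theorem JSet.exists_zthree (D : JSet z Q) : ∃ t a σ L ρ P, ZThree D t a σ L ρ P := by
  haveI : Fact (Nat.Prime 3) := ⟨by norm_num⟩
  obtain ⟨t, htt, htz, htQ⟩ := D.exists_t
  obtain ⟨a, σ, L, S⟩ := D.exists_lset htt htz htQ
  obtain ⟨ρ, hρ, hρz⟩ := D.exists_rho
  set K := centralizer ({ρ} : Set G) with hK
  obtain ⟨T, hT⟩ := exists_sylow_mem (p := 3) (G := K) (v := ⟨ρ, mem_centralizer_singleton_iff.mpr rfl⟩)
    (by rw [orderOf_mk]; exact hρ)
  have hTc : Nat.card ((T : Subgroup K).map K.subtype) = 27 := by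
    rw [← Nat.card_congr ((T : Subgroup K).equivMapOfInjective _ K.subtype_injective).toEquiv,
      sylow_card_of (k := 3) (m := 40) (by rw [(D.card_cen_three hρ hρz).2]; norm_num) (by norm_num) T]
    norm_num
  obtain ⟨P, hP⟩ := (IsPGroup.of_card (n := 3) (by rw [hTc]; norm_num) :
    IsPGroup 3 ((T : Subgroup K).map K.subtype)).exists_le_sylow
  have hPc : Nat.card (P : Subgroup G) = 27 := by
    rw [sylow_card_of (k := 3) (m := 22400) (by rw [(D.card_eq S).1]; norm_num) (by norm_num) P]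
    norm_num
  have heq : (T : Subgroup K).map K.subtype = P := eq_of_le_of_card_ge hP (by rw [hPc, hTc])
  exact ⟨t, a, σ, L, ρ, P, S, hρ, hρz, heq ▸ ⟨_, hT, rfl⟩, heq ▸ map_subtype_le _⟩

namespace ZThree

variable {D : JSet z Q} {t a σ ρ : G} {L : Subgroup G} {P : Sylow 3 G}

theorem hG (Z : ZThree D t a σ L ρ P) : Nat.card G = 604800 := (D.card_eq Z.toLSet).1

theorem cardP (Z : ZThree D t a σ L ρ P) : Nat.card (P : Subgroup G) = 27 := by
  haveI : Fact (Nat.Prime 3) := ⟨by norm_num⟩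
  rw [sylow_card_of (k := 3) (m := 22400) (by rw [Z.hG]; norm_num) (by norm_num) P]
  norm_num

theorem card_cen (Z : ZThree D t a σ L ρ P) : Nat.card ↥(centralizer ({ρ} : Set G)) = 1080 :=
  (D.card_cen_three Z.hρ Z.hρz).2

theorem rho_ne (Z : ZThree D t a σ L ρ P) : ρ ≠ 1 := fun e => by
  have := Z.hρ; rw [e, orderOf_one] at this; omega

theorem not_conj (Z : ZThree D t a σ L ρ P) {w : G} (hw : w ∈ zpowers ρ) : ¬ IsConj σ w := by
  intro h
  obtain ⟨g, hg⟩ := isConj_iff.mp h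
  have hw1 : w ≠ 1 := fun e => by
    rw [e] at hg
    have := Z.hσ
    rw [conj_eq_one_iff.mp hg, orderOf_one] at this
    omega
  have hz' := zpowers_eq_of_prime (by norm_num) Z.hρ hw hw1
  have hc := card_cen_conj g σ
  rw [hg, ← cen_eq_of_mem_zpowers hw (hz' ▸ mem_zpowers ρ), Z.card_cen] at hc
  rcases Z.toLSet.card_cen_sigma with h | h <;> omega

theorem nonab (Z : ZThree D t a σ L ρ P) :
    ¬ ∀ p q : (P : Subgroup G), p * q = q * p := by
  intro hab
  haveI : Fact (Nat.Prime 3) := ⟨by norm_num⟩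
  obtain ⟨T, hT⟩ := exists_sylow_mem Z.hσ
  obtain ⟨g, hg⟩ := MulAction.exists_smul_eq G T P
  have hmem : g * σ * g⁻¹ ∈ (P : Subgroup G) := by
    rw [← hg, Sylow.coe_subgroup_smul, mem_pointwise_smul_iff_inv_smul_mem, MulAut.smul_def]
    simp only [← map_inv, MulAut.conj_apply, inv_inv]
    convert hT using 1
    group
  have hle : (P : Subgroup G) ≤ centralizer ({g * σ * g⁻¹} : Set G) := fun p hp =>
    mem_centralizer_singleton_iff.mpr (congrArg Subtype.val (hab ⟨p, hp⟩ ⟨_, hmem⟩))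
  have h := card_dvd_of_le hle
  rw [card_cen_conj, Z.cardP] at h
  rcases Z.toLSet.card_cen_sigma with e | e <;> rw [e] at h <;> norm_num at h

theorem extraspecial (Z : ZThree D t a σ L ρ P) : Cfsg.IsExtraspecial 3 (P : Subgroup G) := by
  haveI : Fact (Nat.Prime 3) := ⟨by norm_num⟩
  exact H49.extraspecial_of_card_cube (by rw [Z.cardP]; norm_num) Z.nonab

theorem center_mem (Z : ZThree D t a σ L ρ P) {p : (P : Subgroup G)} (hp : p ∈ center (P : Subgroup G)) :
    (p : G) ∈ zpowers ρ := by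
  set r : (P : Subgroup G) := ⟨ρ, Z.hρP⟩ with hr
  have hle : zpowers r ≤ center (P : Subgroup G) := zpowers_le.mpr (mem_center_iff.mpr fun q =>
    Subtype.ext (mem_centralizer_singleton_iff.mp (Z.P_le q.2)))
  have heq := eq_of_le_of_card_ge hle (by
    rw [Z.extraspecial.2, Nat.card_zpowers, hr, orderOf_mk, Z.hρ])
  obtain ⟨k, hk⟩ := mem_zpowers_iff.mp (heq.ge hp)
  rw [← hk]
  push_cast
  exact zpow_mem (mem_zpowers ρ) k

/-- A non-central element of `P` is conjugate to all elements of its coset modulo the centre. -/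
theorem coset_conj (Z : ZThree D t a σ L ρ P) {x : G} (hx : x ∈ (P : Subgroup G))
    (hxρ : x ∉ zpowers ρ) {w : G} (hw : w ∈ zpowers ρ) : IsConj x (x * w) := by
  have hxc : (⟨x, hx⟩ : (P : Subgroup G)) ∉ center (P : Subgroup G) := fun h => hxρ (Z.center_mem h)
  rw [mem_center_iff] at hxc
  push Not at hxc
  obtain ⟨p, hp⟩ := hxc
  have hcm : ⁅p, (⟨x, hx⟩ : (P : Subgroup G))⁆ ∈ commutator (P : Subgroup G) :=
    commutator_mem_commutator (mem_top _) (mem_top _)
  have hsub : commutator (P : Subgroup G) ≤ center (P : Subgroup G) := Z.extraspecial.1.2.2.le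
  have hc : (p : G) * x * (p : G)⁻¹ * x⁻¹ ∈ zpowers ρ := Z.center_mem (hsub hcm)
  set c : G := (p : G) * x * (p : G)⁻¹ * x⁻¹ with hcd
  have hc1 : c ≠ 1 := fun e => hp (Subtype.ext (by
    rw [hcd, mul_inv_eq_one, mul_inv_eq_iff_eq_mul] at e
    exact e))
  have hxc : x * c = c * x :=
    comm_of_mem_zpowers hc (mem_centralizer_singleton_iff.mp (Z.P_le hx))
  have hpc : (p : G) * c = c * p :=
    comm_of_mem_zpowers hc (mem_centralizer_singleton_iff.mp (Z.P_le p.2))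
  have hstep : (p : G) * x * (p : G)⁻¹ = x * c := by rw [hxc, hcd, inv_mul_cancel_right]
  have hpow : ∀ n : ℕ, (p : G) ^ n * x * ((p : G) ^ n)⁻¹ = x * c ^ n := by
    intro n
    induction n with
    | zero => simp
    | succ n ih =>
      calc (p : G) ^ (n + 1) * x * ((p : G) ^ (n + 1))⁻¹
          = (p : G) * ((p : G) ^ n * x * ((p : G) ^ n)⁻¹) * (p : G)⁻¹ := by rw [pow_succ']; group
        _ = (p : G) * (x * c ^ n) * (p : G)⁻¹ := by rw [ih]
        _ = ((p : G) * x * (p : G)⁻¹) * ((p : G) * c ^ n * (p : G)⁻¹) := by group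
        _ = x * c * c ^ n := by
          rw [hstep, show (p : G) * c ^ n = c ^ n * p from (Commute.pow_right hpc n).eq, mul_inv_cancel_right]
        _ = _ := by rw [pow_succ', mul_assoc]
  have hw' : w ∈ zpowers c := (zpowers_eq_of_prime (by norm_num) Z.hρ hc hc1).ge hw
  obtain ⟨n, hn⟩ := mem_zpowers_pow (n := 3) (orderOf_dvd_iff_pow_eq_one.mp
    (Z.hρ ▸ orderOf_dvd_of_mem_zpowers hc)) hw'
  exact isConj_iff.mpr ⟨(p : G) ^ (n : ℕ), by rw [hpow, hn]⟩

/-- An element of order three centralising `ρ` cycles three commuting conjugates of `z`. -/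
theorem exists_cycle (Z : ZThree D t a σ L ρ P) {x : G} (hx : orderOf x = 3) (hxρ : x * ρ = ρ * x)
    (hxn : x ∉ zpowers ρ) :
    ∃ v : G, IsConj z v ∧ v * ρ = ρ * v ∧ x * v * x⁻¹ ≠ v ∧
      v * (x * v * x⁻¹) = (x * v * x⁻¹) * v ∧ x * (x * v * x⁻¹) * x⁻¹ = v * (x * v * x⁻¹) := by
  obtain ⟨e⟩ := (D.quot_three Z.hρ Z.hρz).2
  have hodd : Odd (orderOf ρ) := by rw [Z.hρ]; decide
  have hx3 : x ^ 3 = 1 := hx ▸ pow_orderOf_eq_one x
  set y := qm ρ hxρ with hy
  have hy1 : y ≠ 1 := fun h => hxn ((qm_eq_one _).mp h)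
  have hy3 : y ^ 3 = 1 := by
    rw [pow_three, hy]
    refine (qm_eq_one (c := x * (x * x)) (Commute.mul_left hxρ (Commute.mul_left hxρ hxρ))).mpr ?_
    rw [← pow_three, hx3]
    exact one_mem _
  haveI : Fact (Nat.Prime 3) := ⟨by norm_num⟩
  have ho : orderOf ((e y : alternatingGroup (Fin 6)) : Equiv.Perm (Fin 6)) = 3 := by
    rw [orderOf_coe, MulEquiv.orderOf_eq]
    exact orderOf_eq_prime hy3 hy1
  obtain ⟨v₀, hs, hvv, hv1, hne, hcomm, hcyc⟩ := six_four _ ho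
  set vA : alternatingGroup (Fin 6) := ⟨v₀, Equiv.Perm.mem_alternatingGroup.mpr hs⟩ with hvA
  set vb : CQ ρ := e.symm vA with hvb
  have hev : e vb = vA := e.apply_symm_apply _
  have hb2 : vb * vb = 1 := e.injective (by rw [map_mul, hev, map_one]; exact Subtype.ext hvv)
  have hb1 : vb ≠ 1 := fun h => hv1 (by
    rw [h, map_one] at hev
    exact (congrArg Subtype.val hev).symm)
  have hbne : y * vb * y⁻¹ ≠ vb := fun h => hne (by
    have := congrArg (fun w => ((e w : alternatingGroup (Fin 6)) : Equiv.Perm (Fin 6))) h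
    simpa [hev] using this)
  have hbcomm : vb * (y * vb * y⁻¹) = (y * vb * y⁻¹) * vb := e.injective (Subtype.ext (by
    simpa [hev] using hcomm))
  have hbcyc : y * (y * vb * y⁻¹) * y⁻¹ = vb * (y * vb * y⁻¹) := e.injective (Subtype.ext (by
    simpa [hev] using hcyc))
  obtain ⟨v, hv, hvv', hv1', hqv⟩ := exists_invol_lift hodd hb2 hb1
  set v' := x * v * x⁻¹ with hv'
  have hv'c : v' * ρ = ρ * v' := Commute.mul_left (Commute.mul_left hxρ hv) (Commute.inv_left hxρ)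
  have hq' : qm ρ hv'c = y * vb * y⁻¹ := by rw [← hqv, hy]; rfl
  have hv'2 : v' * v' = 1 := by
    rw [hv', show x * v * x⁻¹ * (x * v * x⁻¹) = x * (v * v) * x⁻¹ by group, hvv']; group
  have hvv'c : v * v' = v' * v := (conj_invol_eq hodd hv hvv' hv'c (by rw [hqv, hq', hbcomm])).symm
  obtain ⟨a', b', φ, R⟩ := D.exists_rset Z.hρ Z.hρz
  obtain ⟨c, -, hc⟩ := R.invol_conj hv hvv' hv1'
  refine ⟨v, isConj_iff.mpr ⟨c, hc⟩, hv, fun h => hbne ?_, hvv'c, ?_⟩
  · rw [← hq', ← hqv]; exact qm_congr _ _ h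
  · have h2 : x * v' * x⁻¹ * ρ = ρ * (x * v' * x⁻¹) :=
      Commute.mul_left (Commute.mul_left hxρ hv'c) (Commute.inv_left hxρ)
    refine eq_of_qm_invol hodd h2 (Commute.mul_left hv hv'c) ?_ ?_ ?_
    · rw [show x * v' * x⁻¹ * (x * v' * x⁻¹) = x * (v' * v') * x⁻¹ by group, hv'2]; group
    · rw [show v * v' * (v * v') = v * (v' * v) * v' by group, ← hvv'c,
        show v * (v * v') * v' = v * v * (v' * v') by group, hvv', hv'2, one_mul]
    · rw [← qm_mul hv hv'c, hq', hqv, ← hbcyc, ← hq', hy]; rfl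

/-- Move such a triple to `{z, a, za}`. -/
theorem exists_to_za (Z : ZThree D t a σ L ρ P) {v w : G} (hv : IsConj z v) (hw : IsConj z w)
    (hne : w ≠ v) (hc : v * w = w * v) :
    ∃ h : G, h * v * h⁻¹ = z ∧ (h * w * h⁻¹ = a ∨ h * w * h⁻¹ = z * a) := by
  obtain ⟨g, hg⟩ := isConj_iff.mp hv.symm
  set w' := g * w * g⁻¹ with hw'
  have hw'z : w' * z = z * w' := by
    rw [hw', ← hg]
    calc g * w * g⁻¹ * (g * v * g⁻¹) = g * (w * v) * g⁻¹ := by group
      _ = g * (v * w) * g⁻¹ := by rw [hc]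
      _ = _ := by group
  have hzw : IsConj z w' := hw.trans (isConj_iff.mpr ⟨g, rfl⟩)
  have hww : w' * w' = 1 := sq_of_isConj D.base.zz hzw
  have hw1 : w' ≠ 1 := ne_one_of_isConj D.base.z_ne_one hzw
  have hQ : w' ∈ Q := (D.conj_iff hww hw1 hw'z).mp hzw
  obtain ⟨j, rfl, -⟩ := Z.ha
  rcases D.invol_cases hQ hww with h | h | ⟨i, hi⟩
  · exact absurd h hw1
  · exact absurd (conj_cancel (g := g) (show g * w * g⁻¹ = g * v * g⁻¹ by rw [hg]; exact h)) hne
  · obtain ⟨u, huz, hu⟩ := D.exists_move Z.ht Z.htc Z.htQ i j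
    have huzz : u * z * u⁻¹ = z := mul_inv_eq_iff_eq_mul.mpr huz
    refine ⟨u * g, ?_, ?_⟩
    · rw [show u * g * v * (u * g)⁻¹ = u * (g * v * g⁻¹) * u⁻¹ by group, hg, huzz]
    · rw [show u * g * w * (u * g)⁻¹ = u * w' * u⁻¹ by rw [hw']; group]
      have hzsq : ∀ y : G, z * (z * y) = y := D.base.mulZ_inv
      rcases hi with hi | hi <;> rw [hi]
      · exact hu
      · rw [show u * (z * D.s i) * u⁻¹ = (u * z * u⁻¹) * (u * D.s i * u⁻¹) by group, huzz]
        rcases hu with e | e <;> rw [e]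
        · exact Or.inr rfl
        · exact Or.inl (hzsq _)

theorem mem_set_normalizer {S : Set G} (hS : S.Finite) {g : G} (h : ∀ y ∈ S, g * y * g⁻¹ ∈ S) :
    g ∈ normalizer S := by
  rw [mem_set_normalizer_iff]
  intro y
  refine ⟨h y, fun hy => ?_⟩
  have hsurj := (hS.injOn_iff_bijOn_of_mapsTo (f := fun y => g * y * g⁻¹) h).mp
    (fun _ _ _ _ e => conj_cancel e)
  obtain ⟨y', hy', e⟩ := hsurj.surjOn hy
  rwa [← conj_cancel e]

/-- `σ` is conjugate to every element of order three of `C(ρ)` outside `⟨ρ⟩`, modulo `⟨ρ⟩` and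
inversion. -/
theorem sigma_conj_mod (Z : ZThree D t a σ L ρ P) {x : G} (hx : orderOf x = 3) (hxρ : x * ρ = ρ * x)
    (hxn : x ∉ zpowers ρ) :
    ∃ w ∈ zpowers ρ, IsConj σ (x * w) ∨ IsConj σ (x⁻¹ * w) := by
  classical
  haveI := Fintype.ofFinite G
  haveI : Fact (Nat.Prime 3) := ⟨by norm_num⟩
  obtain ⟨v, hzv, hvρ, hne, hcomm, hcyc⟩ := Z.exists_cycle hx hxρ hxn
  set v' := x * v * x⁻¹ with hv'
  have hzv' : IsConj z v' := hzv.trans (isConj_iff.mpr ⟨x, rfl⟩)
  obtain ⟨h, hhv, hhv'⟩ := Z.exists_to_za hzv hzv' hne hcomm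
  set S : Set G := {z, a, z * a} with hS
  set K := normalizer S with hK
  have hSf : S.Finite := Set.toFinite _
  have hall : h * (v * v') * h⁻¹ ∈ S ∧ h * v' * h⁻¹ ∈ S ∧ h * v * h⁻¹ ∈ S := by
    have e : h * (v * v') * h⁻¹ = z * (h * v' * h⁻¹) := by rw [← hhv]; group
    rw [e, hhv]
    rcases hhv' with e' | e' <;> rw [e'] <;> simp [hS, D.base.mulZ_inv]
  have hcov : ∀ y ∈ S, y = h * v * h⁻¹ ∨ y = h * v' * h⁻¹ ∨ y = h * (v * v') * h⁻¹ := by
    have e : h * (v * v') * h⁻¹ = z * (h * v' * h⁻¹) := by rw [← hhv]; group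
    intro y hy
    rw [e, hhv]
    rcases hhv' with e' | e' <;> rw [e'] <;>
      simp only [hS, Set.mem_insert_iff, Set.mem_singleton_iff] at hy <;>
      rcases hy with rfl | rfl | rfl <;> simp [D.base.mulZ_inv]
  set x₁ := h * x * h⁻¹ with hx₁
  set ρ₁ := h * ρ * h⁻¹ with hρ₁
  have hv'ρ : v' * ρ = ρ * v' := Commute.mul_left (Commute.mul_left hxρ hvρ) (Commute.inv_left hxρ)
  have hρK : ρ₁ ∈ K := by
    refine mem_set_normalizer hSf fun y hy => ?_
    have key : ∀ r : G, r * ρ = ρ * r → ρ₁ * (h * r * h⁻¹) * ρ₁⁻¹ = h * r * h⁻¹ := fun r hr => by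
      calc ρ₁ * (h * r * h⁻¹) * ρ₁⁻¹ = h * (ρ * r) * ρ⁻¹ * h⁻¹ := by rw [hρ₁]; group
        _ = _ := by rw [← hr]; group
    rcases hcov y hy with rfl | rfl | rfl
    · rw [key v hvρ]; exact hy
    · rw [key v' hv'ρ]; exact hy
    · rw [key _ (Commute.mul_left hvρ hv'ρ)]; exact hy
  have hxK : x₁ ∈ K := by
    refine mem_set_normalizer hSf fun y hy => ?_
    have key : ∀ r : G, x₁ * (h * r * h⁻¹) * x₁⁻¹ = h * (x * r * x⁻¹) * h⁻¹ := fun r => by
      rw [hx₁]; group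
    rcases hcov y hy with rfl | rfl | rfl
    · rw [key v, ← hv']; exact hall.2.1
    · rw [key v', hcyc]; exact hall.1
    · rw [key, show x * (v * v') * x⁻¹ = (x * v * x⁻¹) * (x * v' * x⁻¹) by group, ← hv', hcyc,
        hcomm, show v' * (v' * v) = v' * v' * v by group, show v' * v' = 1 from sq_of_isConj D.base.zz hzv', one_mul]
      exact hall.2.2
  have hσK : σ ∈ K := by
    refine mem_set_normalizer hSf fun y hy => ?_
    simp only [hS, Set.mem_insert_iff, Set.mem_singleton_iff] at hy ⊢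
    rcases hy with rfl | rfl | rfl
    · exact Or.inr (Or.inl Z.hσz)
    · exact Or.inr (Or.inr Z.hσa)
    · exact Or.inl Z.toSigmaSet.sig_za
  have h27 : ¬ 27 ∣ Nat.card K := by
    intro hd
    have ho := TSet.orbit_stab K z
    set O := Finset.univ.image fun c : K => (c : G) * z * (c : G)⁻¹ with hO
    have hsub : O ⊆ ({z, a, z * a} : Finset G) := by
      intro y hy
      obtain ⟨c, -, rfl⟩ := Finset.mem_image.mp hy
      have := (mem_set_normalizer_iff.mp c.2 z).mp (by simp [hS])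
      simpa [hS] using this
    have h3 : O.card ≤ 3 := (Finset.card_le_card hsub).trans Finset.card_le_three
    have hdv : Nat.card ↥(K ⊓ centralizer ({z} : Set G)) ∣ 1920 :=
      D.base.cardC ▸ card_dvd_of_le inf_le_right
    rw [ho] at hd
    have h27' : 27 ∣ O.card * 1920 := hd.trans (Nat.mul_dvd_mul_left _ hdv)
    have hO1 : 1 ≤ O.card := Finset.card_pos.mpr (Finset.univ_nonempty.image _)
    interval_cases O.card <;> norm_num at h27'
  set xK : K := ⟨x₁, hxK⟩ with hxKd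
  set ρK : K := ⟨ρ₁, hρK⟩ with hρKd
  have hco : Commute xK ρK := Subtype.ext (by
    show x₁ * ρ₁ = ρ₁ * x₁
    calc x₁ * ρ₁ = h * (x * ρ) * h⁻¹ := by rw [hx₁, hρ₁]; group
      _ = h * (ρ * x) * h⁻¹ := by rw [hxρ]
      _ = _ := by rw [hx₁, hρ₁]; group)
  let f : zpowers xK × zpowers ρK →* K :=
    MonoidHom.noncommCoprod (zpowers xK).subtype (zpowers ρK).subtype fun p q => by
      obtain ⟨i, hi⟩ := mem_zpowers_iff.mp p.2
      obtain ⟨j, hj⟩ := mem_zpowers_iff.mp q.2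
      show Commute (p : K) (q : K)
      rw [← hi, ← hj]
      exact hco.zpow_zpow i j
  have hoρ : orderOf ρK = 3 := by
    rw [← orderOf_coe]; exact (MulEquiv.orderOf_eq (MulAut.conj h) ρ).trans Z.hρ
  have hox : orderOf xK = 3 := by
    rw [← orderOf_coe]; exact (MulEquiv.orderOf_eq (MulAut.conj h) x).trans hx
  have hfi : Function.Injective f := by
    rw [injective_iff_map_eq_one]
    rintro ⟨p, q⟩ hpq
    have e : (p : K) * (q : K) = 1 := hpq
    by_cases hp : (p : K) = 1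
    · rw [hp, one_mul] at e
      exact Prod.ext (Subtype.ext hp) (Subtype.ext e)
    exfalso
    apply hxn
    have hpm : (p : K) ∈ zpowers ρK := by rw [eq_inv_of_mul_eq_one_left e]; exact inv_mem q.2
    have := (zpowers_eq_of_prime (by norm_num) hox p.2 hp).ge (mem_zpowers xK)
    obtain ⟨k, hk⟩ := mem_zpowers_iff.mp (zpowers_le.mpr hpm this)
    refine mem_zpowers_iff.mpr ⟨k, conj_cancel (g := h) ?_⟩
    have hk' := congrArg Subtype.val hk
    push_cast at hk'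
    rw [← conj_zpow]
    exact hk'
  have hHc : Nat.card f.range = 3 ^ 2 := by
    rw [← Nat.card_congr (MonoidHom.ofInjective hfi).toEquiv, Nat.card_prod, Nat.card_zpowers,
      Nat.card_zpowers, hox, hoρ]
    norm_num
  have hidx : ¬ 3 ∣ f.range.index := by
    intro hd
    apply h27
    rw [← f.range.card_mul_index, hHc]
    obtain ⟨m, hm⟩ := hd
    exact ⟨m, by rw [hm]; ring⟩
  set σK : K := ⟨σ, hσK⟩ with hσKd
  obtain ⟨T, hT⟩ := exists_sylow_mem (p := 3) (G := K) (v := σK) (by rw [orderOf_mk]; exact Z.hσ)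
  obtain ⟨g, hg⟩ := MulAction.exists_smul_eq K T ((IsPGroup.of_card hHc).toSylow hidx)
  have hmem : g * σK * g⁻¹ ∈ f.range := by
    have : g * σK * g⁻¹ ∈ ((g • T : Sylow 3 K) : Subgroup K) := by
      rw [Sylow.coe_subgroup_smul, mem_pointwise_smul_iff_inv_smul_mem, MulAut.smul_def]
      simp only [← map_inv, MulAut.conj_apply, inv_inv]
      convert hT using 1
      group
    rw [hg] at this
    exact this
  obtain ⟨⟨p, q⟩, hpq⟩ := hmem
  have e : (p : K) * (q : K) = g * σK * g⁻¹ := hpq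
  obtain ⟨i, hi⟩ := mem_zpowers_pow (hox ▸ pow_orderOf_eq_one xK) p.2
  obtain ⟨j, hj⟩ := mem_zpowers_pow (hoρ ▸ pow_orderOf_eq_one ρK) q.2
  have eG := congrArg Subtype.val e
  rw [hi, hj] at eG
  push_cast at eG
  have hc : IsConj σ (x ^ (i : ℕ) * ρ ^ (j : ℕ)) := isConj_iff.mpr ⟨h⁻¹ * g, by
    calc h⁻¹ * g * σ * (h⁻¹ * g)⁻¹ = h⁻¹ * ((g : G) * σ * (g : G)⁻¹) * h := by group
      _ = h⁻¹ * ((h * x * h⁻¹) ^ (i : ℕ) * (h * ρ * h⁻¹) ^ (j : ℕ)) * h := by rw [← eG]
      _ = _ := by rw [conj_pow, conj_pow]; group⟩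
  refine ⟨ρ ^ (j : ℕ), pow_mem (mem_zpowers ρ) _, ?_⟩
  rcases (show (i : ℕ) = 0 ∨ (i : ℕ) = 1 ∨ (i : ℕ) = 2 by omega) with h0 | h1 | h2
  · rw [h0, pow_zero, one_mul] at hc
    exact absurd hc (Z.not_conj (pow_mem (mem_zpowers ρ) _))
  · rw [h1, pow_one] at hc
    exact Or.inl hc
  · right
    rw [h2] at hc
    rwa [show x⁻¹ = x ^ 2 from inv_eq_of_mul_eq_one_left (by rw [← pow_succ, show 2 + 1 = orderOf x from hx.symm, pow_orderOf_eq_one])]

/-- `|N(P) ∩ C(ρ)| = 108`. -/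
theorem card_norm_cen (Z : ZThree D t a σ L ρ P) :
    Nat.card ↥(normalizer ((P : Subgroup G) : Set G) ⊓ centralizer ({ρ} : Set G)) = 108 := by
  classical
  haveI : Fact (Nat.Prime 3) := ⟨by norm_num⟩
  haveI := (D.quot_three Z.hρ Z.hρz).1
  haveI := Fintype.ofFinite (CQ ρ)
  have hX := (D.card_cen_three Z.hρ Z.hρz).1
  set K := centralizer ({ρ} : Set G) with hK
  set PK := (P : Subgroup G).subgroupOf K with hPK
  set f := QuotientGroup.mk' ((zpowers ρ).subgroupOf K) with hf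
  have hsurj : Function.Surjective f := QuotientGroup.mk'_surjective _
  have hker : f.ker ≤ PK := by
    rw [hf, QuotientGroup.ker_mk']
    exact fun y hy => (zpowers_le.mpr Z.hρP) hy
  have hPKc : Nat.card PK = 27 := by
    rw [hPK, Nat.card_congr (subgroupOfEquivOfLe Z.P_le).toEquiv, Z.cardP]
  have hidx : PK.index = 40 := by
    have := PK.card_mul_index
    rw [hPKc, show Nat.card ↥K = 1080 from Z.card_cen] at this
    omega
  set Pb := PK.map f with hPb
  have hPbi : Pb.index = 40 := (index_map_eq PK hsurj hker).trans hidx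
  have hPb9 : Nat.card Pb = 9 := by
    have := Pb.card_mul_index
    rw [hPbi, show Nat.card (↥K ⧸ (zpowers ρ).subgroupOf K) = 360 from hX] at this
    omega
  have hN : (normalizer (PK : Set K)).index = (normalizer (Pb : Set (↥K ⧸ (zpowers ρ).subgroupOf K))).index := by
    conv_rhs => rw [← index_comap_of_surjective _ hsurj, comap_normalizer_eq_of_surjective _ hsurj,
      hPb, comap_map_eq_self hker]
  let T : Sylow 3 K := (IsPGroup.of_card (n := 3) (by rw [hPKc]; norm_num) : IsPGroup 3 PK).toSylow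
    (by rw [hidx]; norm_num)
  have hn := Sylow.card_eq_index_normalizer T
  have hmod := card_sylow_modEq_one 3 K
  rw [hn] at hmod
  have hmod' : (normalizer (PK : Set K)).index % 3 = 1 := hmod
  have hdvd : (normalizer (PK : Set K)).index ∣ 40 := hidx ▸ index_dvd_of_le le_normalizer
  have h6 : 6 ≤ (normalizer (PK : Set K)).index := by
    rw [hN]
    refine H65.DihedralAltSix.six_le_index hX ?_
    refine H65.OrderThreeSixty.normalizer_ne_top hX (fun h => ?_) (by rw [hPb9]; norm_num)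
    rw [h, card_bot] at hPb9
    omega
  have h40 : (normalizer (PK : Set K)).index ≠ 40 := by
    intro h40
    rw [hN] at h40
    have hle : Pb ≤ normalizer (Pb : Set (↥K ⧸ (zpowers ρ).subgroupOf K)) := le_normalizer
    have heq : normalizer (Pb : Set (↥K ⧸ (zpowers ρ).subgroupOf K)) = Pb := by
      refine (eq_of_le_of_card_ge hle (le_of_eq ?_)).symm
      have h1 := Pb.card_mul_index
      have h2 := (normalizer (Pb : Set (↥K ⧸ (zpowers ρ).subgroupOf K))).card_mul_index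
      rw [h40] at h2
      rw [hPbi] at h1
      omega
    let Tb : Sylow 3 (↥K ⧸ (zpowers ρ).subgroupOf K) :=
      (IsPGroup.of_card (n := 2) (by rw [hPb9]; norm_num) : IsPGroup 3 Pb).toSylow (by rw [hPbi]; norm_num)
    haveI : IsMulCommutative Pb := IsPGroup.isMulCommutative_of_card_eq_prime_sq (p := 3) (by
      rw [hPb9]; norm_num)
    obtain ⟨⟨y, hy⟩, hy3⟩ := exists_prime_orderOf_dvd_card' (G := Pb) 3 (by rw [hPb9]; norm_num)
    rw [orderOf_mk] at hy3
    obtain ⟨n, hn, hne⟩ := H65.OrderThreeSixty.sylow_three_moved hX Tb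
      (fun p hp q hq => congrArg Subtype.val (mul_comm' (⟨p, hp⟩ : Pb) ⟨q, hq⟩)) hy hy3
    have hnP : n ∈ Pb := heq ▸ hn
    exact hne (mul_inv_eq_iff_eq_mul.mpr (congrArg Subtype.val (mul_comm' (⟨n, hnP⟩ : Pb) ⟨y, hy⟩)))
  have h10 : (normalizer (PK : Set K)).index = 10 := by
    have := Nat.le_of_dvd (by norm_num) hdvd
    interval_cases h : (normalizer (PK : Set K)).index <;> omega
  have hc := (normalizer (PK : Set K)).card_mul_index
  rw [h10, show Nat.card ↥K = 1080 from Z.card_cen] at hc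
  have hiff : ∀ c : K, c ∈ normalizer (PK : Set K) ↔ (c : G) ∈ normalizer ((P : Subgroup G) : Set G) := by
    intro c
    rw [mem_normalizer_iff, mem_normalizer_iff]
    constructor
    · intro h y
      constructor
      · intro hy
        exact (h ⟨y, Z.P_le hy⟩).mp hy
      · intro hy
        have hyK : y ∈ K := by
          have := mul_mem (mul_mem (inv_mem c.2) (Z.P_le hy)) c.2
          simpa [mul_assoc] using this
        exact (h ⟨y, hyK⟩).mpr hy
    · intro h y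
      exact h (y : G)
  have he : Nat.card (normalizer (PK : Set K)) =
      Nat.card ↥(normalizer ((P : Subgroup G) : Set G) ⊓ K) := Nat.card_congr
    { toFun := fun c => ⟨((c : K) : G), mem_inf.mpr ⟨(hiff c.1).mp c.2, (c : K).2⟩⟩
      invFun := fun c => ⟨⟨(c : G), (mem_inf.mp c.2).2⟩, (hiff _).mpr (mem_inf.mp c.2).1⟩
      left_inv := fun c => rfl
      right_inv := fun c => rfl }
  omega

theorem norm_conj_cases (Z : ZThree D t a σ L ρ P) {n : G}
    (hn : n ∈ normalizer ((P : Subgroup G) : Set G)) : n * ρ * n⁻¹ = ρ ∨ n * ρ * n⁻¹ = ρ⁻¹ := by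
  set r : (P : Subgroup G) := ⟨n * ρ * n⁻¹, (mem_normalizer_iff.mp hn ρ).mp Z.hρP⟩ with hr
  have hc : r ∈ center (P : Subgroup G) := mem_center_iff.mpr fun q => Subtype.ext (by
    have hq : n⁻¹ * (q : G) * n ∈ (P : Subgroup G) :=
      (mem_normalizer_iff.mp hn _).mpr (by simp [mul_assoc])
    show (q : G) * (n * ρ * n⁻¹) = n * ρ * n⁻¹ * q
    calc (q : G) * (n * ρ * n⁻¹) = n * (n⁻¹ * (q : G) * n * ρ) * n⁻¹ := by group
      _ = n * (ρ * (n⁻¹ * (q : G) * n)) * n⁻¹ := by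
        rw [mem_centralizer_singleton_iff.mp (Z.P_le hq)]
      _ = _ := by group)
  obtain ⟨k, hk⟩ := mem_zpowers_pow (n := 3) (Z.hρ ▸ pow_orderOf_eq_one ρ) (Z.center_mem hc)
  change n * ρ * n⁻¹ = _ at hk
  rcases (show (k : ℕ) = 0 ∨ (k : ℕ) = 1 ∨ (k : ℕ) = 2 by omega) with h | h | h <;> rw [h] at hk
  · exact absurd (conj_eq_one_iff.mp (hk.trans (pow_zero ρ))) Z.rho_ne
  · exact Or.inl (hk.trans (pow_one ρ))
  · refine Or.inr (hk.trans (inv_eq_of_mul_eq_one_left ?_).symm)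
    rw [← pow_succ, show 2 + 1 = orderOf ρ from Z.hρ.symm, pow_orderOf_eq_one]

/-- `|N(P)| = 216`, and `ρ` is real. -/
theorem card_normP (Z : ZThree D t a σ L ρ P) :
    Nat.card ↥(normalizer ((P : Subgroup G) : Set G)) = 216 ∧ IsConj ρ ρ⁻¹ := by
  classical
  haveI := Fintype.ofFinite G
  haveI : Fact (Nat.Prime 3) := ⟨by norm_num⟩
  set N := normalizer ((P : Subgroup G) : Set G) with hN
  have ho := TSet.orbit_stab N ρ
  rw [Z.card_norm_cen] at ho
  set O := Finset.univ.image fun c : N => (c : G) * ρ * (c : G)⁻¹ with hO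
  have hsub : O ⊆ ({ρ, ρ⁻¹} : Finset G) := by
    intro y hy
    obtain ⟨c, -, rfl⟩ := Finset.mem_image.mp hy
    rcases Z.norm_conj_cases c.2 with e | e <;> rw [e] <;> simp
  have h2 : O.card ≤ 2 := (Finset.card_le_card hsub).trans Finset.card_le_two
  have hn := Sylow.card_eq_index_normalizer P
  have hmod := card_sylow_modEq_one 3 G
  rw [hn] at hmod
  have hmod' : N.index % 3 = 1 := hmod
  have hsplit := N.card_mul_index
  rw [Z.hG, ho] at hsplit
  have hcard : O.card = 2 := by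
    interval_cases h : O.card <;> omega
  refine ⟨by rw [ho, hcard], ?_⟩
  have heq := Finset.eq_of_subset_of_card_le hsub (Finset.card_le_two.trans hcard.ge)
  obtain ⟨c, -, hc⟩ := Finset.mem_image.mp (heq.symm ▸ (by simp : ρ⁻¹ ∈ ({ρ, ρ⁻¹} : Finset G)))
  exact isConj_iff.mpr ⟨c, hc⟩

/-- Every element of order three is conjugate to `ρ` or to `σ`. -/
theorem three_classes (Z : ZThree D t a σ L ρ P) {c : G} (hc : orderOf c = 3) :
    IsConj c ρ ∨ IsConj c σ := by
  haveI : Fact (Nat.Prime 3) := ⟨by norm_num⟩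
  obtain ⟨T, hT⟩ := exists_sylow_mem hc
  obtain ⟨g, hg⟩ := MulAction.exists_smul_eq G T P
  set x := g * c * g⁻¹ with hxd
  have hmem : x ∈ (P : Subgroup G) := by
    rw [hxd, ← hg, Sylow.coe_subgroup_smul, mem_pointwise_smul_iff_inv_smul_mem, MulAut.smul_def]
    simp only [← map_inv, MulAut.conj_apply, inv_inv]
    convert hT using 1
    group
  have hx3 : orderOf x = 3 := (MulEquiv.orderOf_eq (MulAut.conj g) c).trans hc
  have hcx : IsConj c x := isConj_iff.mpr ⟨g, rfl⟩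
  by_cases hxρ : x ∈ zpowers ρ
  · obtain ⟨k, hk⟩ := mem_zpowers_pow (n := 3) (Z.hρ ▸ pow_orderOf_eq_one ρ) hxρ
    left
    rcases (show (k : ℕ) = 0 ∨ (k : ℕ) = 1 ∨ (k : ℕ) = 2 by omega) with h | h | h <;> rw [h] at hk
    · rw [hk, pow_zero, orderOf_one] at hx3; omega
    · rwa [hk, pow_one] at hcx
    · refine hcx.trans ?_
      rw [hk, show ρ ^ 2 = ρ⁻¹ from (inv_eq_of_mul_eq_one_left (by
        rw [← pow_succ, show 2 + 1 = orderOf ρ from Z.hρ.symm, pow_orderOf_eq_one])).symm]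
      exact Z.card_normP.2.symm
  · right
    obtain ⟨w, hw, h | h⟩ :=
      Z.sigma_conj_mod hx3 (mem_centralizer_singleton_iff.mp (Z.P_le hmem)) hxρ
    · exact hcx.trans ((Z.coset_conj hmem hxρ hw).trans h.symm)
    · have h1 : IsConj σ x⁻¹ :=
        h.trans (Z.coset_conj (inv_mem hmem) (fun hi => hxρ (inv_mem_iff.mp hi)) hw).symm
      obtain ⟨d, hd⟩ := isConj_iff.mp h1
      have h2 : IsConj σ⁻¹ x := isConj_iff.mpr ⟨d, by rw [← inv_inv x, ← hd]; group⟩
      exact hcx.trans (Z.toLSet.sigma_real.trans h2).symm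

end ZThree

end Cfsg.Agent.H43.JTwo
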