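import Cfsg.Agent.H43.JTwo.ThreeA

/-!
`C(x)/⟨x⟩ ≅ A₆` for `x` of order three in `C`.
-/

set_option autoImplicit false
set_option linter.style.haveILetI false
set_option linter.unusedSectionVars false
set_option linter.unusedSimpArgs false
set_option synthInstance.maxSize 4000

namespace Cfsg.Agent.H43.JTwo

open Subgroup

variable {G : Type*} [Group G] [Finite G] {z : G} {Q : Subgroup G}

namespace RSet

variable {D : JSet z Q} {x a b : G} {φ : DihedralGroup 4 →* G}

theorem a_invol (R : RSet D x a b φ) : a * a = 1 ∧ a ≠ 1 ∧ a * x = x * a ∧ a * z = z * a := by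
  obtain ⟨p, q, -, hp, -⟩ := R.pts
  refine ⟨hp ▸ D.ss p, hp ▸ (D.s_ne p).1, R.hs0 ▸ R.comm _, D.base.zc (hp ▸ D.mem p)⟩

theorem swap_roles (R : RSet D x a b φ) :
    ∃ c : G, c * x = x * c ∧ c * z * c⁻¹ = z * b := by
  obtain ⟨p, q, hpq, hp, hq, hpx, hqx⟩ := R.pts
  -- the same data with the two points exchanged
  obtain ⟨ψ, -, -, -, -⟩ : ∃ ψ : DihedralGroup 4 →* G, ψ = φ ∧ True ∧ True ∧ True := ⟨φ, rfl, trivial, trivial, trivial⟩
  let e : DihedralGroup 4 →* DihedralGroup 4 :=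
    { toFun := fun d => match d with
        | .r i => .r (-i)
        | .sr i => .sr (1 - i)
      map_one' := by decide
      map_mul' := by decide }
  have R' : RSet D x b a (φ.comp e) :=
    { hx := R.hx
      hxc := R.hxc
      pts := ⟨q, p, hpq.symm, hq, hp, hqx, hpx⟩
      inj := R.inj.comp (by decide)
      hr := R.hr
      hs0 := R.hs1
      hs1 := R.hs0
      hs2 := R.hs3
      hs3 := R.hs2
      comm := fun d => R.comm _
      mem := fun d => R.mem _
      cov := fun c hc hcz => by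
        obtain ⟨w, hw, d, rfl⟩ := R.cov c hc hcz
        refine ⟨w, hw, e d, ?_⟩
        have hee : ∀ d, e (e d) = d := by decide
        show _ = w * φ (e (e d))
        rw [hee] }
  exact R'.fuse_za

theorem z_conj (R : RSet D x a b φ) {d : DihedralGroup 4} (hd : φ d * φ d = 1) (hd1 : φ d ≠ 1) :
    ∃ c : G, c * x = x * c ∧ c * z * c⁻¹ = φ d := by
  have hdd : d * d = 1 := R.inj (by rw [map_mul, map_one, hd])
  obtain ⟨p, q, hpq, hp, hq, -, -⟩ := R.pts
  have hb := D.base
  have hax : a * x = x * a := R.hs0 ▸ R.comm _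
  have hbx : b * x = x * b := R.hs1 ▸ R.comm _
  obtain ⟨c1, h1, h1'⟩ := R.fuse_za
  obtain ⟨c2, h2, h2'⟩ := R.swap_roles
  have hba : b * (z * a) * b⁻¹ = a := by
    rw [mul_inv_eq_iff_eq_mul, ← hp, ← hq, ← mul_assoc, hb.zc (D.mem q), mul_assoc, D.noncomm p q hpq,
      hb.mulZ_inv]
  have hab : a * (z * b) * a⁻¹ = b := by
    rw [mul_inv_eq_iff_eq_mul, ← hp, ← hq, ← mul_assoc, hb.zc (D.mem p), mul_assoc, D.noncomm q p hpq.symm,
      hb.mulZ_inv]
  rcases d8_cases d hdd with r | r | r | r | r | r <;> subst r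
  · exact absurd (map_one φ) hd1
  · exact ⟨1, by simp, by rw [R.hr]; group⟩
  · exact ⟨b * c1, Commute.mul_left hbx h1, by
      rw [R.hs0, show b * c1 * z * (b * c1)⁻¹ = b * (c1 * z * c1⁻¹) * b⁻¹ by group, h1', hba]⟩
  · exact ⟨a * c2, Commute.mul_left hax h2, by
      rw [R.hs1, show a * c2 * z * (a * c2)⁻¹ = a * (c2 * z * c2⁻¹) * a⁻¹ by group, h2', hab]⟩
  · exact ⟨c1, h1, by rw [R.hs2, h1']⟩
  · exact ⟨c2, h2, by rw [R.hs3, h2']⟩

/-- All involutions of `C(x)` are conjugate in `C(x)` to `z`. -/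
theorem invol_conj (R : RSet D x a b φ) {u : G} (hux : u * x = x * u) (huu : u * u = 1) (hu1 : u ≠ 1) :
    ∃ c : G, c * x = x * c ∧ c * z * c⁻¹ = u := by
  haveI : Fact (Nat.Prime 2) := ⟨Nat.prime_two⟩
  set K := centralizer ({x} : Set G) with hK
  set P := φ.range with hP
  have hPK : P ≤ K := by rintro _ ⟨d, rfl⟩; exact mem_centralizer_singleton_iff.mpr (R.comm d)
  have hPcard : Nat.card (P.subgroupOf K) = 2 ^ 3 := by
    rw [Nat.card_congr (subgroupOfEquivOfLe hPK).toEquiv,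
      ← Nat.card_congr (MonoidHom.ofInjective R.inj).toEquiv, Nat.card_eq_fintype_card, DihedralGroup.card]
    norm_num
  have h16 : ¬ 2 ^ 4 ∣ Nat.card K := by
    intro hd
    obtain ⟨T, hT, hPT⟩ := Sylow.exists_subgroup_card_pow_succ (p := 2) (n := 3) hd hPcard
    have hidx : ((P.subgroupOf K).subgroupOf T).index = 2 := by
      have := ((P.subgroupOf K).subgroupOf T).card_mul_index
      rw [Nat.card_congr (subgroupOfEquivOfLe hPT).toEquiv, hPcard, hT] at this
      omega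
    haveI := normal_of_index_eq_two hidx
    have hfix : ∀ r ∈ T, (r : G) * z * (r : G)⁻¹ = z := by
      intro r hr
      have hw : φ (.r 1) ∈ P := ⟨_, rfl⟩
      have hwT : (⟨φ (.r 1), hPK hw⟩ : K) ∈ T := hPT hw
      obtain ⟨d, hd⟩ := (inferInstance : ((P.subgroupOf K).subgroupOf T).Normal).conj_mem
        ⟨⟨φ (.r 1), hPK hw⟩, hwT⟩ hw ⟨r, hr⟩
      have hd' : φ d = (r : G) * φ (.r 1) * (r : G)⁻¹ := hd
      have e : (r : G) * z * (r : G)⁻¹ = φ (d * d) := by
        rw [map_mul, hd', ← R.hr, show (DihedralGroup.r 2 : DihedralGroup 4) = .r 1 * .r 1 from rfl, map_mul]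
        group
      rcases d8_sq d with h | h
      · rw [h, map_one] at e
        exact absurd (conj_eq_one_iff.mp e) D.base.z_ne_one
      · rwa [h, R.hr] at e
    have hle : T.map K.subtype ≤ centralizer ({z} : Set G) ⊓ K := by
      rintro _ ⟨r, hr, rfl⟩
      exact mem_inf.mpr ⟨mem_centralizer_singleton_iff.mpr (mul_inv_eq_iff_eq_mul.mp (hfix r hr)), r.2⟩
    have := card_dvd_of_le hle
    rw [R.card_zx, ← Nat.card_congr (T.equivMapOfInjective _ K.subtype_injective).toEquiv, hT] at this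
    norm_num at this
  have hidx : ¬ 2 ∣ (P.subgroupOf K).index := by
    intro hd
    apply h16
    rw [← (P.subgroupOf K).card_mul_index, hPcard]
    obtain ⟨m, hm⟩ := hd
    exact ⟨m, by rw [hm]; ring⟩
  have hp : IsPGroup 2 (P.subgroupOf K) := IsPGroup.of_card hPcard
  set u' : K := ⟨u, mem_centralizer_singleton_iff.mpr hux⟩
  have hu2 : IsPGroup 2 (zpowers u') := IsPGroup.of_card (n := 1) (by
    rw [Nat.card_zpowers, ← orderOf_coe, pow_one]
    exact orderOf_eq_prime (by rw [pow_two]; exact huu) hu1)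
  obtain ⟨T, hT⟩ := hu2.exists_le_sylow
  obtain ⟨h, hh⟩ := MulAction.exists_smul_eq K T (hp.toSylow hidx)
  have hmem : h * u' * h⁻¹ ∈ P.subgroupOf K := by
    have : h * u' * h⁻¹ ∈ ((h • T : Sylow 2 K) : Subgroup K) := by
      rw [Sylow.coe_subgroup_smul, mem_pointwise_smul_iff_inv_smul_mem, MulAut.smul_def]
      simp only [← map_inv, MulAut.conj_apply, inv_inv]
      convert hT (mem_zpowers _) using 1
      group
    rw [hh] at this
    exact this
  obtain ⟨d, hd⟩ := hmem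
  have hd' : φ d = (h : G) * u * (h : G)⁻¹ := hd
  obtain ⟨c, hc, e⟩ := R.z_conj (d := d)
    (by rw [hd', show (h : G) * u * (h : G)⁻¹ * ((h : G) * u * (h : G)⁻¹) = h * (u * u) * (h : G)⁻¹ by group,
      huu]; group)
    (by rw [hd']; exact fun e => hu1 (conj_eq_one_iff.mp e))
  refine ⟨(h : G)⁻¹ * c, Commute.mul_left (Commute.inv_left (mem_centralizer_singleton_iff.mp h.2)) hc, ?_⟩
  rw [show (h : G)⁻¹ * c * z * ((h : G)⁻¹ * c)⁻¹ = (h : G)⁻¹ * (c * z * c⁻¹) * h by group, e, hd']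
  group

/-- The quotient has one class of involutions, with dihedral centraliser. -/
theorem quot_hyp (R : RSet D x a b φ) :
    orderOf (qm x R.hxc.symm) = 2 ∧
    Nonempty (↥(centralizer ({qm x R.hxc.symm} : Set (CQ x))) ≃* DihedralGroup 4) ∧
    ∀ v : CQ x, orderOf v = 2 → IsConj (qm x R.hxc.symm) v := by
  have hzz := D.base.zz
  have hz1 : qm x R.hxc.symm ≠ 1 := fun e =>
    D.base.z_ne_one (eq_one_of_invol R.odd_order ((qm_eq_one _).mp e) hzz)
  refine ⟨orderOf_eq_prime (by rw [pow_two, qm_mul]; exact (qm_eq_one _).mpr (by rw [hzz]; exact one_mem _)) hz1,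
    ?_, fun v hv => ?_⟩
  · obtain ⟨e⟩ := cent_equiv (H := φ.range) R.odd_order R.hxc.symm hzz
      (fun c ⟨d, hd⟩ => hd ▸ ⟨R.comm d, D.base.zc (R.mem d)⟩)
      (fun c ⟨d, hd⟩ hc => hd ▸ R.disj (hd ▸ hc)) (fun c hc hcz => by
        obtain ⟨w, hw, d, rfl⟩ := R.cov c hc hcz
        exact ⟨w, hw, φ d, ⟨d, rfl⟩, rfl⟩)
    exact ⟨e.symm.trans (MonoidHom.ofInjective R.inj).symm⟩
  · have hv2 : v * v = 1 := by rw [← pow_two, ← hv, pow_orderOf_eq_one]
    have hv1 : v ≠ 1 := fun e => by rw [e, orderOf_one] at hv; omega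
    obtain ⟨u, hu, huu, hu1, rfl⟩ := exists_invol_lift R.odd_order hv2 hv1
    obtain ⟨c, hc, e⟩ := R.invol_conj hu huu hu1
    refine isConj_iff.mpr ⟨qm x hc, ?_⟩
    show qm x (c := c * z * c⁻¹) (Commute.mul_left (Commute.mul_left hc R.hxc.symm) (Commute.inv_left hc)) = qm x hu
    exact qm_congr _ _ e

theorem card_cases (R : RSet D x a b φ) :
    Nat.card (CQ x) = 168 ∨ Nat.card (CQ x) = 360 := by
  classical
  haveI := Fintype.ofFinite (CQ x)
  obtain ⟨h1, ⟨e⟩, h3⟩ := R.quot_hyp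
  exact H65.DihedralEight.card_eq _ e h1 h3

end RSet

namespace LSet

variable {D : JSet z Q} {t a σ : G} {L : Subgroup G}

theorem exists_pi (S : LSet D t a σ L) :
    ∃ π ∈ kGroup z t σ L, orderOf π = 3 ∧ π * t ≠ t * π ∧ π * z = z * π ∧ ∀ l ∈ L, π * l = l * π := by
  haveI : Fact (Nat.Prime 3) := ⟨by norm_num⟩
  obtain ⟨h12, -, hKt, -, -⟩ := S.k_props
  obtain ⟨⟨π, hπ⟩, ho⟩ := exists_prime_orderOf_dvd_card' (G := kGroup z t σ L) 3 (by rw [h12]; norm_num)
  rw [orderOf_mk] at ho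
  have hc : ∀ l ∈ L, π * l = l * π := fun l hl => (mem_centralizer_iff.mp (mem_inf.mp hπ).2 l hl).symm
  refine ⟨π, hπ, ho, fun e => ?_, hc z S.hzL, hc⟩
  have hb := hKt π hπ e
  have h2 := orderOf_dvd_of_pow_eq_one (show π ^ 2 = 1 by rw [pow_two]; exact S.bsq hb)
  rw [ho] at h2
  norm_num at h2

end LSet

/-- Elements of order three of `C` generate conjugate subgroups. -/
theorem JSet.three_conj (D : JSet z Q) {x y : G} (hx : orderOf x = 3) (hxc : x * z = z * x)
    (hy : orderOf y = 3) (hyc : y * z = z * y) :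
    ∃ c : G, c * z = z * c ∧ c * y * c⁻¹ ∈ zpowers x := by
  haveI : Fact (Nat.Prime 3) := ⟨by norm_num⟩
  set C := centralizer ({z} : Set G) with hC
  set x' : C := ⟨x, mem_centralizer_singleton_iff.mpr hxc⟩
  set y' : C := ⟨y, mem_centralizer_singleton_iff.mpr hyc⟩
  have hxo : Nat.card (zpowers x') = 3 := by rw [Nat.card_zpowers, ← orderOf_coe]; exact hx
  have hyo : Nat.card (zpowers y') = 3 := by rw [Nat.card_zpowers, ← orderOf_coe]; exact hy
  have hidx : ¬ 3 ∣ (zpowers x').index := by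
    intro h
    have h1 := (zpowers x').card_mul_index
    rw [hxo, D.base.cardC] at h1
    obtain ⟨m, hm⟩ := h
    omega
  have hp : IsPGroup 3 (zpowers x') := IsPGroup.of_card (n := 1) (by rw [hxo]; norm_num)
  obtain ⟨T, hT⟩ := (IsPGroup.of_card (G := zpowers y') (n := 1) (by rw [hyo]; norm_num) :
    IsPGroup 3 (zpowers y')).exists_le_sylow
  obtain ⟨h, hh⟩ := MulAction.exists_smul_eq C T (hp.toSylow hidx)
  have hmem : h * y' * h⁻¹ ∈ zpowers x' := by
    have : h * y' * h⁻¹ ∈ ((h • T : Sylow 3 C) : Subgroup C) := by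
      rw [Sylow.coe_subgroup_smul, mem_pointwise_smul_iff_inv_smul_mem, MulAut.smul_def]
      simp only [← map_inv, MulAut.conj_apply, inv_inv]
      convert hT (mem_zpowers _) using 1
      group
    rw [hh] at this
    exact this
  obtain ⟨k, hk⟩ := mem_zpowers_iff.mp hmem
  exact ⟨h, mem_centralizer_singleton_iff.mp h.2, mem_zpowers_iff.mpr ⟨k, congrArg Subtype.val hk⟩⟩

theorem cen_eq_of_mem_zpowers {x y : G} (hy : y ∈ zpowers x) (hxy : x ∈ zpowers y) :
    centralizer ({x} : Set G) = centralizer ({y} : Set G) := by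
  ext c
  rw [mem_centralizer_singleton_iff, mem_centralizer_singleton_iff]
  exact ⟨comm_of_mem_zpowers hy, comm_of_mem_zpowers hxy⟩

theorem card_cen_conj (g x : G) : Nat.card ↥(centralizer ({g * x * g⁻¹} : Set G)) =
    Nat.card ↥(centralizer ({x} : Set G)) := by
  rw [← cen_map, ← Nat.card_congr ((centralizer ({x} : Set G)).equivMapOfInjective _
    (MulAut.conj g).injective).toEquiv]

theorem zpowers_eq_of_prime {x y : G} {p : ℕ} (hp : p.Prime) (hx : orderOf x = p) (hy : y ∈ zpowers x)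
    (hy1 : y ≠ 1) : zpowers y = zpowers x := by
  refine eq_of_le_of_card_ge (zpowers_le.mpr hy) ?_
  rw [Nat.card_zpowers, Nat.card_zpowers, hx]
  have h := orderOf_dvd_of_mem_zpowers hy
  rw [hx] at h
  rcases (Nat.dvd_prime hp).mp h with e | e
  · exact absurd (orderOf_eq_one_iff.mp e) hy1
  · omega

/-- The centraliser of any element of order three of `C`. -/
theorem JSet.card_cen_three (D : JSet z Q) {x : G} (hx : orderOf x = 3) (hxc : x * z = z * x) :
    Nat.card (CQ x) = 360 ∧ Nat.card ↥(centralizer ({x} : Set G)) = 1080 := by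
  obtain ⟨a, b, φ, R⟩ := D.exists_rset hx hxc
  have hX : Nat.card (CQ x) = 360 := by
    refine R.card_cases.resolve_left fun h168 => ?_
    obtain ⟨t, htt, htz, htQ⟩ := D.exists_t
    obtain ⟨a', σ, L, S⟩ := D.exists_lset htt htz htQ
    obtain ⟨π, -, hπ, -, hπz, hπL⟩ := S.exists_pi
    obtain ⟨c, hc, hmem⟩ := D.three_conj hx hxc hπ hπz
    have hne : c * π * c⁻¹ ≠ 1 := fun e => by rw [conj_eq_one_iff.mp e, orderOf_one] at hπ; omega
    have hz' := zpowers_eq_of_prime (by norm_num) hx hmem hne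
    have hcc := cen_eq_of_mem_zpowers hmem (hz' ▸ mem_zpowers x)
    have hπc := card_cen_conj c π
    rw [← hcc] at hπc
    have h60 : 60 ∣ Nat.card ↥(centralizer ({π} : Set G)) := by
      rw [← S.h60]
      exact card_dvd_of_le fun l hl => mem_centralizer_singleton_iff.mpr (hπL l hl).symm
    rw [← hπc, card_cq, hx, h168] at h60
    norm_num at h60
  exact ⟨hX, by rw [card_cq, hx, hX]⟩

/-- `C(x)/⟨x⟩ ≅ A₆`. -/
theorem JSet.quot_three (D : JSet z Q) {x : G} (hx : orderOf x = 3) (hxc : x * z = z * x) :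
    IsSimpleGroup (CQ x) ∧ Nonempty (CQ x ≃* alternatingGroup (Fin 6)) := by
  classical
  obtain ⟨a, b, φ, R⟩ := D.exists_rset hx hxc
  haveI := Fintype.ofFinite (CQ x)
  obtain ⟨h1, ⟨e⟩, h3⟩ := R.quot_hyp
  haveI := H65.DihedralFusion.isSimpleGroup e h1 h3
  exact ⟨this, Cfsg.Agent.S0497.result (D.card_cen_three hx hxc).1⟩

end Cfsg.Agent.H43.JTwo
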